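import Cfsg.Agent.Lib.ExtraSpS3.EightModel

/-!
The two classes of involutions of the alternating group of degree eight.
-/
set_option autoImplicit false
set_option maxRecDepth 20000

namespace CfsgLib.ExtraSpS3.EightModel

open Equiv

theorem sign_w2 : Equiv.Perm.sign w2 = 1 := by decide +kernel

theorem sign_w4 : Equiv.Perm.sign w4 = 1 := by decide +kernel

/-- an involution of the alternating group is conjugate there to `w2` or to `w4` -/
theorem alt_invol {v : P8} (hv : v ∈ alternatingGroup (Fin 8)) (h2 : v * v = 1) (h1 : v ≠ 1) :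
    IsTwo v ∨ ∃ g ∈ alternatingGroup (Fin 8), g * w4 * g⁻¹ = v := by
  have ho : orderOf v = 2 := orderOf_eq_prime (by rw [pow_two, h2]) h1
  obtain ⟨n, hn⟩ := Equiv.Perm.cycleType_prime_order (σ := v) (by rw [ho]; exact Nat.prime_two)
  rw [ho] at hn
  have hle := Equiv.Perm.sum_cycleType_le v
  rw [hn, Multiset.sum_replicate, Fintype.card_fin, smul_eq_mul] at hle
  have hs := Equiv.Perm.sign_of_cycleType v
  rw [Equiv.Perm.mem_alternatingGroup.1 hv, hn, Multiset.sum_replicate, Multiset.card_replicate,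
    smul_eq_mul] at hs
  have hn' : n = 1 ∨ n = 3 := by
    have hev : Even ((n + 1) * 2 + (n + 1)) := (neg_one_pow_eq_one_iff_even (by decide)).1 hs.symm
    obtain ⟨k, hk⟩ := hev
    omega
  have hconj : ∀ w : P8, IsConj w v → (∃ c : P8, c * w = w * c ∧ Equiv.Perm.sign c = -1) →
      ∃ g ∈ alternatingGroup (Fin 8), g * w * g⁻¹ = v := by
    intro w h hc
    obtain ⟨g, hg⟩ := isConj_iff.1 h
    rcases Int.units_eq_one_or (Equiv.Perm.sign g) with e | e
    · exact ⟨g, Equiv.Perm.mem_alternatingGroup.2 e, hg⟩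
    · obtain ⟨c, hcw, hcs⟩ := hc
      refine ⟨g * c, Equiv.Perm.mem_alternatingGroup.2 (by rw [map_mul, e, hcs]; decide), ?_⟩
      calc g * c * w * (g * c)⁻¹ = g * (c * w) * c⁻¹ * g⁻¹ := by group
        _ = g * (w * c) * c⁻¹ * g⁻¹ := by rw [hcw]
        _ = v := by rw [← hg]; group
  rcases hn' with rfl | rfl
  · left
    refine hconj w2 (Equiv.Perm.isConj_iff_cycleType_eq.2 ?_) ⟨swap 0 1, by decide +kernel, by decide +kernel⟩
    rw [hn]; decide +kernel
  · right
    refine hconj w4 (Equiv.Perm.isConj_iff_cycleType_eq.2 ?_) ⟨swap 0 1, by decide +kernel, by decide +kernel⟩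
    rw [hn]; decide +kernel

/-- the centraliser of `w2` in the alternating group has `96` elements -/
theorem card_cent_two :
    Nat.card {p : P8 // p ∈ alternatingGroup (Fin 8) ∧ p * w2 = w2 * p} = 96 := by
  have hnd : evenList.toFinset.card = 96 := by decide +kernel
  have hmem : evenList.all (fun p => decide (Equiv.Perm.sign p = 1) && decide (p * w2 = w2 * p)) = true := by
    decide +kernel
  rw [← hnd, ← Fintype.card_coe, ← Nat.card_eq_fintype_card]
  refine Nat.card_congr (Equiv.subtypeEquivRight fun p => ?_)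
  rw [List.mem_toFinset]
  refine ⟨fun h => even_complete h.2 (Equiv.Perm.mem_alternatingGroup.1 h.1), fun h => ?_⟩
  have := List.all_eq_true.1 hmem p h
  rw [Bool.and_eq_true, decide_eq_true_eq, decide_eq_true_eq] at this
  exact ⟨Equiv.Perm.mem_alternatingGroup.2 this.1, this.2⟩

theorem w2_fix : ∃ x, w2 x = x := ⟨4, by decide⟩

theorem w4_free : ∀ x, w4 x ≠ x := by decide +kernel

/-- the double transpositions used to fix two given points -/
def doubleList : List P8 :=
  [(0, 1, 2, 3), (4, 5, 6, 7), (0, 1, 4, 5), (2, 3, 6, 7), (0, 2, 4, 6), (1, 3, 5, 7), (0, 3, 4, 7),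
    (1, 2, 5, 6), (0, 1, 6, 7), (2, 3, 4, 5), (0, 2, 5, 7), (1, 3, 4, 6), (0, 3, 5, 6), (1, 2, 4, 7)].map
    fun q : Fin 8 × Fin 8 × Fin 8 × Fin 8 => swap q.1 q.2.1 * swap q.2.2.1 q.2.2.2

theorem exists_double (i k : Fin 8) :
    ∃ v ∈ alternatingGroup (Fin 8), v * v = 1 ∧ v ≠ 1 ∧ v i = i ∧ v k = k := by
  have h : ∀ i k : Fin 8, (doubleList.any fun v => decide (Equiv.Perm.sign v = 1) && decide (v * v = 1) &&
      decide (v ≠ 1) && decide (v i = i) && decide (v k = k)) = true := by decide +kernel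
  obtain ⟨v, -, hv⟩ := List.any_eq_true.1 (h i k)
  simp only [Bool.and_eq_true, decide_eq_true_eq] at hv
  exact ⟨v, Equiv.Perm.mem_alternatingGroup.2 hv.1.1.1.1, hv.1.1.1.2, hv.1.1.2, hv.1.2, hv.2⟩

end CfsgLib.ExtraSpS3.EightModel
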