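import Cfsg.Agent.Lib.ExtraSpS3.Inj
import Cfsg.Agent.Lib.LargeExtra.Basic
import Mathlib.GroupTheory.Sylow

/-!
From the hypotheses `L = C(s)`, `Q = O₂(L)` extraspecial of order `32`, `L/Q ≅ Sym(3)` and `C_Q(X) = ⟨s⟩`
to generators and relations.
-/
set_option autoImplicit false
set_option maxRecDepth 10000

namespace CfsgLib.ExtraSpS3

/-- the hypotheses in elementwise form -/
structure Base (G : Type*) [Group G] (s : G) where
  /-- the normal extraspecial subgroup -/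
  Q : Subgroup G
  /-- an element of order three -/
  x : G
  s_ne : s ≠ 1
  s_sq : s * s = 1
  s_mem : s ∈ Q
  card_Q : Nat.card Q = 32
  card_L : Nat.card (Subgroup.centralizer ({s} : Set G)) = 192
  Q_cent : ∀ q ∈ Q, q * s = s * q
  Q_conj : ∀ g, g * s = s * g → ∀ q ∈ Q, g * q * g⁻¹ ∈ Q
  comm : ∀ p ∈ Q, ∀ q ∈ Q, p * q = q * p ∨ p * q = s * (q * p)
  noncentral : ∀ q ∈ Q, q ≠ 1 → q ≠ s → ∃ r ∈ Q, q * r ≠ r * q
  sq : ∀ q ∈ Q, q * q = 1 ∨ q * q = s
  x_s : x * s = s * x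
  x_cube : x * x * x = 1
  x_fix : ∀ q ∈ Q, x * q = q * x → q = 1 ∨ q = s
  inverts : ∀ g, g * s = s * g → g * g ∈ Q → g ∉ Q → g * x * g⁻¹ * x ∈ Q

theorem exists_base {G : Type*} [Group G] [Finite G]
    (s : G) (hs : orderOf s = 2) (L : Subgroup G) (hL : L = Subgroup.centralizer ({s} : Set G))
    (Q : Subgroup G) (hQ : Q = (Cfsg.pCore 2 L).map L.subtype)
    (hQex : Cfsg.IsExtraspecial 2 Q) (hQcard : Nat.card Q = 32)
    (e : L ⧸ Cfsg.pCore 2 L ≃* Equiv.Perm (Fin 3))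
    (X : Sylow 3 L)
    (hCQX : Q ⊓ Subgroup.centralizer (((X : Subgroup L).map L.subtype : Subgroup G) : Set G) =
      Subgroup.zpowers s) :
    ∃ B : Base G s, B.Q = Q := by
  haveI : Fact (Nat.Prime 3) := ⟨Nat.prime_three⟩
  have hsq : s * s = 1 := by rw [← pow_two, ← hs, pow_orderOf_eq_one]
  have hsne : s ≠ 1 := fun h => by rw [h, orderOf_one] at hs; omega
  have hmemL : ∀ g, g ∈ L ↔ g * s = s * g := fun g => by
    rw [hL, Subgroup.mem_centralizer_singleton_iff]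
  have hsQ : s ∈ Q := by
    have : s ∈ Q ⊓ Subgroup.centralizer (((X : Subgroup L).map L.subtype : Subgroup G) : Set G) := by
      rw [hCQX]; exact Subgroup.mem_zpowers s
    exact this.1
  have hQL : Q ≤ L := hQ ▸ Subgroup.map_subtype_le _
  have hQc : ∀ q ∈ Q, q * s = s * q := fun q hq => (hmemL q).1 (hQL hq)
  have hzs : ∀ y ∈ Subgroup.zpowers s, y = 1 ∨ y = s := by
    rintro y ⟨k, rfl⟩
    show s ^ k = 1 ∨ s ^ k = s
    have h2 : s ^ (2 : ℤ) = 1 := by rw [zpow_two, hsq]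
    rcases Int.even_or_odd' k with ⟨m, rfl | rfl⟩
    · left; rw [zpow_mul, h2, one_zpow]
    · right; rw [zpow_add, zpow_mul, h2, one_zpow, one_mul, zpow_one]
  have hcen : ∀ q : Q, q ∈ Subgroup.center Q → (q : G) = 1 ∨ (q : G) = s := by
    have hsC : (⟨s, hsQ⟩ : Q) ∈ Subgroup.center Q :=
      Subgroup.mem_center_iff.2 fun g => Subtype.ext (hQc g g.2)
    intro q hq
    by_contra hne
    push Not at hne
    haveI : Fintype (Subgroup.center Q) := Fintype.ofFinite _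
    have h3 : 2 < Nat.card (Subgroup.center Q) := by
      rw [Nat.card_eq_fintype_card, Fintype.two_lt_card_iff]
      refine ⟨1, ⟨_, hsC⟩, ⟨q, hq⟩, fun h => ?_, fun h => ?_, fun h => ?_⟩ <;>
        have h' := congrArg (fun w : Subgroup.center Q => ((w : Q) : G)) h
      · exact hsne h'.symm
      · exact hne.1 h'.symm
      · exact hne.2 h'.symm
    have := hQex.2
    omega
  have hcomm : ∀ p ∈ Q, ∀ q ∈ Q, p * q = q * p ∨ p * q = s * (q * p) := by
    intro p hp q hq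
    have h : (⟨p, hp⟩ : Q) * ⟨q, hq⟩ * (⟨p, hp⟩ : Q)⁻¹ * (⟨q, hq⟩ : Q)⁻¹ ∈ Subgroup.center Q := by
      rw [← hQex.1.2.2, commutator_def]
      exact Subgroup.commutator_mem_commutator trivial trivial
    rcases hcen _ h with h1 | h1
    · left
      have : p * q * p⁻¹ * q⁻¹ = 1 := h1
      rwa [mul_inv_eq_one, mul_inv_eq_iff_eq_mul] at this
    · right
      have : p * q * p⁻¹ * q⁻¹ = s := h1
      rwa [mul_inv_eq_iff_eq_mul, mul_inv_eq_iff_eq_mul, mul_assoc] at this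
  have hsq2 : ∀ q ∈ Q, q * q = 1 ∨ q * q = s := by
    intro q hq
    refine hcen ⟨q * q, mul_mem hq hq⟩ (Subgroup.mem_center_iff.2 fun r => Subtype.ext ?_)
    show (r : G) * (q * q) = q * q * r
    rcases hcomm _ r.2 q hq with h | h
    · rw [← mul_assoc, h, mul_assoc, h, mul_assoc]
    · rw [← mul_assoc, h, mul_assoc, mul_assoc, h, ← mul_assoc q s, hQc q hq, mul_assoc s q, ← mul_assoc s s,
        hsq, one_mul, mul_assoc]
  have hnon : ∀ q ∈ Q, q ≠ 1 → q ≠ s → ∃ r ∈ Q, q * r ≠ r * q := by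
    intro q hq h1 h2
    by_contra hno
    push Not at hno
    rcases hcen ⟨q, hq⟩ (Subgroup.mem_center_iff.2 fun r => Subtype.ext (hno r r.2).symm) with h | h
    · exact h1 h
    · exact h2 h
  have hQn : ∀ g, g * s = s * g → ∀ q ∈ Q, g * q * g⁻¹ ∈ Q := by
    intro g hg q hq
    rw [hQ] at hq ⊢
    obtain ⟨w, hw, rfl⟩ := hq
    exact ⟨⟨g, (hmemL g).2 hg⟩ * w * (⟨g, (hmemL g).2 hg⟩ : L)⁻¹,
      (CfsgLib.LargeExtra.pCore_normal' 2 L).conj_mem w hw _, rfl⟩
  have hcP : Nat.card (Cfsg.pCore 2 L) = 32 := by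
    rw [← hQcard, hQ, Subgroup.card_map_of_injective L.subtype_injective]
  have hcL : Nat.card L = 192 := by
    rw [Subgroup.card_eq_card_quotient_mul_card_subgroup (Cfsg.pCore 2 L), hcP, Nat.card_congr e.toEquiv,
      Nat.card_perm, Nat.card_eq_fintype_card, Fintype.card_fin]
    rfl
  have hX : Nat.card (X : Subgroup L) = 3 := by
    rw [X.card_eq_multiplicity, hcL]
    norm_num [Nat.factorization_def _ Nat.prime_three]
    rw [show (192 : ℕ) = 3 * 64 by norm_num, padicValNat.mul (by norm_num) (by norm_num),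
      padicValNat.self (by norm_num), padicValNat.eq_zero_of_not_dvd (by norm_num)]
    norm_num
  haveI : IsCyclic (X : Subgroup L) := isCyclic_of_prime_card hX
  obtain ⟨⟨⟨x, hxL⟩, hxX⟩, hgen⟩ := isCyclic_iff_exists_zpowers_eq_top.mp ‹IsCyclic (X : Subgroup L)›
  refine ⟨{ Q := Q, x := x, s_ne := hsne, s_sq := hsq, s_mem := hsQ, card_Q := hQcard,
            card_L := hL ▸ hcL, Q_cent := hQc, Q_conj := hQn, comm := hcomm, noncentral := hnon, sq := hsq2,
            x_s := (hmemL x).1 hxL, x_cube := ?_, x_fix := ?_, inverts := ?_ }, rfl⟩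
  · have := pow_card_eq_one' (G := (X : Subgroup L)) (x := ⟨⟨x, hxL⟩, hxX⟩)
    rw [hX] at this
    have h' : x ^ 3 = 1 := congrArg (fun w : (X : Subgroup L) => ((w : L) : G)) this
    rwa [pow_succ, pow_two] at h'
  · intro q hq hxq
    refine hzs q ?_
    rw [← hCQX]
    refine ⟨hq, Subgroup.mem_centralizer_iff.2 ?_⟩
    rintro _ ⟨y, hy, rfl⟩
    have : (⟨y, hy⟩ : (X : Subgroup L)) ∈ Subgroup.zpowers ⟨⟨x, hxL⟩, hxX⟩ := by
      rw [hgen]; trivial
    obtain ⟨k, hk⟩ := this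
    have hy' : (y : G) = x ^ k := by
      rw [← congrArg (fun w : (X : Subgroup L) => ((w : L) : G)) hk]
      simp
    show (y : G) * q = q * y
    rw [hy']
    exact (show Commute x q from hxq).zpow_left k
  · intro g hg hgg hgQ
    have hx3 : (⟨x, hxL⟩ : L) ^ 3 = 1 := by
      have := pow_card_eq_one' (G := (X : Subgroup L)) (x := ⟨⟨x, hxL⟩, hxX⟩)
      rw [hX] at this
      exact congrArg Subtype.val this
    have hxne : (⟨x, hxL⟩ : L) ≠ 1 := by
      intro h0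
      have : orderOf (⟨⟨x, hxL⟩, hxX⟩ : (X : Subgroup L)) = 3 := by
        rw [orderOf_eq_card_of_zpowers_eq_top hgen, hX]
      rw [← Subgroup.orderOf_coe] at this
      change orderOf (⟨x, hxL⟩ : L) = 3 at this
      rw [h0, orderOf_one] at this
      omega
    haveI : (Cfsg.pCore 2 L).Normal := CfsgLib.LargeExtra.pCore_normal' 2 L
    have hxC : (⟨x, hxL⟩ : L) ∉ Cfsg.pCore 2 L := by
      intro h0
      have hd := Subgroup.orderOf_dvd_natCard _ h0
      rw [hcP, orderOf_eq_prime hx3 hxne] at hd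
      norm_num at hd
    have hmem : ∀ w : L, (w : G) ∈ Q ↔ w ∈ Cfsg.pCore 2 L := fun w => by
      rw [hQ, Subgroup.mem_map]
      exact ⟨fun ⟨v, hv, hvw⟩ => Subtype.ext hvw ▸ hv, fun h => ⟨w, h, rfl⟩⟩
    let gL : L := ⟨g, (hmemL g).2 hg⟩
    let xL : L := ⟨x, hxL⟩
    let pr : L →* Equiv.Perm (Fin 3) :=
      e.toMonoidHom.comp (QuotientGroup.mk' (Cfsg.pCore 2 L))
    have hker : ∀ w : L, pr w = 1 ↔ w ∈ Cfsg.pCore 2 L := fun w => by
      show e (QuotientGroup.mk' _ w) = 1 ↔ _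
      rw [map_eq_one_iff e e.injective]
      exact QuotientGroup.eq_one_iff w
    have key : ∀ a b : Equiv.Perm (Fin 3), a ^ 3 = 1 → a ≠ 1 → b * b = 1 → b ≠ 1 → b * a * b⁻¹ * a = 1 := by
      decide +kernel
    have := key (pr xL) (pr gL) (by rw [← map_pow]; show pr ((⟨x, hxL⟩ : L) ^ 3) = 1; rw [hx3, map_one])
      (fun h0 => hxC ((hker xL).1 h0)) (by rw [← map_mul, hker, ← hmem]; exact hgg)
      (fun h0 => hgQ ((hmem gL).2 ((hker gL).1 h0)))
    rw [← map_inv, ← map_mul, ← map_mul, ← map_mul, hker, ← hmem] at this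
    exact this

end CfsgLib.ExtraSpS3
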