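import Cfsg.Agent.Lib.ExtraSpS3.Frame
import Cfsg.Agent.Lib.MTwelveCent.Model

/-!
In the case `P` the centraliser is that of a 2-central involution of the group of Mathieu on twelve points.
-/
set_option autoImplicit false
set_option maxRecDepth 10000

namespace CfsgLib.ExtraSpS3

/-- packed map from the symbols of `MTwelveCent` to the present ones -/
def bridgeLit : ℕ := 236489607367573267595605616967313967442893382388135321483418337672177847583166653130624063592701375367343606210173582383964933062821689989292711163035816062936946010669040522111960447289394290999925842868496227408041039075456254522923282015888370519981027113000455647450817780512690815222911855967323657782647962248005421509611667685747170910766601146894042289638717698017618666485470451939085883816810765698042420450211347433335361643742576466163339121467328256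

/-- the map from the symbols of `MTwelveCent` to the present ones -/
def bridgeN (i : ℕ) : ℕ := (bridgeLit >>> (8 * i)) % 256

theorem bridgeN_lt {i : ℕ} (h : i < 192) : bridgeN i < 192 := by
  have hd : allB 192 (fun i => decide (bridgeN i < 192)) = true := by decide +kernel
  exact of_decide_eq_true (allB_spec hd h)

theorem bridgeN_mul {i j : ℕ} (hi : i < 192) (hj : j < 192) :
    bridgeN (MTwelveCent.mulN i j) = mulS true (bridgeN i) (bridgeN j) := by
  have hd : allB 192 (fun i => allB 192 fun j =>
      bridgeN (MTwelveCent.mulN i j) == mulS true (bridgeN i) (bridgeN j)) = true := by decide +kernel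
  exact eq_of_beq (allB_spec (allB_spec hd hi) hj)

theorem bridgeN_inj {i j : ℕ} (hi : i < 192) (hj : j < 192) (h : bridgeN i = bridgeN j) : i = j := by
  have hd : allB 192 (fun i => allB 192 fun j => bridgeN i != bridgeN j || i == j) = true := by decide +kernel
  have := allB_spec (allB_spec hd hi) hj
  simpa [h] using this

theorem bridge {G : Type*} [Group G] {s a g : G} (F : Frame true G s) {i : ℕ} (hi : i < 32)
    (ha : F.elQ i = a) (hg : g * s * g⁻¹ = a) (has : a ≠ s) :
    ∃ M : MTwelveCent.Model G s, ∃ (j : Fin 192) (g : G),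
      (MTwelveCent.typ j = 2 ∨ MTwelveCent.typ j = 4) ∧ g * s * g⁻¹ = M.el j := by
  have hsur : ∀ k < 192, ∃ j : Fin 192, bridgeN j = k := by
    intro k hk
    obtain ⟨j, hj⟩ := (Function.Injective.bijective_of_nat_card_le
      (f := fun j : Fin 192 => (⟨bridgeN j, bridgeN_lt j.2⟩ : Fin 192))
      (fun a b h => Fin.ext (bridgeN_inj a.2 b.2 (congrArg Fin.val h))) le_rfl).2 ⟨k, hk⟩
    exact ⟨j, congrArg Fin.val hj⟩
  let M : MTwelveCent.Model G s :=
    { el := fun j => F.el (bridgeN j)
      inj := fun a b h => Fin.ext (bridgeN_inj a.2 b.2 (F.el_inj (bridgeN_lt a.2) (bridgeN_lt b.2) h))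
      map_mul := fun a b => by
        show F.el (bridgeN (MTwelveCent.fmul a b : ℕ)) = _
        rw [MTwelveCent.fmul_val, bridgeN_mul a.2 b.2, F.el_mul (bridgeN_lt a.2) (bridgeN_lt b.2)]
      map_seven := by
        have h7 : bridgeN 7 = 1 := by decide +kernel
        show F.el (bridgeN 7) = s
        rw [h7, F.el_one]
      mem_iff := fun w => by
        constructor
        · intro h
          obtain ⟨k, hk, hw⟩ := F.surj w h
          obtain ⟨j, hj⟩ := hsur k hk
          exact ⟨j, show F.el (bridgeN j) = w by rw [hj, hw]⟩
        · rintro ⟨j, rfl⟩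
          exact (((F.s_comm_elQ _).symm.mul_left
            (((show Commute F.x s from mul_inv_eq_iff_eq_mul.1 F.x_s).pow_left _).mul_left
            ((show Commute F.t s from mul_inv_eq_iff_eq_mul.1 F.t_s).pow_left _)))).eq }
  obtain ⟨j, hj⟩ := hsur i (by omega)
  refine ⟨M, j, g, ?_, hg.trans (by show a = F.el (bridgeN j); rw [hj, F.el_of_lt hi, ha])⟩
  have hd : allB 192 (fun j => decide (32 ≤ bridgeN j) || bridgeN j == 0 || bridgeN j == 1 ||
      qm (bridgeN j) (bridgeN j) != 0 || MTwelveCent.typ j == 2 || MTwelveCent.typ j == 4) = true := by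
    decide +kernel
  have h0 : i ≠ 0 := fun h => by
    rw [← ha, h, F.elQ_zero] at hg
    exact F.s_ne (by simpa using conj_eq_one_iff.1 hg)
  have h1 : i ≠ 1 := fun h => has (by rw [← ha, h, F.elQ_one])
  have hsq : qm i i = 0 := F.elQ_inj (qm_lt hi hi) (by omega) (by
    rw [← F.elQ_mul hi hi, ha, ← hg, F.elQ_zero]
    calc g * s * g⁻¹ * (g * s * g⁻¹) = g * (s * s) * g⁻¹ := by group
      _ = 1 := by rw [F.s_sq]; group)
  have := allB_spec hd j.2
  simp only [hj, hsq, Bool.or_eq_true, beq_iff_eq, bne_iff_ne, decide_eq_true_eq] at this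
  omega

end CfsgLib.ExtraSpS3
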