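import Cfsg.Agent.Lib.ExtraSpS3.Local

/-!
Only one of the three lines carries conjugates of `s`: the group is an extension of `2³` by `GL₃(2)`.
-/
set_option autoImplicit false
set_option maxRecDepth 10000

namespace CfsgLib.ExtraSpS3

namespace Frame

variable {G : Type*} [Group G] [Finite G] {s : G} (F : Frame false G s)
  (hA : IsConj s (F.el 2)) (h8 : ¬ IsConj s (F.el 8)) (h10 : ¬ IsConj s (F.el 10))
include hA h8 h10

theorem conj_mem_lineE {v : G} (hv : IsConj s v) (hvs : v * s = s * v) : v ∈ F.lineE := by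
  obtain ⟨g, rfl⟩ := isConj_iff.1 hv
  obtain ⟨m, hm, hme, hk1, hk7⟩ := F.exists_kind (conj_sq F.s_sq g) (conj_ne_one F.s_ne g) hvs
  rw [← hme] at hv ⊢
  have hk8 : kind 8 = 3 := by decide +kernel
  have hk10 : kind 10 = 4 := by decide +kernel
  have hk96 : kind 96 = 5 := by decide +kernel
  have hk97 : kind 97 = 6 := by decide +kernel
  by_cases hk : kind m ≤ 2
  · refine F.lineE_mem ?_
    have hd : allB 192 (fun m => decide (2 < kind m) || decide (m < 8)) = true := by decide +kernel
    have := allB_spec hd hm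
    simp only [Bool.or_eq_true, decide_eq_true_eq] at this
    omega
  · exfalso
    rcases (by omega : kind m = 3 ∨ kind m = 4 ∨ kind m = 5 ∨ kind m = 6) with e | e | e | e
    · exact h8 (hv.trans (F.isConj_kind hm (by omega) (e.trans hk8.symm) hk7))
    · exact h10 (hv.trans (F.isConj_kind hm (by omega) (e.trans hk10.symm) hk7))
    · have h' := hv.trans (F.isConj_kind hm (by omega) (e.trans hk96.symm) hk7)
      rcases F.tau_split hA with ⟨a, -⟩ | ⟨-, a⟩
      · exact h8 (h'.trans (a.isConj F))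
      · exact h10 (h'.trans (a.isConj F))
    · have h' := hv.trans (F.isConj_kind hm (by omega) (e.trans hk97.symm) hk7)
      rcases F.tau_split hA with ⟨-, a⟩ | ⟨a, -⟩
      · exact h10 (h'.trans (a.isConj F))
      · exact h8 (h'.trans (a.isConj F))

theorem cent_three_four {i : ℕ} (hi : i < 192) (hk : kind i = 3 ∨ kind i = 4) {c : G}
    (hc : c * F.el i = F.el i * c) : c ∈ F.normE := by
  have hne : ¬ IsConj s (F.el i) := fun h => by
    rcases hk with e | e
    · exact h8 (h.trans (F.isConj_kind hi (by omega) (e.trans (by decide +kernel)) (by omega)))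
    · exact h10 (h.trans (F.isConj_kind hi (by omega) (e.trans (by decide +kernel)) (by omega)))
  let K := Subgroup.centralizer ({F.el i} : Set G)
  have hK : ∀ g : K, (g : G) * F.el i = F.el i * g := fun g => Subgroup.mem_centralizer_singleton_iff.1 g.2
  have hd : allB 192 (fun i => (kind i != 3 && kind i != 4) || (comS 1 i &&
      anyB 8 fun j => decide (2 ≤ j) && comS j i && decide (mulS false 1 j < 8) &&
        decide (2 ≤ mulS false 1 j) && comS (mulS false 1 j) i && comS 1 j)) = true := by decide +kernel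
  have h := allB_spec hd hi
  simp only [Bool.or_eq_true, Bool.and_eq_true, bne_iff_ne] at h
  obtain ⟨h1i, h⟩ := h.resolve_left (by omega)
  obtain ⟨j, hj, h⟩ := anyB_spec h
  simp only [Bool.and_eq_true, decide_eq_true_eq] at h
  obtain ⟨⟨⟨⟨⟨hj2, hji⟩, hsj⟩, hsj2⟩, hsji⟩, h1j⟩ := h
  have hsmem : s ∈ K := by
    have h' := (F.comS_iff (m := 1) (by omega) hi).2 h1i
    rw [F.el_one] at h'
    exact Subgroup.mem_centralizer_singleton_iff.2 h'
  have hjmem : F.el j ∈ K := Subgroup.mem_centralizer_singleton_iff.2 ((F.comS_iff (by omega) hi).2 hji)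
  have hodd : ∀ n, n < 8 → 1 ≤ n → ∀ o : K, Odd (orderOf o) → (o : G) * F.el n = F.el n * o →
      comS n i = true → o = 1 := by
    intro n hn h1 o ho hon hni
    refine Subtype.ext (F.odd_cent_trivial (F.isConj_lineE hA (F.lineE_mem hn)
      (F.el_ne_one (by omega) (by omega))) (x := F.el i) ((F.el_sq_iff hi).2 (by omega))
      (F.el_ne_one hi (fun e => by rw [e] at hk; exact absurd hk (by decide +kernel)))
      (fun e => by
        have := F.el_inj hi (by omega) e
        have hd : allB 8 (fun n => decide (kind n < 3)) = true := by decide +kernel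
        have := of_decide_eq_true (allB_spec hd hn)
        subst i; omega)
      ((F.comS_iff hi (by omega)).2 (by rw [comS, beq_iff_eq]; exact (beq_iff_eq.1 hni).symm))
      (by rwa [Subgroup.orderOf_coe]) hon (hK o))
  have hord : orderOf (⟨s, hsmem⟩ : K) = 2 := by
    rw [← Subgroup.orderOf_coe]
    exact orderOf_eq_prime (by rw [pow_two, F.s_sq]) F.s_ne
  have hiso : ∀ g : K, (⟨s, hsmem⟩ : K) * (g * ⟨s, hsmem⟩ * g⁻¹) = g * ⟨s, hsmem⟩ * g⁻¹ * ⟨s, hsmem⟩ →
      g * ⟨s, hsmem⟩ * g⁻¹ = ⟨s, hsmem⟩ := by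
    intro g hg
    have hg' : s * ((g : G) * s * (g : G)⁻¹) = (g : G) * s * (g : G)⁻¹ * s := congrArg Subtype.val hg
    have hv := F.conj_mem_lineE hA h8 h10 (isConj_iff.2 ⟨(g : G), rfl⟩) hg'.symm
    have hgN : (g : G) ∈ F.normE := F.mem_normE_of_meet hA hv (conj_ne_one F.s_ne _) (by
      rw [show (g : G)⁻¹ * ((g : G) * s * (g : G)⁻¹) * g = s by group]
      exact F.s_mem_lineE)
    have := F.fix_s hi hk hgN hi hk (by rw [hK g]; group)
    exact Subtype.ext (show (g : G) * s * (g : G)⁻¹ = s by rw [this]; group)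
  have hprod : F.el (mulS false 1 j) = s * F.el j := by rw [F.el_mul (by omega) (by omega), F.el_one]
  have hcen := central_of_isolated (X := K) hord hiso
    (v := ⟨s, hsmem⟩) (w := ⟨F.el j, hjmem⟩) (Subtype.ext F.s_sq)
    (Subtype.ext (F.lineE_sq (F.lineE_mem hj))) (Subtype.ext (F.lineE_comm F.s_mem_lineE (F.lineE_mem hj)))
    (fun o ho h => hodd 1 (by omega) le_rfl o ho (by rw [F.el_one]; exact congrArg Subtype.val h) h1i)
    (fun o ho h => hodd j hj (by omega) o ho (congrArg Subtype.val h) hji)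
    (fun o ho h => hodd _ hsj (by omega) o ho (by rw [hprod]; exact congrArg Subtype.val h) hsji)
    ⟨c, Subgroup.mem_centralizer_singleton_iff.2 hc⟩
  exact F.cent_le_normE (congrArg Subtype.val hcen)

theorem normE_top : F.normE = ⊤ := by
  have hC : ∀ v ∈ F.normE, v * v = 1 → v ≠ 1 → ∀ c, c * v = v * c → c ∈ F.normE := by
    intro v hv hv2 hv1 c hc
    by_cases hvE : v ∈ F.lineE
    · refine F.mem_normE_of_meet hA hvE hv1 ?_
      rwa [mul_assoc, ← hc, inv_mul_cancel_left]
    · obtain ⟨i, hi, hik, h, hh, he⟩ := F.exists_three_four hA hv hvE hv2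
      have := F.cent_three_four hA h8 h10 hi hik (c := h * c * h⁻¹) (by rw [← he]; exact comm_conj hc h)
      have h' := mul_mem (mul_mem (inv_mem hh) this) hh
      rwa [show h⁻¹ * (h * c * h⁻¹) * h = c by group] at h'
  by_contra hne
  have hex : ∃ g, g * s * g⁻¹ ∉ F.normE := by
    by_contra hall
    push Not at hall
    refine hne (eq_top_iff.2 fun g _ => ?_)
    have hv : g * s * g⁻¹ ∈ F.lineE := by
      by_contra hvE
      obtain ⟨i, hi, hik, hc⟩ := F.exists_three_four hA (hall g) hvE (conj_sq F.s_sq g)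
      have h' := (isConj_iff.2 ⟨g, rfl⟩ : IsConj s (g * s * g⁻¹)).trans (hc.isConj F)
      rcases hik with e | e
      · exact h8 (h'.trans (F.isConj_kind hi (by omega) (e.trans (by decide +kernel)) (by omega)))
      · exact h10 (h'.trans (F.isConj_kind hi (by omega) (e.trans (by decide +kernel)) (by omega)))
    exact F.mem_normE_of_meet hA hv (conj_ne_one F.s_ne g) (by
      rw [show g⁻¹ * (g * s * g⁻¹) * g = s by group]
      exact F.s_mem_lineE)
  obtain ⟨g, hg⟩ := hex
  have h1 := isConj_of_outside hC (conj_sq F.s_sq g) hg ((F.el_sq_iff (by omega : 8 < 192)).2 (by decide +kernel))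
    (F.el_ne_one (by omega) (by omega)) (F.cent_le_normE (F.el_comm_s (by omega)))
  exact h8 ((isConj_iff.2 ⟨g, rfl⟩ : IsConj s (g * s * g⁻¹)).trans h1)

theorem caseI : ∃ (N : Subgroup G) (hN : N.Normal), IsMulCommutative N ∧ (∀ n ∈ N, n ^ 2 = 1) ∧
    Nat.card N = 8 ∧ Nonempty (G ⧸ N ≃* Matrix.ProjectiveSpecialLinearGroup (Fin 3) (ZMod 2)) := by
  have htop := F.normE_top hA h8 h10
  refine quot_psl ⟨fun v hv g => F.mem_normE.1 (htop ▸ Subgroup.mem_top g) v hv⟩
    (fun a ha b hb => F.lineE_comm ha hb) (fun a ha => F.lineE_sq ha) F.card_lineE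
    (fun g hg => F.lineE_self_cent hg) ?_
  rw [← F.card_normE hA, htop, Subgroup.card_top]

end Frame

end CfsgLib.ExtraSpS3
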