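import Cfsg.Agent.Lib.ExtraSpS3.Local
import Mathlib.GroupTheory.Transfer

/-!
Not all three lines carry conjugates of `s`.
-/
set_option autoImplicit false
set_option maxRecDepth 10000

namespace CfsgLib.ExtraSpS3

/-- no group of `60` permutations has all the properties found below -/
theorem no_sixty {Ω : Type*} (R : Subgroup (Equiv.Perm Ω)) [Finite R] (hR : Nat.card R = 60) (p0 : Ω)
    (hst : Nat.card {r : R // (r : Equiv.Perm Ω) p0 = p0} = 4)
    (v1 v2 : R) (h1 : (v1 : Equiv.Perm Ω) p0 = p0) (h2 : (v2 : Equiv.Perm Ω) p0 = p0)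
    (hall : ∀ p : Ω, (v1 : Equiv.Perm Ω) p = p → (v2 : Equiv.Perm Ω) p = p → (∃ r : R, (r : Equiv.Perm Ω) p0 = p) →
      p = p0)
    (hf1 : Nat.card {p : Ω // (∃ r : R, (r : Equiv.Perm Ω) p0 = p) ∧ (v1 : Equiv.Perm Ω) p = p} = 3)
    (hf2 : Nat.card {p : Ω // (∃ r : R, (r : Equiv.Perm Ω) p0 = p) ∧ (v2 : Equiv.Perm Ω) p = p} = 3) :
    False := by
  classical
  haveI : Fact (Nat.Prime 2) := ⟨Nat.prime_two⟩
  haveI : Fact (Nat.Prime 3) := ⟨Nat.prime_three⟩
  let V : Subgroup R :=
    { carrier := {r | (r : Equiv.Perm Ω) p0 = p0}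
      one_mem' := rfl
      mul_mem' := fun {a b} ha hb => by
        show ((a * b : R) : Equiv.Perm Ω) p0 = p0
        rw [Subgroup.coe_mul, Equiv.Perm.mul_apply, show (b : Equiv.Perm Ω) p0 = p0 from hb]
        exact ha
      inv_mem' := fun {a} ha => by
        show ((a⁻¹ : R) : Equiv.Perm Ω) p0 = p0
        rw [Subgroup.coe_inv, Equiv.Perm.inv_eq_iff_eq]
        exact (show (a : Equiv.Perm Ω) p0 = p0 from ha).symm }
  have hV : Nat.card V = 4 := hst
  let P : Sylow 2 R := Sylow.ofCard V (by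
    rw [hV, hR, show (60 : ℕ) = 2 ^ 2 * 15 from rfl, Nat.factorization_mul (by norm_num) (by norm_num),
      Finsupp.coe_add, Pi.add_apply, Nat.Prime.factorization_pow Nat.prime_two, Finsupp.single_eq_same,
      Nat.factorization_eq_zero_of_not_dvd (by norm_num : ¬ 2 ∣ 15)]
    rfl)
  have hPV : (P : Subgroup R) = V := rfl
  have hVc : ∀ a ∈ V, ∀ b ∈ V, a * b = b * a := by
    intro a ha b hb
    haveI := IsPGroup.isMulCommutative_of_card_eq_prime_sq (p := 2) (G := V) (by rw [hV]; norm_num)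
    exact congrArg Subtype.val (mul_comm' (⟨a, ha⟩ : V) ⟨b, hb⟩)
  have hN : Subgroup.normalizer ((P : Subgroup R) : Set R) ≤ Subgroup.centralizer (P : Set R) := by
    intro r hr
    have hfix : (r : Equiv.Perm Ω) p0 = p0 := by
      refine hall _ ?_ ?_ ⟨r, rfl⟩
      · have h : r⁻¹ * v1 * r ∈ V := by
          have := (Subgroup.mem_normalizer_iff.1 (inv_mem hr) v1).1 (hPV ▸ h1 : v1 ∈ (P : Subgroup R))
          rwa [inv_inv, hPV] at this
        have h' : ((r⁻¹ * v1 * r : R) : Equiv.Perm Ω) p0 = p0 := h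
        rw [Subgroup.coe_mul, Subgroup.coe_mul, Subgroup.coe_inv, Equiv.Perm.mul_apply, Equiv.Perm.mul_apply,
          Equiv.Perm.inv_eq_iff_eq] at h'
        exact h'
      · have h : r⁻¹ * v2 * r ∈ V := by
          have := (Subgroup.mem_normalizer_iff.1 (inv_mem hr) v2).1 (hPV ▸ h2 : v2 ∈ (P : Subgroup R))
          rwa [inv_inv, hPV] at this
        have h' : ((r⁻¹ * v2 * r : R) : Equiv.Perm Ω) p0 = p0 := h
        rw [Subgroup.coe_mul, Subgroup.coe_mul, Subgroup.coe_inv, Equiv.Perm.mul_apply, Equiv.Perm.mul_apply,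
          Equiv.Perm.inv_eq_iff_eq] at h'
        exact h'
    exact Subgroup.mem_centralizer_iff.2 fun w hw => hVc w (hPV ▸ hw) r hfix
  have hc := MonoidHom.ker_transferSylow_isComplement' P hN
  set K := (MonoidHom.transferSylow P hN).ker with hKdef
  have hK : Nat.card K = 15 := by
    have := hc.card_mul
    rw [hR, hPV, hV] at this
    omega
  have hKV : ∀ k ∈ K, k ∈ V → k = 1 := fun k hk hkV =>
    (Subgroup.disjoint_def.1 hc.disjoint) hk (hPV ▸ hkV)
  have hKn : K.Normal := inferInstance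
  let S := {p : Ω // ∃ r : R, (r : Equiv.Perm Ω) p0 = p}
  let f : K → S := fun k => ⟨((k : R) : Equiv.Perm Ω) p0, k, rfl⟩
  have hf : Function.Injective f := by
    intro a b h
    have h' : ((a : R) : Equiv.Perm Ω) p0 = ((b : R) : Equiv.Perm Ω) p0 := congrArg Subtype.val h
    refine Subtype.ext (inv_mul_eq_one.1 (hKV _ (mul_mem (inv_mem a.2) b.2) ?_))
    show (((a : R)⁻¹ * b : R) : Equiv.Perm Ω) p0 = p0
    rw [Subgroup.coe_mul, Subgroup.coe_inv, Equiv.Perm.mul_apply, ← h', Equiv.Perm.inv_eq_iff_eq]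
  have hSle : Nat.card S ≤ Nat.card K := by
    have hsur : Function.Surjective (fun r : R ⧸ V => (Quotient.liftOn r (fun a => (⟨(a : Equiv.Perm Ω) p0,
        a, rfl⟩ : S)) (fun a b h => by
          replace h : a⁻¹ * b ∈ V := QuotientGroup.leftRel_apply.1 h
          have h' : ((a⁻¹ * b : R) : Equiv.Perm Ω) p0 = p0 := h
          rw [Subgroup.coe_mul, Subgroup.coe_inv, Equiv.Perm.mul_apply, Equiv.Perm.inv_eq_iff_eq] at h'
          exact Subtype.ext h'.symm))) := by
      rintro ⟨p, r, hr⟩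
      exact ⟨QuotientGroup.mk r, Subtype.ext hr⟩
    refine (Nat.card_le_card_of_surjective _ hsur).trans (le_of_eq ?_)
    have := Subgroup.card_eq_card_quotient_mul_card_subgroup V
    rw [hR, hV] at this
    omega
  haveI : Finite S := by
    refine Finite.of_surjective (fun r : R => (⟨(r : Equiv.Perm Ω) p0, r, rfl⟩ : S)) ?_
    rintro ⟨p, r, hr⟩
    exact ⟨r, Subtype.ext hr⟩
  have hbij := hf.bijective_of_nat_card_le hSle
  have key : ∀ v : R, (v : Equiv.Perm Ω) p0 = p0 → ∀ k : K,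
      ((v : Equiv.Perm Ω) (((k : R) : Equiv.Perm Ω) p0) = ((k : R) : Equiv.Perm Ω) p0 ↔
        v * (k : R) = (k : R) * v) := by
    intro v hv k
    refine ⟨fun h => ?_, fun h => ?_⟩
    · have h' : f ⟨v * k * v⁻¹, hKn.conj_mem k k.2 v⟩ = f k := by
        refine Subtype.ext ?_
        show ((v * k * v⁻¹ : R) : Equiv.Perm Ω) p0 = ((k : R) : Equiv.Perm Ω) p0
        rw [Subgroup.coe_mul, Subgroup.coe_mul, Subgroup.coe_inv, Equiv.Perm.mul_apply, Equiv.Perm.mul_apply,
          show ((v : Equiv.Perm Ω)⁻¹) p0 = p0 from Equiv.Perm.inv_eq_iff_eq.2 hv.symm, h]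
      have := congrArg Subtype.val (hf h')
      exact mul_inv_eq_iff_eq_mul.1 this
    · have := congrArg (fun x : R => (x : Equiv.Perm Ω) p0) h
      simpa [hv] using this
  have h3 : ∀ v : R, (v : Equiv.Perm Ω) p0 = p0 →
      Nat.card {p : Ω // (∃ r : R, (r : Equiv.Perm Ω) p0 = p) ∧ (v : Equiv.Perm Ω) p = p} = 3 →
      ∃ T : Subgroup K, Nat.card T = 3 ∧ ∀ k ∈ T, (v : Equiv.Perm Ω) ((((k : K) : R) : Equiv.Perm Ω) p0) =
        (((k : K) : R) : Equiv.Perm Ω) p0 := by
    intro v hv hcard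
    refine ⟨(Subgroup.centralizer ({v} : Set R)).subgroupOf K, ?_, fun k hk =>
      (key v hv k).2 (Subgroup.mem_centralizer_singleton_iff.1 hk).symm⟩
    · rw [← hcard]
      refine Nat.card_eq_of_bijective (fun k => ⟨(((k : K) : R) : Equiv.Perm Ω) p0, ⟨_, rfl⟩,
        (key v hv k).2 (Subgroup.mem_centralizer_singleton_iff.1 k.2).symm⟩) ⟨fun a b h => ?_, ?_⟩
      · exact Subtype.ext (hf (Subtype.ext (congrArg Subtype.val h :)))
      · rintro ⟨p, hp, hvp⟩
        obtain ⟨k, hk⟩ := hbij.2 ⟨p, hp⟩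
        have hk' : ((k : R) : Equiv.Perm Ω) p0 = p := congrArg Subtype.val hk
        exact ⟨⟨k, Subgroup.mem_centralizer_singleton_iff.2 ((key v hv k).1 (by rw [hk']; exact hvp)).symm⟩,
          Subtype.ext hk'⟩
  obtain ⟨T1, hT1, hT1v⟩ := h3 v1 h1 hf1
  obtain ⟨T2, hT2, hT2v⟩ := h3 v2 h2 hf2
  have hsyl : ∀ T : Subgroup K, Nat.card T = 3 → ∃ Q : Sylow 3 K, (Q : Subgroup K) = T := fun T hT =>
    ⟨Sylow.ofCard T (by
      rw [hT, hK, show (15 : ℕ) = 3 ^ 1 * 5 from rfl, Nat.factorization_mul (by norm_num) (by norm_num),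
        Finsupp.coe_add, Pi.add_apply, Nat.Prime.factorization_pow Nat.prime_three, Finsupp.single_eq_same,
        Nat.factorization_eq_zero_of_not_dvd (by norm_num : ¬ 3 ∣ 5)]
      rfl), rfl⟩
  obtain ⟨Q1, hQ1⟩ := hsyl T1 hT1
  obtain ⟨Q2, hQ2⟩ := hsyl T2 hT2
  have hone : Subsingleton (Sylow 3 K) := by
    have hd : Nat.card (Sylow 3 K) ∣ 5 := by
      have := Sylow.card_dvd_index Q1
      rwa [show (Q1 : Subgroup K).index = 5 by
        have h := (Q1 : Subgroup K).card_mul_index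
        rw [hK, hQ1, hT1] at h
        rw [hQ1]; omega] at this
    have hm := card_sylow_modEq_one 3 K
    rcases (Nat.dvd_prime (by norm_num)).1 hd with h | h
    · exact (Nat.card_eq_one_iff_unique.1 h).1
    · rw [h] at hm; exact absurd hm (by decide)
  have hT : T1 = T2 := by rw [← hQ1, ← hQ2, Subsingleton.elim Q1 Q2]
  obtain ⟨k, hk, hk1⟩ := (Subgroup.ne_bot_iff_exists_ne_one.1
    (fun h => by rw [h, Subgroup.card_bot] at hT1; omega : T1 ≠ ⊥) : ∃ k : T1, k ≠ 1) |>.elim
    fun k hk => (⟨k, k.2, fun e => hk (Subtype.ext e)⟩ : ∃ k, k ∈ T1 ∧ k ≠ 1)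
  have := hall _ (hT1v k hk) (hT2v k (hT ▸ hk)) ⟨_, rfl⟩
  exact hk1 (Subtype.ext (hKV _ k.2 this))

namespace Frame

variable {G : Type*} [Group G] [Finite G] {s : G} (F : Frame false G s)

/-- the elementary subgroup of order sixteen -/
def sixteen : Subgroup G := F.sub maskA (by decide +kernel)

theorem mem_sixteen {g : G} : g ∈ F.sixteen ↔ ∃ m < 192, maskA.testBit m = true ∧ F.el m = g := Iff.rfl

theorem card_sixteen : Nat.card F.sixteen = 16 := by
  let f : {m : Fin 192 // maskA.testBit m = true} → F.sixteen := fun m => ⟨F.el m.1, m.1, m.1.2, m.2, rfl⟩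
  have hf : Function.Bijective f :=
    ⟨fun a b h => Subtype.ext (Fin.ext (F.el_inj a.1.2 b.1.2 (congrArg Subtype.val h))), by
      rintro ⟨_, m, hm, hb, rfl⟩
      exact ⟨⟨⟨m, hm⟩, hb⟩, rfl⟩⟩
  rw [← Nat.card_eq_of_bijective f hf, Nat.card_eq_fintype_card, Fintype.card_subtype]
  decide +kernel

theorem sixteen_facts {g h : G} (hg : g ∈ F.sixteen) (hh : h ∈ F.sixteen) : g * g = 1 ∧ g * h = h * g := by
  obtain ⟨m, hm, hmb, rfl⟩ := F.mem_sixteen.1 hg
  obtain ⟨n, hn, hnb, rfl⟩ := F.mem_sixteen.1 hh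
  have hd : allB 192 (fun m => !maskA.testBit m || (decide (kind m < 7) &&
      allB 192 fun n => !maskA.testBit n || comS m n)) = true := by decide +kernel
  have h' := allB_spec hd hm
  rw [hmb, Bool.not_true, Bool.false_or, Bool.and_eq_true, decide_eq_true_eq] at h'
  have h'' := allB_spec h'.2 hn
  rw [hnb, Bool.not_true, Bool.false_or] at h''
  exact ⟨(F.el_sq_iff hm).2 h'.1, (F.comS_iff hm hn).2 h''⟩

/-- an elementary subgroup of order sixteen containing `s` is a conjugate of the standard one -/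
theorem exists_sixteen_conj {W : Subgroup G} (hW : Nat.card W = 16) (hsW : s ∈ W)
    (hsq : ∀ w ∈ W, w * w = 1) (hcom : ∀ w ∈ W, ∀ w' ∈ W, w * w' = w' * w) :
    ∃ l, l * s = s * l ∧ ∀ w ∈ W, l * w * l⁻¹ ∈ F.sixteen := by
  classical
  have hsym : ∀ w ∈ W, ∃ n < 192, F.el n = w ∧ kind n < 7 := fun w hw => by
    obtain ⟨n, hn, hne⟩ := F.surj w (hcom w hw s hsW)
    exact ⟨n, hn, hne, (F.el_sq_iff hn).1 (hne ▸ hsq w hw)⟩
  choose sym hsl hse hsk using hsym
  have hinj : Function.Injective (fun w : W => (⟨sym w w.2, hsl w w.2⟩ : Fin 192)) := fun a b h =>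
    Subtype.ext (by rw [← hse a a.2, ← hse b b.2]; exact congrArg F.el (congrArg Fin.val h))
  obtain ⟨m, hm, hmW, hmk⟩ : ∃ m < 192, F.el m ∈ W ∧ (kind m = 5 ∨ kind m = 6) := by
    by_contra hno
    push Not at hno
    have hlow : ∀ (w : G) (hw : w ∈ W), kind (sym w hw) ≤ 4 := fun w hw => by
      have := hno _ (hsl w hw) ((hse w hw).symm ▸ hw)
      have := hsk w hw
      omega
    obtain ⟨w0, hw0, hw2⟩ : ∃ w ∈ W, ∃ hw : w ∈ W, 2 ≤ kind (sym w hw) := by
      by_contra h
      push Not at h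
      have hle := Nat.card_le_card_of_injective (fun w : W => (⟨sym w w.2, by
        have h1 := h w w.2 w.2
        have h2 := kind_spec (hsl w w.2)
        rcases (by omega : kind (sym w w.2) = 0 ∨ kind (sym w w.2) = 1) with e | e
        · rw [h2.2.1.1 e]; omega
        · rw [h2.2.2.1 e]; omega⟩ : Fin 2)) (fun a b e => hinj (Fin.ext (by simpa using congrArg Fin.val e)))
      simp [hW] at hle
    obtain ⟨hw0', hw2⟩ := hw2
    set m := sym w0 hw0' with hmdef
    let S := (Finset.univ : Finset (Fin 192)).filter fun n : Fin 192 => (decide (kind n ≤ 4) && comS n m) = true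
    have hle := Nat.card_le_card_of_injective (fun w : W => (⟨⟨sym w w.2, hsl w w.2⟩, by
      simp only [Finset.mem_filter, Finset.mem_univ, true_and, Bool.and_eq_true, decide_eq_true_eq, S]
      refine ⟨hlow w w.2, (F.comS_iff (hsl w w.2) (hsl w0 hw0')).1 ?_⟩
      rw [hse, hse]; exact hcom w w.2 w0 hw0⟩ : S)) (fun a b e => hinj (congrArg Subtype.val e))
    rw [hW, Nat.card_eq_fintype_card, Fintype.card_coe] at hle
    have hd : ∀ m : Fin 192, 2 ≤ kind m → kind m ≤ 4 → ((Finset.univ : Finset (Fin 192)).filter fun n : Fin 192 =>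
        (decide (kind n ≤ 4) && comS n m) = true).card < 16 := by decide +kernel
    have h16 : S.card < 16 := hd ⟨m, hsl w0 hw0'⟩ hw2 (hlow w0 hw0')
    omega
  have hd : allB 192 (fun m => (kind m != 5 && kind m != 6) || anyB 192 fun g =>
      allB 192 fun n => !comS n m || maskA.testBit (cjS g n)) = true := by decide +kernel
  have h := allB_spec hd hm
  simp only [Bool.or_eq_true, Bool.and_eq_true, bne_iff_ne] at h
  obtain ⟨g, hg, hgn⟩ := anyB_spec (h.resolve_left (by omega))
  refine ⟨F.el g, F.el_comm_s hg, fun w hw => ?_⟩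
  rw [← hse w hw, F.el_conj hg (hsl w hw)]
  refine ⟨_, cjS_lt _ _, ?_, rfl⟩
  have hc : comS (sym w hw) m = true := (F.comS_iff (hsl w hw) hm).1 (by
    rw [hse]; exact hcom w hw _ hmW)
  simpa [hc] using allB_spec hgn (hsl w hw)

variable (hA : IsConj s (F.el 2)) (h8 : IsConj s (F.el 8)) (h10 : IsConj s (F.el 10))
include hA h8 h10

theorem isConj_all {m : ℕ} (hm : m < 192) (hk1 : 1 ≤ kind m) (hk : kind m < 7) : IsConj s (F.el m) := by
  have hk2 : kind 2 = 2 := by decide +kernel
  have hk8 : kind 8 = 3 := by decide +kernel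
  have hk10 : kind 10 = 4 := by decide +kernel
  have hk96 : kind 96 = 5 := by decide +kernel
  have hk97 : kind 97 = 6 := by decide +kernel
  rcases (by omega : kind m = 1 ∨ kind m = 2 ∨ kind m = 3 ∨ kind m = 4 ∨ kind m = 5 ∨ kind m = 6) with
    e | e | e | e | e | e
  · rw [(kind_spec hm).2.2.1 e, F.el_one]
  · exact hA.trans (F.isConj_kind hm (by omega) (e.trans hk2.symm) hk).symm
  · exact h8.trans (F.isConj_kind hm (by omega) (e.trans hk8.symm) hk).symm
  · exact h10.trans (F.isConj_kind hm (by omega) (e.trans hk10.symm) hk).symm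
  · rcases F.tau_split hA with ⟨a, -⟩ | ⟨-, a⟩
    · exact h8.trans ((F.isConj_kind hm (by omega) (e.trans hk96.symm) hk).trans (a.isConj F)).symm
    · exact h10.trans ((F.isConj_kind hm (by omega) (e.trans hk96.symm) hk).trans (a.isConj F)).symm
  · rcases F.tau_split hA with ⟨-, a⟩ | ⟨a, -⟩
    · exact h10.trans ((F.isConj_kind hm (by omega) (e.trans hk97.symm) hk).trans (a.isConj F)).symm
    · exact h8.trans ((F.isConj_kind hm (by omega) (e.trans hk97.symm) hk).trans (a.isConj F)).symm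

theorem caseThree : False := by
  classical
  let N := Subgroup.normalizer (F.sixteen : Set G)
  have hNact : ∀ (n : N) (a : F.sixteen), (n : G) * a * (n : G)⁻¹ ∈ F.sixteen := fun n a =>
    (Subgroup.mem_normalizer_iff.1 n.2 _).1 a.2
  let φ : N →* Equiv.Perm F.sixteen :=
    { toFun := fun n =>
        { toFun := fun a => ⟨(n : G) * a * (n : G)⁻¹, hNact n a⟩
          invFun := fun a => ⟨(n : G)⁻¹ * a * (n : G), by simpa using hNact n⁻¹ a⟩
          left_inv := fun a => Subtype.ext (by simp [mul_assoc])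
          right_inv := fun a => Subtype.ext (by simp [mul_assoc]) }
      map_one' := Equiv.ext fun a => Subtype.ext (by simp)
      map_mul' := fun a b => Equiv.ext fun c => Subtype.ext (by simp [mul_assoc]) }
  have hφ : ∀ (n : N) (a : F.sixteen), ((φ n a : F.sixteen) : G) = (n : G) * a * (n : G)⁻¹ := fun n a => rfl
  have hs16 : s ∈ F.sixteen := ⟨1, by omega, by decide +kernel, F.el_one⟩
  have hmemN : ∀ h : G, (∀ a ∈ F.sixteen, h * a * h⁻¹ ∈ F.sixteen) → h ∈ N := by
    intro h hh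
    refine Subgroup.mem_normalizer_iff.2 fun v => ⟨hh v, fun hv => ?_⟩
    let f : F.sixteen → F.sixteen := fun w => ⟨h * w * h⁻¹, hh w w.2⟩
    have hf : Function.Surjective f := Finite.surjective_of_injective fun a b hab =>
      Subtype.ext (by simpa [f] using congrArg Subtype.val hab)
    obtain ⟨w, hw⟩ := hf ⟨_, hv⟩
    have h' : (w : G) = v := by simpa [f] using congrArg Subtype.val hw
    exact h' ▸ w.2
  have htrans : ∀ a ∈ F.sixteen, a ≠ 1 → ∃ h ∈ N, h * s * h⁻¹ = a := by
    intro a ha ha1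
    obtain ⟨m, hm, hb, rfl⟩ := F.mem_sixteen.1 ha
    have hk7 := (F.el_sq_iff hm).1 (F.sixteen_facts ha ha).1
    have hk1 : 1 ≤ kind m := by
      by_contra h
      exact ha1 (by rw [(kind_spec hm).2.1.1 (by omega), F.el_zero])
    obtain ⟨g, hg⟩ := isConj_iff.1 (F.isConj_all hA h8 h10 hm hk1 hk7)
    let W : Subgroup G := F.sixteen.map (MulAut.conj g⁻¹).toMonoidHom
    have hWm : ∀ w, w ∈ W ↔ g * w * g⁻¹ ∈ F.sixteen := fun w => by
      constructor
      · rintro ⟨v, hv, rfl⟩
        show g * (g⁻¹ * v * g⁻¹⁻¹) * g⁻¹ ∈ _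
        rwa [show g * (g⁻¹ * v * g⁻¹⁻¹) * g⁻¹ = v by group]
      · exact fun h => ⟨_, h, show g⁻¹ * (g * w * g⁻¹) * g⁻¹⁻¹ = w by group⟩
    obtain ⟨l, hl, hlW⟩ := F.exists_sixteen_conj (W := W)
      (by rw [Subgroup.card_map_of_injective (MulEquiv.injective _), F.card_sixteen])
      ((hWm s).2 (by rw [hg]; exact ha))
      (by rintro w ⟨v, hv, rfl⟩; rw [← map_mul, (F.sixteen_facts hv hv).1, map_one])
      (by rintro w ⟨v, hv, rfl⟩ w' ⟨v', hv', rfl⟩; rw [← map_mul, ← map_mul, (F.sixteen_facts hv hv').2])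
    have hh : (g * l⁻¹)⁻¹ ∈ N := by
      refine hmemN _ fun v hv => ?_
      have := hlW (g⁻¹ * v * g) ((hWm _).2 (by rwa [show g * (g⁻¹ * v * g) * g⁻¹ = v by group]))
      rwa [show (g * l⁻¹)⁻¹ * v * (g * l⁻¹)⁻¹⁻¹ = l * (g⁻¹ * v * g) * l⁻¹ by group]
    refine ⟨g * l⁻¹, by simpa using inv_mem hh, ?_⟩
    rw [← hg]
    calc g * l⁻¹ * s * (g * l⁻¹)⁻¹ = g * (l⁻¹ * (s * l)) * g⁻¹ := by group
      _ = g * s * g⁻¹ := by rw [← hl]; group
  have hd4 : allB 192 (fun n => !maskA.testBit n || (maskA.testBit (cjS 4 n) && maskA.testBit (cjS 16 n))) =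
      true := by decide +kernel
  have hin : ∀ i, i = 4 ∨ i = 16 → F.el i ∈ N := by
    intro i hi
    refine hmemN _ fun a ha => ?_
    obtain ⟨n, hn, hb, rfl⟩ := F.mem_sixteen.1 ha
    rw [F.el_conj (by omega) hn]
    refine ⟨_, cjS_lt _ _, ?_, rfl⟩
    have := allB_spec hd4 hn
    rw [hb, Bool.not_true, Bool.false_or, Bool.and_eq_true] at this
    rcases hi with rfl | rfl
    · exact this.1
    · exact this.2
  have hNcard : Nat.card N = 960 := by
    have h := orbit_mul_cent N s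
    have h15 : Nat.card {w : G // ∃ h ∈ N, h * s * h⁻¹ = w} = 15 := by
      have e : {w : G // ∃ h ∈ N, h * s * h⁻¹ = w} ≃ {a : F.sixteen // a ≠ 1} :=
        { toFun := fun w => ⟨⟨w, by
              obtain ⟨h, hh, he⟩ := w.2
              rw [← he]; exact hNact ⟨h, hh⟩ ⟨s, hs16⟩⟩, fun e => by
              obtain ⟨h, -, he⟩ := w.2
              have : (w : G) = 1 := congrArg Subtype.val e
              exact conj_ne_one F.s_ne h (he.trans this)⟩
          invFun := fun a => ⟨(a : F.sixteen), htrans _ (a : F.sixteen).2 (fun e => a.2 (Subtype.ext e))⟩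
          left_inv := fun w => rfl
          right_inv := fun a => rfl }
      rw [Nat.card_congr e]
      haveI : Fintype F.sixteen := Fintype.ofFinite _
      rw [Nat.card_eq_fintype_card, Fintype.card_subtype_compl, Fintype.card_subtype_eq,
        ← Nat.card_eq_fintype_card, F.card_sixteen]
    have h64 : Nat.card (N ⊓ Subgroup.centralizer ({s} : Set G) : Subgroup G) = 64 := by
      let P := fun g : Fin 192 => (allB 192 fun n => !maskA.testBit n || maskA.testBit (cjS g n)) = true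
      let f : {g : Fin 192 // P g} → (N ⊓ Subgroup.centralizer ({s} : Set G) : Subgroup G) := fun g =>
        ⟨F.el g.1, hmemN _ (fun a ha => by
          obtain ⟨n, hn, hb, rfl⟩ := F.mem_sixteen.1 ha
          rw [F.el_conj g.1.2 hn]
          exact ⟨_, cjS_lt _ _, by simpa [hb] using allB_spec g.2 hn, rfl⟩),
          Subgroup.mem_centralizer_singleton_iff.2 (F.el_comm_s g.1.2)⟩
      have hf : Function.Bijective f := by
        refine ⟨fun a b e => Subtype.ext (Fin.ext (F.el_inj a.1.2 b.1.2 (congrArg Subtype.val e))), ?_⟩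
        rintro ⟨x, hx, hxc⟩
        obtain ⟨g, hg, rfl⟩ := F.surj x (Subgroup.mem_centralizer_singleton_iff.1 hxc)
        refine ⟨⟨⟨g, hg⟩, List.all_eq_true.2 fun n hn => ?_⟩, rfl⟩
        rw [List.mem_range] at hn
        cases hb : maskA.testBit n with
        | false => simp
        | true =>
          have := hNact ⟨_, hx⟩ ⟨_, n, hn, hb, rfl⟩
          obtain ⟨k, hk, hkb, hke⟩ := F.mem_sixteen.1 this
          have e : k = cjS g n := F.el_inj hk (cjS_lt _ _) (hke.trans (F.el_conj hg hn))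
          simp [← e, hkb]
      rw [← Nat.card_eq_of_bijective f hf, Nat.card_eq_fintype_card, Fintype.card_subtype]
      decide +kernel
    rw [h15, h64] at h
    omega
  have hker : Nat.card φ.ker = 16 := by
    rw [← F.card_sixteen]
    refine Nat.card_congr
      { toFun := fun n => ⟨((n : N) : G), ?_⟩
        invFun := fun a => ⟨⟨a, Subgroup.le_normalizer a.2⟩, ?_⟩
        left_inv := fun n => rfl
        right_inv := fun a => rfl }
    · have hn : φ n = 1 := n.2
      have hcom : ∀ a : F.sixteen, ((n : N) : G) * a = a * ((n : N) : G) := fun a => by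
        have := congrArg (fun e : Equiv.Perm F.sixteen => ((e a : F.sixteen) : G)) hn
        exact mul_inv_eq_iff_eq_mul.1 this
      obtain ⟨m, hm, hme⟩ := F.surj _ (hcom ⟨s, hs16⟩)
      have hd : allB 192 (fun m => !comS m 96 || maskA.testBit m) = true := by decide +kernel
      have h96 : comS m 96 = true := (F.comS_iff hm (by omega)).1 (by
        rw [hme]; exact hcom ⟨F.el 96, 96, by omega, by decide +kernel, rfl⟩)
      exact ⟨m, hm, by simpa [h96] using allB_spec hd hm, hme⟩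
    · refine Equiv.ext fun b => Subtype.ext ?_
      show (a : G) * b * (a : G)⁻¹ = b
      rw [(F.sixteen_facts a.2 b.2).2]; group
  have hR : Nat.card φ.range = 60 := by
    have h := Subgroup.card_eq_card_quotient_mul_card_subgroup φ.ker
    rw [Nat.card_congr (QuotientGroup.quotientKerEquivRange φ).toEquiv, hker, hNcard] at h
    omega
  let p0 : F.sixteen := ⟨s, hs16⟩
  have horb : ∀ p : F.sixteen, (∃ r : φ.range, (r : Equiv.Perm F.sixteen) p0 = p) ↔ p ≠ 1 := by
    intro p
    constructor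
    · rintro ⟨⟨_, n, rfl⟩, rfl⟩ h
      exact conj_ne_one F.s_ne _ ((hφ n p0).symm.trans (congrArg Subtype.val h))
    · intro hp
      obtain ⟨h, hh, he⟩ := htrans p p.2 (fun e => hp (Subtype.ext e))
      exact ⟨⟨_, ⟨h, hh⟩, rfl⟩, Subtype.ext he⟩
  have hfix : ∀ i (hi : i = 4 ∨ i = 16),
      ((⟨φ ⟨F.el i, hin i hi⟩, _, rfl⟩ : φ.range) : Equiv.Perm F.sixteen) p0 = p0 := by
    intro i hi
    refine Subtype.ext ?_
    show F.el i * s * (F.el i)⁻¹ = s
    rw [F.el_comm_s (by omega)]; group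
  have hfixiff : ∀ i (hi : i = 4 ∨ i = 16), ∀ n (hn : n < 192) (hb : maskA.testBit n = true),
      φ ⟨F.el i, hin i hi⟩ ⟨F.el n, n, hn, hb, rfl⟩ = ⟨F.el n, n, hn, hb, rfl⟩ ↔ cjS i n = n := by
    intro i hi n hn hb
    rw [Subtype.ext_iff, hφ]
    show F.el i * F.el n * (F.el i)⁻¹ = F.el n ↔ _
    rw [F.el_conj (by omega) hn]
    exact ⟨F.el_inj (cjS_lt _ _) hn, congrArg F.el⟩
  have hcount : ∀ i (hi : i = 4 ∨ i = 16), Nat.card {p : F.sixteen // (∃ r : φ.range,
      (r : Equiv.Perm F.sixteen) p0 = p) ∧ φ ⟨F.el i, hin i hi⟩ p = p} = 3 := by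
    intro i hi
    let P := fun n : Fin 192 => (maskA.testBit n && decide ((n : ℕ) ≠ 0) && cjS i n == n) = true
    have hP : ∀ n : Fin 192, P n ↔ maskA.testBit n = true ∧ (n : ℕ) ≠ 0 ∧ cjS i n = n := fun n => by
      simp only [P, Bool.and_eq_true, decide_eq_true_eq, beq_iff_eq, and_assoc]
    let f : {n : Fin 192 // P n} → {p : F.sixteen // (∃ r : φ.range,
        (r : Equiv.Perm F.sixteen) p0 = p) ∧ φ ⟨F.el i, hin i hi⟩ p = p} := fun n =>
      ⟨⟨F.el n.1, n.1, n.1.2, ((hP _).1 n.2).1, rfl⟩,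
        (horb _).2 (fun e => F.el_ne_one n.1.2 ((hP _).1 n.2).2.1 (congrArg Subtype.val e)),
        (hfixiff i hi n.1 n.1.2 ((hP _).1 n.2).1).2 ((hP _).1 n.2).2.2⟩
    have hf : Function.Bijective f := by
      refine ⟨fun a b e => Subtype.ext (Fin.ext (F.el_inj a.1.2 b.1.2 ?_)), ?_⟩
      · simpa [f] using congrArg (fun z : {p : F.sixteen // _} => ((z : F.sixteen) : G)) e
      · rintro ⟨⟨_, n, hn, hb, rfl⟩, ho, hv⟩
        exact ⟨⟨⟨n, hn⟩, (hP _).2 ⟨hb, fun e => (horb _).1 ho (Subtype.ext (by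
          show F.el n = 1
          rw [show n = 0 from e, F.el_zero])), (hfixiff i hi n hn hb).1 hv⟩⟩, rfl⟩
    rw [← Nat.card_eq_of_bijective f hf, Nat.card_eq_fintype_card, Fintype.card_subtype]
    rcases hi with rfl | rfl <;> decide +kernel
  have hst : Nat.card {r : φ.range // (r : Equiv.Perm F.sixteen) p0 = p0} = 4 := by
    have h := orbit_mul_cent (⊤ : Subgroup φ.range) (1 : φ.range)
    clear h
    let S : Subgroup φ.range :=
      { carrier := {r | (r : Equiv.Perm F.sixteen) p0 = p0}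
        one_mem' := rfl
        mul_mem' := fun {a b} ha hb => by
          show ((a * b : φ.range) : Equiv.Perm F.sixteen) p0 = p0
          rw [Subgroup.coe_mul, Equiv.Perm.mul_apply, show (b : Equiv.Perm F.sixteen) p0 = p0 from hb]
          exact ha
        inv_mem' := fun {a} ha => by
          show ((a⁻¹ : φ.range) : Equiv.Perm F.sixteen) p0 = p0
          rw [Subgroup.coe_inv, Equiv.Perm.inv_eq_iff_eq]
          exact (show (a : Equiv.Perm F.sixteen) p0 = p0 from ha).symm }
    show Nat.card S = 4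
    let f : φ.range ⧸ S → {p : F.sixteen // p ≠ 1} := Quotient.lift
      (fun r => ⟨(r : Equiv.Perm F.sixteen) p0, (horb _).1 ⟨r, rfl⟩⟩)
      (fun a b h => by
        replace h : a⁻¹ * b ∈ S := QuotientGroup.leftRel_apply.1 h
        have h' : ((a⁻¹ * b : φ.range) : Equiv.Perm F.sixteen) p0 = p0 := h
        rw [Subgroup.coe_mul, Subgroup.coe_inv, Equiv.Perm.mul_apply, Equiv.Perm.inv_eq_iff_eq] at h'
        exact Subtype.ext h'.symm)
    have hf : Function.Bijective f := by
      refine ⟨?_, ?_⟩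
      · intro x y
        induction x using QuotientGroup.induction_on with
        | _ a =>
          induction y using QuotientGroup.induction_on with
          | _ b =>
            intro h
            have h' : (a : Equiv.Perm F.sixteen) p0 = (b : Equiv.Perm F.sixteen) p0 := congrArg Subtype.val h
            rw [QuotientGroup.eq]
            show ((a⁻¹ * b : φ.range) : Equiv.Perm F.sixteen) p0 = p0
            rw [Subgroup.coe_mul, Subgroup.coe_inv, Equiv.Perm.mul_apply, Equiv.Perm.inv_eq_iff_eq, h']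
      · rintro ⟨p, hp⟩
        obtain ⟨r, hr⟩ := (horb p).2 hp
        exact ⟨QuotientGroup.mk r, Subtype.ext hr⟩
    have h15 : Nat.card {p : F.sixteen // p ≠ 1} = 15 := by
      haveI : Fintype F.sixteen := Fintype.ofFinite _
      rw [Nat.card_eq_fintype_card, Fintype.card_subtype_compl, Fintype.card_subtype_eq,
        ← Nat.card_eq_fintype_card, F.card_sixteen]
    have h := Subgroup.card_eq_card_quotient_mul_card_subgroup S
    rw [Nat.card_eq_of_bijective f hf, h15, hR] at h
    omega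
  refine no_sixty φ.range hR p0 hst ⟨_, ⟨F.el 4, hin 4 (Or.inl rfl)⟩, rfl⟩
    ⟨_, ⟨F.el 16, hin 16 (Or.inr rfl)⟩, rfl⟩ (hfix 4 (Or.inl rfl)) (hfix 16 (Or.inr rfl)) ?_
    (hcount 4 (Or.inl rfl)) (hcount 16 (Or.inr rfl))
  rintro ⟨_, n, hn, hb, rfl⟩ h4 h16 ho
  have e4 := (hfixiff 4 (Or.inl rfl) n hn hb).1 h4
  have e16 := (hfixiff 16 (Or.inr rfl) n hn hb).1 h16
  have hd : allB 192 (fun n => !maskA.testBit n || decide (n ≤ 1) || cjS 4 n != n || cjS 16 n != n) = true := by
    decide +kernel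
  have h' := allB_spec hd hn
  simp only [hb, e4, e16, Bool.not_true, bne_self_eq_false, Bool.or_false, Bool.false_or,
    decide_eq_true_eq] at h'
  refine Subtype.ext ?_
  show F.el n = s
  rcases Nat.lt_or_ge n 1 with h0 | h0
  · exact absurd (Subtype.ext (by show F.el n = 1; rw [show n = 0 by omega, F.el_zero])) ((horb _).1 ho)
  · rw [show n = 1 by omega, F.el_one]

end Frame

end CfsgLib.ExtraSpS3
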