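import Cfsg.Agent.Lib.ExtraSpS3.Geometry
import Cfsg.Agent.Lib.KnownSimple.GLFourTwo

/-!
The stabiliser of a component of the geometry is the alternating group of degree eight.
-/
set_option autoImplicit false
set_option maxRecDepth 10000

namespace CfsgLib.ExtraSpS3

namespace Two

variable {G : Type*} [Group G] [Finite G] {s : G} (D : Two G s)

/-- the planes of the component -/
abbrev CompPl : Type _ := {π : D.Pl // ∃ p ∈ D.comp, D.Inc p π}

open Classical in
/-- the planes off a point, as a function -/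
noncomputable def uVec (p : D.Pt) : D.CompPl → ZMod 2 := fun π => if D.Inc p π.1 then 0 else 1

theorem smul_compPl {g : G} (hg : g ∈ D.G0) {π : D.Pl} (h : ∃ p ∈ D.comp, D.Inc p π) :
    ∃ p ∈ D.comp, D.Inc p (g • π) := by
  obtain ⟨p, hp, hi⟩ := h
  exact ⟨g • p, (hg p).2 hp, D.inc_smul g hi⟩

theorem card_compPl : Nat.card D.CompPl = 15 := by
  classical
  let A := D.comp
  have e : (Σ p : A, {π : D.CompPl // D.Inc p.1 π.1}) ≃ (Σ π : D.CompPl, {p : A // D.Inc p.1 π.1}) :=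
    { toFun := fun z => ⟨z.2.1, z.1, z.2.2⟩
      invFun := fun z => ⟨z.2.1, z.1, z.2.2⟩
      left_inv := fun z => rfl
      right_inv := fun z => rfl }
  haveI : Fintype A := Fintype.ofFinite _
  haveI : Fintype D.CompPl := Fintype.ofFinite _
  have h7 : ∀ p : A, Nat.card {π : D.CompPl // D.Inc p.1 π.1} = 7 := fun p => by
    rw [← D.card_planes p.1]
    exact Nat.card_congr
      { toFun := fun z => ⟨z.1.1, z.2⟩
        invFun := fun z => ⟨⟨z.1, p.1, p.2, z.2⟩, z.2⟩
        left_inv := fun z => rfl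
        right_inv := fun z => rfl }
  have h7' : ∀ π : D.CompPl, Nat.card {p : A // D.Inc p.1 π.1} = 7 := fun π => by
    rw [← D.card_points π.1]
    obtain ⟨p, hp, hi⟩ := π.2
    exact Nat.card_congr
      { toFun := fun z => ⟨z.1.1, z.2⟩
        invFun := fun z => ⟨⟨z.1, D.inc_comp hp hi z.2⟩, z.2⟩
        left_inv := fun z => rfl
        right_inv := fun z => rfl }
  have hsum := Nat.card_congr e
  rw [Nat.card_sigma, Nat.card_sigma] at hsum
  simp only [h7, h7', Finset.sum_const, Finset.card_univ, ← Nat.card_eq_fintype_card, smul_eq_mul] at hsum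
  have h15 : Nat.card A = 15 := D.card_comp
  show Nat.card D.CompPl = 15
  omega

/-- the third point of the line through the base point and a neighbour -/
theorem exists_third {q : D.Pt} (hq : D.Adj D.p0 q) : ∃ r, D.Adj D.p0 r ∧ r ≠ q ∧
    ∀ π, D.Inc D.p0 π → (D.Inc q π ↔ D.Inc r π) := by
  obtain ⟨h, hh, k, hk, hks, rfl⟩ := D.nbr_shape hq
  obtain ⟨c, hc, hkc, hce⟩ := D.lineF_kind (D.F2.mem_normE.1 hk s D.F2.s_mem_lineE) (conj_ne_one D.F.s_ne k) hks
  have hcF : D.F.el c ∈ D.F2.lineE := hce ▸ D.F2.mem_normE.1 hk s D.F2.s_mem_lineE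
  obtain ⟨k', hk', hk's⟩ := D.F2.exists_normE_conj D.hA2 (mul_mem D.F2.s_mem_lineE hcF) (fun e => hks (by
    rw [← hce, ← inv_eq_of_mul_eq_one_right e, inv_eq_of_mul_eq_one_right D.F.s_sq]))
  have hne' : k' * s * k'⁻¹ ≠ s := fun e => by
    rw [hk's] at e
    exact conj_ne_one D.F.s_ne k (hce ▸ mul_eq_left.mp e)
  refine ⟨h • QuotientGroup.mk k', ?_, fun e => ?_, fun π hπ => ?_⟩
  · refine ⟨fun e => hne' ?_, h • QuotientGroup.mk 1, ?_, D.inc_smul h ⟨k', rfl, QuotientGroup.eq.2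
      (by simpa using inv_mem hk')⟩⟩
    · have h1 : (QuotientGroup.mk k' : D.Pt) = D.p0 := by
        rw [← inv_smul_smul h (QuotientGroup.mk k' : D.Pt), ← e, D.smul_p0 (inv_mem hh)]
      exact mul_inv_eq_iff_eq_mul.2 (D.norm_inter (D.mk_eq_p0.1 h1) hk')
    · rw [← D.smul_p0 hh]
      exact D.inc_smul h ⟨1, rfl, rfl⟩
  · have h1 := smul_left_cancel h e
    have hm := D.norm_inter (QuotientGroup.eq.1 h1) (mul_mem (inv_mem hk') hk)
    have h2 : k' * s * k'⁻¹ = k * s * k⁻¹ := by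
      calc k' * s * k'⁻¹ = k' * (s * (k'⁻¹ * k)) * k⁻¹ := by group
        _ = k' * (k'⁻¹ * k * s) * k⁻¹ := by rw [hm]
        _ = k * s * k⁻¹ := by group
    rw [hk's, ← hce] at h2
    exact D.F.s_ne (mul_eq_right.mp h2)
  · obtain ⟨a, ha0, rfl⟩ := hπ
    have ha := mul_mem (inv_mem hh) (D.mk_eq_p0.1 ha0)
    have e1 := D.inc_iff_comm ha hk hks
    have e2 := D.inc_iff_comm ha hk' hne'
    rw [← D.inc_smul_iff h⁻¹, inv_smul_smul, ← D.inc_smul_iff h⁻¹ (p := h • (QuotientGroup.mk k' : D.Pt)),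
      inv_smul_smul]
    show D.Inc (QuotientGroup.mk k) (QuotientGroup.mk (h⁻¹ * a)) ↔
      D.Inc (QuotientGroup.mk k') (QuotientGroup.mk (h⁻¹ * a))
    rw [e1, e2, hk's, ← hce]
    set v := h⁻¹ * a * s * (h⁻¹ * a)⁻¹ with hv
    have hvs : Commute v s := D.F.lineE_comm (D.F.mem_normE.1 ha s D.F.s_mem_lineE) D.F.s_mem_lineE
    constructor
    · intro e
      exact (hvs.mul_right e).eq
    · intro e
      have h' := hvs.mul_right (show Commute v (s * D.F.el c) from e)
      rwa [← mul_assoc, D.F.s_sq, one_mul] at h'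

theorem uVec_smul {g : G} (hg : g ∈ D.G0) (p : D.Pt) (π : D.CompPl) :
    D.uVec p ⟨g⁻¹ • π.1, D.smul_compPl (inv_mem hg) π.2⟩ = D.uVec (g • p) π := by
  classical
  unfold uVec
  have : D.Inc p (g⁻¹ • π.1) ↔ D.Inc (g • p) π.1 := by rw [← D.inc_smul_iff g, smul_inv_smul]
  by_cases h : D.Inc (g • p) π.1 <;> simp [this, h]

theorem uVec_sum {p q : D.Pt} (hp : p ∈ D.comp) (hq : q ∈ D.comp) (hpq : p ≠ q) :
    ∃ r ∈ D.comp, D.uVec p + D.uVec q = D.uVec r := by
  classical
  obtain ⟨g, rfl⟩ := D.exists_smul_eq p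
  have hg := D.mem_G0_of_smul hp
  obtain ⟨q', rfl⟩ : ∃ q', g • q' = q := ⟨g⁻¹ • q, smul_inv_smul g q⟩
  have hq'c : q' ∈ D.comp := (hg q').1 hq
  have hq' : D.Adj D.p0 q' := hq'c.resolve_left fun e => hpq (by rw [e])
  obtain ⟨r, hr, hrq, hiff⟩ := D.exists_third hq'
  have hqr : D.Adj q' r := D.adj_trans (hq'.symm' D) hr hrq.symm
  have hcov : ∀ π : D.Pl, (∃ p ∈ D.comp, D.Inc p π) → ¬ D.Inc D.p0 π → (D.Inc q' π ↔ ¬ D.Inc r π) := by
    intro π hπ h0
    have key : ∀ π : D.Pl, D.Inc q' π → D.Inc r π → D.Inc D.p0 π := by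
      intro π a b
      let f : {π // D.Inc D.p0 π ∧ D.Inc q' π} → {π // D.Inc q' π ∧ D.Inc r π} := fun z =>
        ⟨z.1, z.2.2, (hiff _ z.2.1).1 z.2.2⟩
      have hf : Function.Injective f := fun a b e => Subtype.ext (congrArg Subtype.val e :)
      obtain ⟨z, hz⟩ := (hf.bijective_of_nat_card_le (by rw [D.card_common hq', D.card_common hqr])).2 ⟨π, a, b⟩
      have hzz : z.1 = π := congrArg Subtype.val hz
      exact hzz ▸ z.2.1
    refine ⟨fun a b => h0 (key π a b), fun b => ?_⟩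
    by_contra a
    let Off := {π : D.CompPl // ¬ D.Inc D.p0 π.1}
    haveI : Fintype D.CompPl := Fintype.ofFinite _
    have hoff : Nat.card Off = 8 := by
      have h7 : Nat.card {π : D.CompPl // D.Inc D.p0 π.1} = 7 := by
        rw [← D.card_planes D.p0]
        exact Nat.card_congr
          { toFun := fun z => ⟨z.1.1, z.2⟩
            invFun := fun z => ⟨⟨z.1, D.p0, Or.inl rfl, z.2⟩, z.2⟩
            left_inv := fun z => rfl
            right_inv := fun z => rfl }
      rw [Nat.card_eq_fintype_card, Fintype.card_subtype_compl, ← Nat.card_eq_fintype_card,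
        ← Nat.card_eq_fintype_card, D.card_compPl, h7]
    have h4 : ∀ z, D.Adj D.p0 z → Nat.card {π : D.Pl // D.Inc z π ∧ ¬ D.Inc D.p0 π} = 4 := by
      intro z hz
      haveI : Fintype {π // D.Inc z π} := Fintype.ofFinite _
      have h3 : Nat.card {π : {π // D.Inc z π} // D.Inc D.p0 π.1} = 3 := by
        rw [← D.card_common (hz.symm' D)]
        exact Nat.card_congr (Equiv.subtypeSubtypeEquivSubtypeInter (D.Inc z) (D.Inc D.p0))
      rw [← Nat.card_congr (Equiv.subtypeSubtypeEquivSubtypeInter (D.Inc z) (fun π => ¬ D.Inc D.p0 π)),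
        Nat.card_eq_fintype_card, Fintype.card_subtype_compl, ← Nat.card_eq_fintype_card,
        ← Nat.card_eq_fintype_card, D.card_planes, h3]
    let f : {π : D.Pl // D.Inc q' π ∧ ¬ D.Inc D.p0 π} ⊕ {π : D.Pl // D.Inc r π ∧ ¬ D.Inc D.p0 π} →
        {z : Off // z.1.1 ≠ π} := fun z => Sum.elim
      (fun w => ⟨⟨⟨w.1, q', hq'c, w.2.1⟩, w.2.2⟩, fun e => a (show D.Inc q' π from e ▸ w.2.1)⟩)
      (fun w => ⟨⟨⟨w.1, r, Or.inr hr, w.2.1⟩, w.2.2⟩, fun e => b (show D.Inc r π from e ▸ w.2.1)⟩) z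
    have hf : Function.Injective f := by
      intro x y e
      have e' : (f x).1.1.1 = (f y).1.1.1 := congrArg (fun w => w.1.1.1) e
      cases x with
      | inl x => cases y with
        | inl y => exact congrArg Sum.inl (Subtype.ext e')
        | inr y => exact absurd (key x.1 x.2.1 (by rw [show x.1 = y.1 from e']; exact y.2.1)) x.2.2
      | inr x => cases y with
        | inl y => exact absurd (key y.1 y.2.1 (by rw [← show x.1 = y.1 from e']; exact x.2.1)) y.2.2
        | inr y => exact congrArg Sum.inr (Subtype.ext e')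
    have hlt := Nat.card_le_card_of_injective f hf
    haveI : Fintype Off := Fintype.ofFinite _
    have hne : Nat.card {z : Off // z.1.1 ≠ π} < Nat.card Off := by
      refine Finite.card_subtype_lt (x := ⟨⟨π, hπ⟩, h0⟩) fun h => h rfl
    rw [Nat.card_sum, h4 q' hq', h4 r hr] at hlt
    change 4 + 4 ≤ Nat.card {z : Off // z.1.1 ≠ π} at hlt
    omega
  refine ⟨g • r, (hg r).2 (Or.inr hr), funext fun π => ?_⟩
  rw [Pi.add_apply, ← D.uVec_smul hg D.p0 π, ← D.uVec_smul hg q' π, ← D.uVec_smul hg r π]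
  have h2 := D.smul_compPl (inv_mem hg) π.2
  unfold uVec
  by_cases h0 : D.Inc D.p0 (g⁻¹ • π.1)
  · have := hiff _ h0
    by_cases h1 : D.Inc q' (g⁻¹ • π.1)
    · simp [h0, h1, this.1 h1]
    · have hr' : ¬ D.Inc r (g⁻¹ • π.1) := fun e => h1 (this.2 e)
      simp [h0, h1, hr']
  · have := hcov _ h2 h0
    by_cases h1 : D.Inc q' (g⁻¹ • π.1)
    · simp [h0, h1, this.1 h1]
    · have hr' : D.Inc r (g⁻¹ • π.1) := not_not.1 fun e => h1 (this.2 e)
      simp [h0, h1, hr', show (1 : ZMod 2) + 1 = 0 by decide]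

theorem uVec_ne_zero {p : D.Pt} (hp : p ∈ D.comp) : D.uVec p ≠ 0 := by
  classical
  intro h
  have hall : ∀ π : D.CompPl, D.Inc p π.1 := fun π => by
    have := congrFun h π
    unfold uVec at this
    by_contra e
    simp [e] at this
  have := Nat.card_le_card_of_injective (fun π : D.CompPl => (⟨π.1, hall π⟩ : {π // D.Inc p π}))
    (fun a b e => Subtype.ext (congrArg Subtype.val e :))
  rw [D.card_compPl, D.card_planes] at this
  omega

theorem uVec_inj {p q : D.Pt} (hp : p ∈ D.comp) (hq : q ∈ D.comp) (h : D.uVec p = D.uVec q) : p = q := by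
  classical
  by_contra hne
  have hadj : D.Adj p q := by
    rcases hp with rfl | hp
    · exact hq.resolve_left (Ne.symm hne)
    · rcases hq with rfl | hq
      · exact hp.symm' D
      · exact D.adj_trans (hp.symm' D) hq hne
  have hall : ∀ π, D.Inc p π → D.Inc q π := fun π hπ => by
    have := congrFun h ⟨π, p, hp, hπ⟩
    unfold uVec at this
    by_contra e
    simp [e, hπ] at this
  have := Nat.card_le_card_of_injective (fun π : {π // D.Inc p π} =>
    (⟨π.1, π.2, hall _ π.2⟩ : {π // D.Inc p π ∧ D.Inc q π})) (fun a b e => Subtype.ext (congrArg Subtype.val e :))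
  rw [D.card_planes, D.card_common hadj] at this
  omega

/-- the span of the indicator functions -/
noncomputable def V : AddSubgroup (D.CompPl → ZMod 2) where
  carrier := {f | f = 0 ∨ ∃ p ∈ D.comp, D.uVec p = f}
  zero_mem' := Or.inl rfl
  add_mem' := by
    rintro f f' (rfl | ⟨p, hp, rfl⟩) h'
    · rwa [zero_add]
    rcases h' with rfl | ⟨q, hq, rfl⟩
    · rw [add_zero]; exact Or.inr ⟨p, hp, rfl⟩
    by_cases h : p = q
    · subst h
      exact Or.inl (funext fun π => CharTwo.add_self_eq_zero _)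
    · obtain ⟨r, hr, e⟩ := D.uVec_sum hp hq h
      exact Or.inr ⟨r, hr, e.symm⟩
  neg_mem' := fun {f} hf => by
    rwa [show -f = f from funext fun π => CharTwo.neg_eq _]

theorem card_V : Nat.card D.V = 16 := by
  classical
  haveI : Fintype D.comp := Fintype.ofFinite _
  let φ : Option D.comp → D.V := fun o =>
    o.elim 0 fun p => ⟨D.uVec p.1, Or.inr ⟨p.1, p.2, rfl⟩⟩
  have hφ : Function.Bijective φ := by
    refine ⟨?_, ?_⟩
    · rintro (_ | p) (_ | q) e
      · rfl
      · exact absurd (congrArg Subtype.val e).symm (D.uVec_ne_zero q.2)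
      · exact absurd (congrArg Subtype.val e) (D.uVec_ne_zero p.2)
      · exact congrArg some (Subtype.ext (D.uVec_inj p.2 q.2 (congrArg Subtype.val e)))
    · rintro ⟨f, rfl | ⟨p, hp, rfl⟩⟩
      · exact ⟨none, rfl⟩
      · exact ⟨some ⟨p, hp⟩, rfl⟩
  rw [← Nat.card_eq_of_bijective φ hφ, Finite.card_option, D.card_comp]

theorem fix_all_eq_one {g : G} (hg : ∀ p ∈ D.comp, g • p = p) : g = 1 := by
  classical
  have hgM : g ∈ D.F.normE := D.mk_eq_p0.1 (by
    have := hg D.p0 (Or.inl rfl)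
    rw [← mul_one g]; exact this)
  obtain ⟨k, hk, hke⟩ := D.F2.exists_normE_conj D.hA2 (D.F2.lineE_mem (m := 2) (by omega))
    (D.F2.el_ne_one (by omega) (by omega))
  rw [D.e2] at hke
  have hks : k * s * k⁻¹ ≠ s := fun e => by
    have := D.F.el_inj (by omega) (by omega) (hke.symm.trans (e.trans D.F.el_one.symm))
    omega
  have hnb : ∀ h ∈ D.F.normE, h • (QuotientGroup.mk k : D.Pt) ∈ D.comp := fun h hh =>
    D.inc_comp (π := h • (QuotientGroup.mk 1 : D.Pl)) (Or.inl rfl)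
      (by rw [← D.smul_p0 hh]; exact D.inc_smul h ⟨1, rfl, rfl⟩)
      (D.inc_smul h ⟨k, rfl, QuotientGroup.eq.2 (by simpa using inv_mem hk)⟩)
  have hfix : ∀ h ∈ D.F.normE, h⁻¹ * g * h ∈ D.F.normE ∧
      (h⁻¹ * g * h) • (QuotientGroup.mk k : D.Pt) = QuotientGroup.mk k := fun h hh => by
    refine ⟨mul_mem (mul_mem (inv_mem hh) hgM) hh, ?_⟩
    rw [mul_smul, mul_smul, hg _ (hnb h hh), inv_smul_smul]
  have key : ∀ h ∈ D.F.normE, ∀ v ∈ D.F.lineE, v * D.F.el 8 = D.F.el 8 * v →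
      (h * (h⁻¹ * g * h) * h⁻¹) * (h * v * h⁻¹) * (h * (h⁻¹ * g * h) * h⁻¹)⁻¹ =
        h * ((h⁻¹ * g * h) * v * (h⁻¹ * g * h)⁻¹) * h⁻¹ ∧
      (h⁻¹ * g * h) * v * (h⁻¹ * g * h)⁻¹ * D.F.el 8 =
        D.F.el 8 * ((h⁻¹ * g * h) * v * (h⁻¹ * g * h)⁻¹) := by
    intro h hh v hv hv8
    refine ⟨by group, ?_⟩
    obtain ⟨hn, hkfix⟩ := hfix h hh
    set w := h⁻¹ * g * h
    by_cases hv1 : v = 1
    · rw [hv1]; group
    obtain ⟨a, ha, hae⟩ := D.F.exists_normE_conj D.hA hv hv1
    have hinc : D.Inc (QuotientGroup.mk k) (QuotientGroup.mk a) :=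
      (D.inc_iff_comm ha hk hks).2 (by rw [hae, hke]; exact hv8)
    have h2 : D.Inc (QuotientGroup.mk k) (QuotientGroup.mk (w * a)) := hkfix ▸ D.inc_smul w hinc
    have h3 := (D.inc_iff_comm (mul_mem hn ha) hk hks).1 h2
    rwa [hke, show w * a * s * (w * a)⁻¹ = w * (a * s * a⁻¹) * w⁻¹ by group, hae] at h3
  have hcent : ∀ v ∈ D.F.lineE, g * v = v * g := by
    intro v hv
    by_cases hv1 : v = 1
    · rw [hv1, mul_one, one_mul]
    obtain ⟨a, ha, rfl⟩ := D.F.exists_normE_conj D.hA hv hv1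
    have h32 : D.F.el 32 ∈ D.F.normE := D.F.cent_le_normE (D.F.el_comm_s (by omega))
    have h18 : s * D.F.el 8 = D.F.el 8 * s := (D.F.el_comm_s (by omega)).symm
    obtain ⟨-, e1⟩ := key a ha s D.F.s_mem_lineE h18
    obtain ⟨-, e2⟩ := key (a * D.F.el 32) (mul_mem ha h32) s D.F.s_mem_lineE h18
    obtain ⟨m, hm, hme⟩ := D.F.mem_lineE.1 (D.F.mem_normE.1 (hfix a ha).1 s D.F.s_mem_lineE)
    rw [← hme] at e1
    have e2' : D.F.el m * D.F.el 16 = D.F.el 16 * D.F.el m := by
      have h' := comm_conj e2 (D.F.el 32)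
      have hc16 : D.F.el 32 * D.F.el 8 * (D.F.el 32)⁻¹ = D.F.el 16 := by
        rw [D.F.el_conj (by omega) (by omega), show cjS 32 8 = 16 by decide +kernel]
      have hxs := D.F.el_comm_s (m := 32) (by omega)
      rw [hc16] at h'
      have e : D.F.el 32 * ((a * D.F.el 32)⁻¹ * g * (a * D.F.el 32) * s *
          ((a * D.F.el 32)⁻¹ * g * (a * D.F.el 32))⁻¹) * (D.F.el 32)⁻¹ = D.F.el m := by
        rw [hme]
        calc _ = a⁻¹ * g * a * (D.F.el 32 * s) * (D.F.el 32)⁻¹ * (a⁻¹ * g * a)⁻¹ := by group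
          _ = a⁻¹ * g * a * (s * D.F.el 32) * (D.F.el 32)⁻¹ * (a⁻¹ * g * a)⁻¹ := by rw [hxs]
          _ = _ := by group
      rwa [e] at h'
    have hd : allB 8 (fun m => decide (m ≤ 1) || !comS m 8 || !comS m 16) = true := by decide +kernel
    have h := allB_spec hd hm
    rw [(D.F.comS_iff (by omega) (by omega)).1 e1, (D.F.comS_iff (by omega) (by omega)).1 e2'] at h
    simp only [Bool.not_true, Bool.or_false, decide_eq_true_eq] at h
    rcases Nat.lt_or_ge m 1 with h0 | h0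
    · rw [show m = 0 by omega, D.F.el_zero] at hme
      exact absurd hme.symm (conj_ne_one D.F.s_ne _)
    · rw [show m = 1 by omega, D.F.el_one, eq_mul_inv_iff_mul_eq] at hme
      calc g * (a * s * a⁻¹) = a * (a⁻¹ * g * a * s) * a⁻¹ := by group
        _ = a * (s * (a⁻¹ * g * a)) * a⁻¹ := by rw [hme]
        _ = a * s * a⁻¹ * g := by group
  have hgE := D.F.lineE_self_cent hcent
  by_contra hg1
  obtain ⟨a, ha, hae⟩ := D.F.exists_normE_conj D.hA hgE hg1
  obtain ⟨b, hb, hbe⟩ := D.F.exists_normE_conj D.hA (D.F.lineE_mem (m := 4) (by omega))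
    (D.F.el_ne_one (by omega) (by omega))
  have h1 := (hfix (a * b⁻¹) (mul_mem ha (inv_mem hb))).2
  have e4 : (a * b⁻¹)⁻¹ * g * (a * b⁻¹) = D.F.el 4 := by rw [← hae, ← hbe]; group
  rw [e4] at h1
  have h2 : k⁻¹ * (D.F.el 4 * k) ∈ D.F.normE := QuotientGroup.eq.1 h1.symm
  have h3 : D.F.el 4 ∈ D.F2.normE := D.F2.cent_le_normE (D.F.el_comm_s (by omega))
  have hm := D.norm_inter h2 (mul_mem (inv_mem hk) (mul_mem h3 hk))
  have h4 : D.F.el 4 * D.F.el 8 * (D.F.el 4)⁻¹ = D.F.el 8 := by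
    rw [← hke]
    calc D.F.el 4 * (k * s * k⁻¹) * (D.F.el 4)⁻¹ = k * (k⁻¹ * (D.F.el 4 * k) * s) * k⁻¹ * (D.F.el 4)⁻¹ := by group
      _ = k * (s * (k⁻¹ * (D.F.el 4 * k))) * k⁻¹ * (D.F.el 4)⁻¹ := by rw [hm]
      _ = k * s * k⁻¹ := by group
  rw [D.F.el_conj (by omega) (by omega)] at h4
  have := D.F.el_inj (Frame.cjS_lt _ _) (by omega) h4
  exact absurd this (by decide +kernel)

theorem exists_equiv_alt : Nonempty (D.G0 ≃* alternatingGroup (Fin 8)) := by
  classical
  have two : ∀ x : D.V, (2 : ℕ) • x = 0 := fun x => by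
    refine Subtype.ext (funext fun π => ?_)
    rw [two_nsmul]
    exact CharTwo.add_self_eq_zero _
  letI : Module (ZMod 2) D.V := AddCommGroup.zmodModule two
  have hrank : Module.finrank (ZMod 2) D.V = 4 := by
    haveI : Fintype D.V := Fintype.ofFinite _
    have h := Module.card_eq_pow_finrank (K := ZMod 2) (V := D.V)
    rw [ZMod.card, ← Nat.card_eq_fintype_card, D.card_V] at h
    exact Nat.pow_right_injective le_rfl (h.symm.trans (by norm_num : (16 : ℕ) = 2 ^ 4))
  let b := Module.finBasisOfFinrankEq (ZMod 2) D.V hrank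
  have hmem : ∀ (g : D.G0) (f : D.V), (fun π : D.CompPl =>
      (f : D.CompPl → ZMod 2) ⟨(g : G)⁻¹ • π.1, D.smul_compPl (inv_mem g.2) π.2⟩) ∈ D.V := by
    rintro g ⟨f, rfl | ⟨p, hp, rfl⟩⟩
    · exact Or.inl rfl
    · exact Or.inr ⟨(g : G) • p, (g.2 p).2 hp, funext fun π => (D.uVec_smul g.2 p π).symm⟩
  let act : D.G0 → D.V →+ D.V := fun g =>
    AddMonoidHom.mk' (fun f => ⟨_, hmem g f⟩) fun f f' => Subtype.ext rfl
  let E : D.G0 →* Module.End (ZMod 2) D.V :=
    { toFun := fun g => (act g).toZModLinearMap 2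
      map_one' := LinearMap.ext fun f => Subtype.ext (funext fun π => by
        show (f : D.CompPl → ZMod 2) _ = (f : D.CompPl → ZMod 2) π
        refine congrArg (f : D.CompPl → ZMod 2) (Subtype.ext ?_)
        show ((1 : G))⁻¹ • π.1 = π.1
        rw [inv_one, one_smul])
      map_mul' := fun g g' => LinearMap.ext fun f => Subtype.ext (funext fun π => by
        show (f : D.CompPl → ZMod 2) _ = (f : D.CompPl → ZMod 2) _
        refine congrArg (f : D.CompPl → ZMod 2) (Subtype.ext ?_)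
        show ((g : G) * (g' : G))⁻¹ • π.1 = (g' : G)⁻¹ • ((g : G)⁻¹ • π.1)
        rw [mul_inv_rev, mul_smul]) }
  let F : D.G0 →* Matrix (Fin 4) (Fin 4) (ZMod 2) := (LinearMap.toMatrixAlgEquiv b).toMonoidHom.comp E
  let φ : D.G0 →* GL (Fin 4) (ZMod 2) := F.toHomUnits
  have hinj : Function.Injective φ := by
    rw [← MonoidHom.ker_eq_bot_iff, eq_bot_iff]
    intro g hg
    have hF : F g = 1 := congrArg Units.val (MonoidHom.mem_ker.1 hg)
    have hE : E g = 1 := (LinearMap.toMatrixAlgEquiv b).injective (hF.trans (map_one _).symm)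
    refine Subtype.ext (D.fix_all_eq_one fun p hp => ?_)
    refine D.uVec_inj ((g.2 p).2 hp) hp (funext fun π => ?_)
    rw [← D.uVec_smul g.2 p π]
    exact congrArg (fun e : Module.End (ZMod 2) D.V =>
      ((e ⟨D.uVec p, Or.inr ⟨p, hp, rfl⟩⟩ : D.V) : D.CompPl → ZMod 2) π) hE
  have hbij : Function.Bijective φ := hinj.bijective_of_nat_card_le (by
    rw [CfsgLib.KnownSimple.GLFourTwo.card_GL, D.card_G0])
  exact ⟨(MulEquiv.ofBijective φ hbij).trans CfsgLib.KnownSimple.GLFourTwo.glFourTwoEquivAlt⟩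

end Two

end CfsgLib.ExtraSpS3
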