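import Mathlib

/-!
Subgroups of the alternating group of degree eight without regular involutions in which double
transpositions have centralisers of order `24`: the point stabilisers.
-/
set_option autoImplicit false
set_option maxRecDepth 20000

namespace CfsgLib.ExtraSpS3.EightModel

open Equiv

/-- permutations of eight points -/
abbrev P8 := Equiv.Perm (Fin 8)

/-- a double transposition -/
def w2 : P8 := swap 0 1 * swap 2 3

/-- a regular involution -/
def w4 : P8 := swap 0 1 * swap 2 3 * swap 4 5 * swap 6 7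

/-- the elements of `Sym 4` on the back four points -/
def backList : List P8 :=
  [4, 5, 6, 7].flatMap fun a : Fin 8 => [5, 6, 7].flatMap fun b : Fin 8 =>
    [6, 7].map fun c : Fin 8 => swap 4 a * swap 5 b * swap 6 c

/-- the centraliser of the front involution among the permutations of the front four points -/
def frontList : List P8 :=
  [1, swap 0 1, swap 2 3, swap 0 1 * swap 2 3, swap 0 2 * swap 1 3,
    swap 0 1 * (swap 0 2 * swap 1 3), swap 2 3 * (swap 0 2 * swap 1 3),
    swap 0 1 * swap 2 3 * (swap 0 2 * swap 1 3)]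

/-- the centraliser of `w2` -/
def centList : List P8 := backList.flatMap fun b => frontList.map fun a => b * a

theorem cent_complete {p : P8} (hp : p * w2 = w2 * p) : p ∈ centList := by
  have hap : ∀ q : P8, q * w2 = w2 * q → ∀ x, q (w2 x) = w2 (q x) := fun q hq x =>
    congrArg (fun r : P8 => r x) hq
  have hmove : ∀ x : Fin 8, w2 x = x ↔ 4 ≤ x := by decide +kernel
  have hback : ∀ q : P8, q * w2 = w2 * q → ∀ x : Fin 8, 4 ≤ x → 4 ≤ q x := fun q hq x hx =>
    (hmove _).1 (by rw [← hap q hq, (hmove x).2 hx])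
  have hsw : ∀ a b : Fin 8, 4 ≤ a → 4 ≤ b → swap a b * w2 = w2 * swap a b := by decide +kernel
  have h4 := hback p hp 4 (by decide)
  set q := swap 4 (p 4) * p with hq
  have hqc : q * w2 = w2 * q := by
    rw [hq, mul_assoc, hp, ← mul_assoc, hsw 4 _ (by decide) h4, mul_assoc]
  have q4 : q 4 = 4 := by simp [hq]
  have h5 := hback q hqc 5 (by decide)
  have q5' : q 5 ≠ 4 := fun e => absurd (q.injective (e.trans q4.symm)) (by decide)
  set r := swap 5 (q 5) * q with hr
  have hrc : r * w2 = w2 * r := by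
    rw [hr, mul_assoc, hqc, ← mul_assoc, hsw 5 _ (by decide) h5, mul_assoc]
  have r4 : r 4 = 4 := by
    rw [hr, Equiv.Perm.mul_apply, q4, Equiv.swap_apply_of_ne_of_ne (by decide) q5'.symm]
  have r5 : r 5 = 5 := by simp [hr]
  have h6 := hback r hrc 6 (by decide)
  have r6' : r 6 ≠ 4 ∧ r 6 ≠ 5 :=
    ⟨fun e => absurd (r.injective (e.trans r4.symm)) (by decide),
      fun e => absurd (r.injective (e.trans r5.symm)) (by decide)⟩
  set t := swap 6 (r 6) * r with ht
  have htc : t * w2 = w2 * t := by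
    rw [ht, mul_assoc, hrc, ← mul_assoc, hsw 6 _ (by decide) h6, mul_assoc]
  have t4 : t 4 = 4 := by
    rw [ht, Equiv.Perm.mul_apply, r4, Equiv.swap_apply_of_ne_of_ne (by decide) r6'.1.symm]
  have t5 : t 5 = 5 := by
    rw [ht, Equiv.Perm.mul_apply, r5, Equiv.swap_apply_of_ne_of_ne (by decide) r6'.2.symm]
  have t6 : t 6 = 6 := by simp [ht]
  have t7 : t 7 = 7 := by
    have h7 := hback t htc 7 (by decide)
    have e4 : t 7 ≠ 4 := fun e => absurd (t.injective (e.trans t4.symm)) (by decide)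
    have e5 : t 7 ≠ 5 := fun e => absurd (t.injective (e.trans t5.symm)) (by decide)
    have e6 : t 7 ≠ 6 := fun e => absurd (t.injective (e.trans t6.symm)) (by decide)
    revert h7 e4 e5 e6
    generalize t 7 = y
    revert y
    decide
  have t0 : t 0 < 4 ∧ t 2 < 4 ∧ t 2 ≠ t 0 ∧ t 2 ≠ w2 (t 0) := by
    have hlt : ∀ x : Fin 8, x < 4 → t x < 4 := by
      intro x hx
      by_contra h
      push Not at h
      have h' : t (w2 x) = t x := by rw [hap t htc, (hmove _).2 h]
      exact absurd ((hmove x).1 (t.injective h')) (not_le.2 hx)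
    refine ⟨hlt 0 (by decide), hlt 2 (by decide), fun e => absurd (t.injective e) (by decide), fun e => ?_⟩
    rw [← hap t htc] at e
    exact absurd (t.injective e) (by decide)
  have hfront : ∀ a b : Fin 8, a < 4 → b < 4 → b ≠ a → b ≠ w2 a →
      ∃ f ∈ frontList, f 0 = a ∧ f 1 = w2 a ∧ f 2 = b ∧ f 3 = w2 b ∧ f 4 = 4 ∧ f 5 = 5 ∧ f 6 = 6 ∧ f 7 = 7 := by
    decide +kernel
  obtain ⟨f, hf, f0, f1, f2, f3, f4, f5, f6, f7⟩ := hfront _ _ t0.1 t0.2.1 t0.2.2.1 t0.2.2.2
  have htf : t = f := by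
    refine Equiv.ext fun x => ?_
    fin_cases x
    · exact f0.symm
    · exact (show t 1 = w2 (t 0) from (hap t htc 0)).trans f1.symm
    · exact f2.symm
    · exact (show t 3 = w2 (t 2) from (hap t htc 2)).trans f3.symm
    · exact t4.trans f4.symm
    · exact t5.trans f5.symm
    · exact t6.trans f6.symm
    · exact t7.trans f7.symm
  have hpe : p = swap 4 (p 4) * swap 5 (q 5) * swap 6 (r 6) * f := by
    rw [← htf, ht, hr, hq]
    simp only [mul_assoc, Equiv.swap_mul_self_mul]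
  rw [hpe]
  refine List.mem_flatMap.2 ⟨_, ?_, List.mem_map.2 ⟨f, hf, rfl⟩⟩
  have hmem : ∀ a b c : Fin 8, 4 ≤ a → 4 ≤ b → b ≠ 4 → 4 ≤ c → c ≠ 4 → c ≠ 5 →
      a ∈ ([4, 5, 6, 7] : List (Fin 8)) ∧ b ∈ ([5, 6, 7] : List (Fin 8)) ∧ c ∈ ([6, 7] : List (Fin 8)) := by
    decide +kernel
  obtain ⟨m1, m2, m3⟩ := hmem _ _ _ h4 h5 q5' h6 r6'.1 r6'.2
  exact List.mem_flatMap.2 ⟨_, m1, List.mem_flatMap.2 ⟨_, m2, List.mem_map.2 ⟨_, m3, rfl⟩⟩⟩

/-- a double transposition in the alternating group -/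
def IsTwo (v : P8) : Prop := ∃ g ∈ alternatingGroup (Fin 8), g * w2 * g⁻¹ = v

/-- a subgroup of the kind considered -/
structure Good (H : Subgroup P8) : Prop where
  le_alt : H ≤ alternatingGroup (Fin 8)
  free : ∀ v ∈ H, v * v = 1 → ∃ x, v x = x
  count : ∀ v ∈ H, IsTwo v → Nat.card (H ⊓ Subgroup.centralizer ({v} : Set P8) : Subgroup P8) = 24

theorem Good.conj {H : Subgroup P8} (hH : Good H) {g : P8} (hg : g ∈ alternatingGroup (Fin 8)) :
    Good (H.map (MulAut.conj g).toMonoidHom) := by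
  refine ⟨?_, ?_, ?_⟩
  · rintro _ ⟨v, hv, rfl⟩
    exact mul_mem (mul_mem hg (hH.le_alt hv)) (inv_mem hg)
  · rintro _ ⟨v, hv, rfl⟩ h2
    rw [← map_mul, ← map_one (MulAut.conj g).toMonoidHom] at h2
    obtain ⟨x, hx⟩ := hH.free v hv ((MulAut.conj g).injective h2)
    exact ⟨g x, by simp [hx]⟩
  · rintro _ ⟨v, hv, rfl⟩ ⟨a, ha, hav⟩
    have hav' : a * w2 * a⁻¹ = g * v * g⁻¹ := hav
    have htwo : IsTwo v := ⟨g⁻¹ * a, mul_mem (inv_mem hg) ha, by
      calc g⁻¹ * a * w2 * (g⁻¹ * a)⁻¹ = g⁻¹ * (a * w2 * a⁻¹) * g := by group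
        _ = v := by rw [hav']; group⟩
    rw [← hH.count v hv htwo]
    refine Nat.card_congr (Equiv.subtypeEquiv (MulAut.conj g).toEquiv fun x => ?_).symm
    simp only [Subgroup.mem_inf, Subgroup.mem_centralizer_singleton_iff, Subgroup.mem_map,
      MulEquiv.toEquiv_eq_coe, MulEquiv.coe_toMonoidHom, EquivLike.coe_coe]
    constructor
    · rintro ⟨hx, hxv⟩
      exact ⟨⟨x, hx, rfl⟩, by rw [← map_mul, hxv, map_mul]⟩
    · rintro ⟨⟨y, hy, e⟩, hxv⟩
      rw [(MulAut.conj g).injective e] at hy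
      rw [← map_mul, ← map_mul] at hxv
      exact ⟨hy, (MulAut.conj g).injective hxv⟩

/-- the elements of order three commuting with `w2` -/
def threeList : List P8 :=
  [swap 4 5 * swap 5 6, swap 5 6 * swap 4 5, swap 4 5 * swap 5 7, swap 5 7 * swap 4 5,
    swap 4 6 * swap 6 7, swap 6 7 * swap 4 6, swap 5 6 * swap 6 7, swap 6 7 * swap 5 6]

theorem three_complete : ∀ p ∈ centList, p * p * p = 1 → p ≠ 1 → p ∈ threeList := by
  have h : (centList.all fun p => decide (p * p * p = 1 → p ≠ 1 → p ∈ threeList)) = true := by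
    decide +kernel
  exact fun p hp => of_decide_eq_true (List.all_eq_true.1 h p hp)

theorem three_facts : ∀ a ∈ threeList, a * w2 = w2 * a ∧
    ∃ i : Fin 8, 4 ≤ i ∧ a i = i ∧ ∀ k : Fin 8, 4 ≤ k → a k = k → k = i := by
  have h : (threeList.all fun a => decide (a * w2 = w2 * a ∧
      ∃ i : Fin 8, 4 ≤ i ∧ a i = i ∧ ∀ k : Fin 8, 4 ≤ k → a k = k → k = i)) = true := by
    decide +kernel
  exact fun a ha => of_decide_eq_true (List.all_eq_true.1 h a ha)

theorem three_pair : ∀ a ∈ threeList, ∀ a' ∈ threeList, (∀ k : Fin 8, 4 ≤ k → a k = k → a' k ≠ k) →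
    ((w2 * (a * a')) * (w2 * (a * a')) = 1 ∧ ∀ x, (w2 * (a * a')) x ≠ x) ∨
      ((w2 * (a * a * a')) * (w2 * (a * a * a')) = 1 ∧ ∀ x, (w2 * (a * a * a')) x ≠ x) := by
  have h : (threeList.all fun a => threeList.all fun a' =>
      decide ((∀ k : Fin 8, 4 ≤ k → a k = k → a' k ≠ k) →
        ((w2 * (a * a')) * (w2 * (a * a')) = 1 ∧ ∀ x, (w2 * (a * a')) x ≠ x) ∨
          ((w2 * (a * a * a')) * (w2 * (a * a * a')) = 1 ∧ ∀ x, (w2 * (a * a * a')) x ≠ x))) = true := by
    decide +kernel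
  exact fun a ha a' ha' => of_decide_eq_true (List.all_eq_true.1 (List.all_eq_true.1 h a ha) a' ha')

/-- the even elements commuting with `w2`: products of equal parities -/
def evenList : List P8 :=
  (backList.filter fun b => Equiv.Perm.sign b = 1).flatMap
      (fun b => (frontList.filter fun a => Equiv.Perm.sign a = 1).map fun a => b * a) ++
    (backList.filter fun b => ¬ Equiv.Perm.sign b = 1).flatMap
      (fun b => (frontList.filter fun a => ¬ Equiv.Perm.sign a = 1).map fun a => b * a)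

theorem even_complete {p : P8} (hp : p * w2 = w2 * p) (hs : Equiv.Perm.sign p = 1) : p ∈ evenList := by
  obtain ⟨b, hb, h⟩ := List.mem_flatMap.1 (cent_complete hp)
  obtain ⟨a, ha, rfl⟩ := List.mem_map.1 h
  rw [map_mul] at hs
  rw [evenList, List.mem_append]
  by_cases hbe : Equiv.Perm.sign b = 1
  · left
    rw [hbe, one_mul] at hs
    exact List.mem_flatMap.2 ⟨b, List.mem_filter.2 ⟨hb, by simpa using hbe⟩,
      List.mem_map.2 ⟨a, List.mem_filter.2 ⟨ha, by simpa using hs⟩, rfl⟩⟩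
  · right
    have hae : ¬ Equiv.Perm.sign a = 1 := fun e => hbe (by rwa [e, mul_one] at hs)
    exact List.mem_flatMap.2 ⟨b, List.mem_filter.2 ⟨hb, by simpa using hbe⟩,
      List.mem_map.2 ⟨a, List.mem_filter.2 ⟨ha, by simpa using hae⟩, rfl⟩⟩

theorem even_count : ∀ i : Fin 8, 4 ≤ i → (evenList.filter fun q => decide (q i = i)).length ≤ 24 := by
  decide +kernel

theorem claim {H : Subgroup P8} (hH : Good H) (hw : w2 ∈ H) :
    ∃ i : Fin 8, 4 ≤ i ∧ ∀ p ∈ alternatingGroup (Fin 8), p * w2 = w2 * p → (p ∈ H ↔ p i = i) := by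
  classical
  haveI : Fact (Nat.Prime 3) := ⟨Nat.prime_three⟩
  set K : Subgroup P8 := H ⊓ Subgroup.centralizer ({w2} : Set P8) with hK
  have hK24 : Nat.card K = 24 := hH.count w2 hw ⟨1, one_mem _, by group⟩
  obtain ⟨⟨o, hoK⟩, ho⟩ := exists_prime_orderOf_dvd_card' (G := K) 3 (by rw [hK24]; norm_num)
  rw [← Subgroup.orderOf_coe] at ho
  change orderOf o = 3 at ho
  have ho1 : o ≠ 1 := fun e => by rw [e, orderOf_one] at ho; omega
  have ho3 : o * o * o = 1 := by
    have := pow_orderOf_eq_one o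
    rwa [ho, pow_succ, pow_two] at this
  have hoc : o * w2 = w2 * o := Subgroup.mem_centralizer_singleton_iff.1 hoK.2
  have hoT := three_complete o (cent_complete hoc) ho3 ho1
  obtain ⟨-, i, hi4, hoi, huni⟩ := three_facts o hoT
  have hstep : ∀ p ∈ K, p i = i := by
    rintro p ⟨hp, hpc⟩
    have hpc' := Subgroup.mem_centralizer_singleton_iff.1 hpc
    by_contra hpi
    have hpi4 : 4 ≤ p i := by
      have hmove : ∀ x : Fin 8, w2 x = x ↔ 4 ≤ x := by decide +kernel
      rw [← hmove, show w2 (p i) = p (w2 i) from (congrArg (fun r : P8 => r i) hpc').symm, (hmove i).2 hi4]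
    have hconj : p * o * p⁻¹ ∈ H := mul_mem (mul_mem hp hoK.1) (inv_mem hp)
    have hoc' : p * o * p⁻¹ * w2 = w2 * (p * o * p⁻¹) :=
      (((show Commute p w2 from hpc').mul_left (show Commute o w2 from hoc)).mul_left
        (show Commute p w2 from hpc').inv_left).eq
    have h3' : p * o * p⁻¹ * (p * o * p⁻¹) * (p * o * p⁻¹) = 1 := by
      calc p * o * p⁻¹ * (p * o * p⁻¹) * (p * o * p⁻¹) = p * (o * o * o) * p⁻¹ := by group
        _ = 1 := by rw [ho3]; group
    have hne' : p * o * p⁻¹ ≠ 1 := fun e => ho1 (conj_eq_one_iff.1 e)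
    have hT' := three_complete _ (cent_complete hoc') h3' hne'
    have hdis : ∀ k : Fin 8, 4 ≤ k → o k = k → (p * o * p⁻¹) k ≠ k := by
      intro k hk hok hfix
      obtain ⟨-, j, -, -, huni'⟩ := three_facts _ hT'
      have h1 := huni' k hk hfix
      have h2 := huni' (p i) hpi4 (by simp [hoi])
      exact hpi ((h2.trans h1.symm).trans (huni k hk hok))
    rcases three_pair o hoT _ hT' hdis with ⟨h2, hx⟩ | ⟨h2, hx⟩
    · obtain ⟨x, hx'⟩ := hH.free _ (mul_mem hw (mul_mem hoK.1 hconj)) h2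
      exact hx x hx'
    · obtain ⟨x, hx'⟩ := hH.free _ (mul_mem hw (mul_mem (mul_mem hoK.1 hoK.1) hconj)) h2
      exact hx x hx'
  refine ⟨i, hi4, fun p hp hpc => ⟨fun h => hstep p ⟨h, Subgroup.mem_centralizer_singleton_iff.2 hpc⟩, fun h => ?_⟩⟩
  set S : Finset P8 := (evenList.filter fun q => decide (q i = i)).toFinset with hS
  have hScard : S.card ≤ 24 := (List.toFinset_card_le _).trans (even_count i hi4)
  have hmem : ∀ q : K, (q : P8) ∈ S := fun q => by
    rw [hS, List.mem_toFinset, List.mem_filter, decide_eq_true_eq]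
    exact ⟨even_complete (Subgroup.mem_centralizer_singleton_iff.1 q.2.2)
      (Equiv.Perm.mem_alternatingGroup.1 (hH.le_alt q.2.1)), hstep q q.2⟩
  let f : K → S := fun q => ⟨q, hmem q⟩
  have hf : Function.Injective f := fun a b e => Subtype.ext (congrArg (fun z : S => (z : P8)) e)
  have hbij := hf.bijective_of_nat_card_le (by rw [hK24, Nat.card_eq_fintype_card, Fintype.card_coe]; exact hScard)
  obtain ⟨q, hq⟩ := hbij.2 ⟨p, by
    rw [hS, List.mem_toFinset, List.mem_filter, decide_eq_true_eq]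
    exact ⟨even_complete hpc (Equiv.Perm.mem_alternatingGroup.1 hp), h⟩⟩
  have : (q : P8) = p := congrArg (fun z : S => (z : P8)) hq
  exact this ▸ q.2.1

/-- a product of listed elements -/
def word (l : List P8) (is : List ℕ) : P8 := (is.map fun i => l.getD i 1).prod

theorem word_mem {H : Subgroup P8} {l : List P8} (hl : ∀ a ∈ l, a ∈ H) (is : List ℕ) : word l is ∈ H := by
  refine Subgroup.list_prod_mem _ fun a ha => ?_
  obtain ⟨i, -, rfl⟩ := List.mem_map.1 ha
  rw [List.getD_eq_getElem?_getD]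
  cases h : l[i]? with
  | none => exact one_mem _
  | some b => exact hl b (List.mem_of_getElem? h)

/-- the generators found -/
def gensSeven : List P8 :=
  [swap 4 5 * swap 5 6, swap 0 1 * swap 4 5, swap 1 3 * swap 4 5, swap 0 2 * swap 1 3, swap 2 3 * swap 3 6,
    swap 0 4 * swap 1 5]

/-- the generators in the impossible case -/
def gensBad : List P8 :=
  [swap 4 5 * swap 5 6, swap 0 1 * swap 4 5, swap 1 3 * swap 4 5, swap 0 2 * swap 1 3, swap 2 3 * swap 3 7,
    swap 0 4 * swap 1 5]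

/-- coset representatives down the chain of stabilisers -/
def chainWords : List (List (List ℕ)) :=
  [[[], [1], [3], [2, 1], [5], [0, 5], [0, 0, 5]],
    [[], [4, 4, 2], [2], [0, 4, 2], [0, 0, 4, 2], [4, 2]],
    [[], [4], [0, 4, 4], [0, 0, 4, 4], [4, 4]],
    [[], [1, 5, 2, 5], [5, 2, 1, 5], [3, 1, 3, 4]],
    [[], [0], [0, 0]]]

theorem chain_step {H : Subgroup P8} (hl : ∀ a ∈ gensSeven, a ∈ H) {k : ℕ} (hk : k < 5) {p : P8}
    (h7 : p 7 = 7) (hfix : ∀ m : Fin 8, (m : ℕ) < k → p m = m) :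
    ∃ h ∈ H, (h⁻¹ * p) 7 = 7 ∧ ∀ m : Fin 8, (m : ℕ) < k + 1 → (h⁻¹ * p) m = m := by
  have hd : ∀ k : Fin 5, ∀ a : Fin 8, (k : ℕ) ≤ a → a ≠ 7 → ∃ w ∈ chainWords.getD k [],
      word gensSeven w ⟨k, Nat.lt_trans k.2 (by decide)⟩ = a ∧ word gensSeven w 7 = 7 ∧
        ∀ m : Fin 8, (m : ℕ) < k → word gensSeven w m = m := by
    decide +kernel
  set kk : Fin 8 := ⟨k, by omega⟩ with hkk
  have hle : k ≤ (p kk : ℕ) := by
    by_contra h
    push Not at h
    have := p.injective (hfix _ h)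
    rw [this] at h
    exact lt_irrefl _ h
  have hne : p kk ≠ 7 := fun e => by
    have := p.injective (e.trans h7.symm)
    rw [hkk, Fin.ext_iff] at this
    simp at this
    omega
  obtain ⟨w, -, hw1, hw7, hwm⟩ := hd ⟨k, hk⟩ (p kk) hle hne
  refine ⟨word gensSeven w, word_mem hl w, ?_, fun m hm => ?_⟩
  · rw [Equiv.Perm.mul_apply, h7, Equiv.Perm.inv_eq_iff_eq, hw7]
  · rw [Equiv.Perm.mul_apply, Equiv.Perm.inv_eq_iff_eq]
    rcases Nat.lt_succ_iff_lt_or_eq.1 hm with h | h
    · rw [hwm m h, hfix m h]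
    · rw [show m = kk from Fin.ext h]
      exact hw1.symm

theorem core {H : Subgroup P8} (hH : Good H) (hw : w2 ∈ H)
    (h0 : ∀ p ∈ alternatingGroup (Fin 8), p * w2 = w2 * p → (p ∈ H ↔ p 7 = 7)) :
    ∀ p ∈ alternatingGroup (Fin 8), (p ∈ H ↔ p 7 = 7) := by
  have halt : ∀ p : P8, Equiv.Perm.sign p = 1 → p ∈ alternatingGroup (Fin 8) := fun p h =>
    Equiv.Perm.mem_alternatingGroup.2 h
  have g0 : swap 4 5 * swap 5 6 ∈ H := (h0 _ (halt _ (by decide +kernel)) (by decide +kernel)).2 (by decide +kernel)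
  have g1 : swap 0 1 * swap 4 5 ∈ H := (h0 _ (halt _ (by decide +kernel)) (by decide +kernel)).2 (by decide +kernel)
  have g3 : swap 0 2 * swap 1 3 ∈ H := (h0 _ (halt _ (by decide +kernel)) (by decide +kernel)).2 (by decide +kernel)
  have moved : ∀ (v a : P8), a ∈ alternatingGroup (Fin 8) → a * w2 * a⁻¹ = v → v ∈ H →
      ∃ i : Fin 8, 4 ≤ i ∧ ∀ p ∈ alternatingGroup (Fin 8), p * v = v * p → (p ∈ H ↔ p (a i) = a i) := by
    intro v a ha hav hv
    have hG := hH.conj (inv_mem ha)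
    obtain ⟨i, hi, hiff⟩ := claim hG ⟨v, hv, by
      show a⁻¹ * v * a⁻¹⁻¹ = w2
      rw [← hav]; group⟩
    refine ⟨i, hi, fun p hp hpv => ?_⟩
    have h := hiff (a⁻¹ * p * a) (mul_mem (mul_mem (inv_mem ha) hp) ha) (by
      calc a⁻¹ * p * a * w2 = a⁻¹ * (p * (a * w2 * a⁻¹)) * a := by group
        _ = a⁻¹ * (v * p) * a := by rw [hav, hpv]
        _ = w2 * (a⁻¹ * p * a) := by rw [← hav]; group)
    constructor
    · intro hpH
      have := h.1 ⟨p, hpH, show a⁻¹ * p * a⁻¹⁻¹ = a⁻¹ * p * a by rw [inv_inv]⟩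
      rw [Equiv.Perm.mul_apply, Equiv.Perm.mul_apply, Equiv.Perm.inv_eq_iff_eq] at this
      exact this
    · intro hpi
      obtain ⟨q, hq, hqe⟩ := h.2 (by
        rw [Equiv.Perm.mul_apply, Equiv.Perm.mul_apply, Equiv.Perm.inv_eq_iff_eq]
        exact hpi)
      have : q = p := by
        have h' : a⁻¹ * q * a⁻¹⁻¹ = a⁻¹ * p * a := hqe
        simpa using h'
      exact this ▸ hq
  have g2 : swap 1 3 * swap 4 5 ∈ H := by
    obtain ⟨i, hi, hiff⟩ := moved _ (swap 1 2 * swap 6 7) (halt _ (by decide +kernel))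
      (show (swap 1 2 * swap 6 7) * w2 * (swap 1 2 * swap 6 7)⁻¹ = swap 0 2 * swap 1 3 by decide +kernel) g3
    have hi7 := (hiff _ (halt _ (by decide +kernel)) (by decide +kernel)).1 g0
    refine (hiff _ (halt _ (by decide +kernel)) (by decide +kernel)).2 ?_
    clear hiff
    revert hi hi7
    revert i
    decide +kernel
  obtain ⟨i, hi, hiff⟩ := moved _ (swap 2 4 * swap 3 5) (halt _ (by decide +kernel))
    (show (swap 2 4 * swap 3 5) * w2 * (swap 2 4 * swap 3 5)⁻¹ = swap 0 1 * swap 4 5 by decide +kernel) g1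
  have hiw := (hiff _ (halt _ (by decide +kernel)) (by decide +kernel)).1 hw
  have hi67 : i = 6 ∨ i = 7 := by
    clear hiff
    revert hi hiw
    revert i
    decide +kernel
  have g5 : swap 0 4 * swap 1 5 ∈ H := by
    refine (hiff _ (halt _ (by decide +kernel)) (by decide +kernel)).2 ?_
    rcases hi67 with rfl | rfl <;> decide +kernel
  rcases hi67 with rfl | rfl
  · exfalso
    have g4 : swap 2 3 * swap 3 7 ∈ H :=
      (hiff _ (halt _ (by decide +kernel)) (by decide +kernel)).2 (by decide +kernel)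
    have hmem := word_mem (H := H) (l := gensBad) (by
      intro a ha
      simp only [gensBad, List.mem_cons, List.not_mem_nil, or_false] at ha
      rcases ha with rfl | rfl | rfl | rfl | rfl | rfl <;> assumption) [0, 2, 5, 2, 5, 3, 4]
    obtain ⟨x, hx⟩ := hH.free _ hmem (by decide +kernel)
    revert hx
    revert x
    decide +kernel
  have g4 : swap 2 3 * swap 3 6 ∈ H :=
    (hiff _ (halt _ (by decide +kernel)) (by decide +kernel)).2 (by decide +kernel)
  have hl : ∀ a ∈ gensSeven, a ∈ H := by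
    intro a ha
    simp only [gensSeven, List.mem_cons, List.not_mem_nil, or_false] at ha
    rcases ha with rfl | rfl | rfl | rfl | rfl | rfl <;> assumption
  have hsub : ∀ p ∈ alternatingGroup (Fin 8), p 7 = 7 → p ∈ H := by
    have hdown : ∀ k, k ≤ 5 → ∀ p : P8, p ∈ alternatingGroup (Fin 8) → p 7 = 7 →
        (∀ m : Fin 8, (m : ℕ) < 5 - k → p m = m) → p ∈ H := by
      intro k
      induction k with
      | zero =>
        intro _ p hp h7 hfix
        have hp1 : p = 1 ∨ p = swap 5 6 := by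
          have hfix' : ∀ m : Fin 8, (m : ℕ) < 5 → p m = m := fun m hm => hfix m (by omega)
          have hrange : ∀ m : Fin 8, (m = 5 ∨ m = 6) → p m = 5 ∨ p m = 6 := by
            intro m hm
            by_contra hno
            push Not at hno
            have key : ∀ y : Fin 8, y ≠ 5 → y ≠ 6 → (y : ℕ) < 5 ∨ y = 7 := by decide
            rcases key _ hno.1 hno.2 with h | h
            · have := p.injective (hfix' _ h)
              rcases hm with rfl | rfl <;> rw [this] at h <;> simp at h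
            · have := p.injective (h.trans h7.symm)
              rcases hm with rfl | rfl <;> simp at this
          rcases hrange 5 (Or.inl rfl) with e | e <;> rcases hrange 6 (Or.inr rfl) with e' | e'
          · exact absurd (p.injective (e.trans e'.symm)) (by decide)
          · left
            refine Equiv.ext fun m => ?_
            fin_cases m
            all_goals first | exact hfix' _ (by decide) | exact e | exact e' | exact h7
          · right
            refine Equiv.ext fun m => ?_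
            fin_cases m
            all_goals first
              | exact (hfix' _ (by decide)).trans (by decide)
              | exact e.trans (by decide)
              | exact e'.trans (by decide)
              | exact h7.trans (by decide)
          · exact absurd (p.injective (e.trans e'.symm)) (by decide)
        rcases hp1 with rfl | rfl
        · exact one_mem _
        · exact absurd (Equiv.Perm.mem_alternatingGroup.1 hp) (by decide +kernel)
      | succ k ih =>
        intro hk p hp h7 hfix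
        obtain ⟨h, hh, h7', hfix'⟩ := chain_step hl (k := 5 - (k + 1)) (by omega) h7 hfix
        have := ih (by omega) (h⁻¹ * p) (mul_mem (inv_mem (hH.le_alt hh)) hp) h7'
          (fun m hm => hfix' m (by omega))
        simpa using mul_mem hh this
    exact fun p hp h7 => hdown 5 le_rfl p hp h7 (fun m hm => absurd hm (by omega))
  refine fun p hp => ⟨fun hpH => ?_, hsub p hp⟩
  by_contra h7
  obtain ⟨a, ha, ha7, hap⟩ : ∃ a ∈ alternatingGroup (Fin 8), a 7 = 7 ∧ a (p 7) = 6 := by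
    have hd : ∀ y : Fin 8, y ≠ 7 → ∃ a ∈ ([1, swap 6 y * swap 4 5, swap 6 y * swap 2 3] : List P8),
        Equiv.Perm.sign a = 1 ∧ a 7 = 7 ∧ a y = 6 := by decide +kernel
    obtain ⟨a, -, h1, h2, h3⟩ := hd _ h7
    exact ⟨a, halt a h1, h2, h3⟩
  have hap' : w4⁻¹ * (a * p) ∈ H := by
    refine hsub _ (mul_mem (inv_mem (halt w4 (by decide +kernel))) (mul_mem ha hp)) ?_
    rw [Equiv.Perm.mul_apply, Equiv.Perm.mul_apply, hap, Equiv.Perm.inv_eq_iff_eq]
    decide +kernel
  have hw4 : w4 ∈ H := by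
    have := mul_mem (mul_mem (hsub a ha ha7) hpH) (inv_mem hap')
    simpa [mul_assoc] using this
  obtain ⟨x, hx⟩ := hH.free w4 hw4 (by decide +kernel)
  revert hx
  revert x
  decide +kernel

/-- the subgroup is a point stabiliser -/
theorem exists_point {H : Subgroup P8} (hH : Good H) (hw : ∃ v ∈ H, IsTwo v) :
    ∃ j : Fin 8, ∀ p ∈ alternatingGroup (Fin 8), (p ∈ H ↔ p j = j) := by
  obtain ⟨v, hv, g, hg, hgv⟩ := hw
  set H1 := H.map (MulAut.conj g⁻¹).toMonoidHom with hH1
  have hG1 := hH.conj (inv_mem hg)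
  have hw1 : w2 ∈ H1 := ⟨v, hv, by
    show g⁻¹ * v * g⁻¹⁻¹ = w2
    rw [← hgv]; group⟩
  obtain ⟨i, hi, hiff⟩ := claim hG1 hw1
  obtain ⟨c, hcA, hcw, hci⟩ : ∃ c ∈ alternatingGroup (Fin 8), c * w2 = w2 * c ∧ c i = 7 := by
    have hd : ∀ i : Fin 8, 4 ≤ i → ∃ c ∈ ([1, swap i 7 * swap 0 1] : List P8),
        Equiv.Perm.sign c = 1 ∧ c * w2 = w2 * c ∧ c i = 7 := by decide +kernel
    obtain ⟨c, -, h1, h2, h3⟩ := hd i hi
    exact ⟨c, Equiv.Perm.mem_alternatingGroup.2 h1, h2, h3⟩
  have hmem : ∀ p, p ∈ H1.map (MulAut.conj c).toMonoidHom ↔ c⁻¹ * p * c ∈ H1 := fun p =>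
    ⟨by rintro ⟨q, hq, rfl⟩; show c⁻¹ * (c * q * c⁻¹) * c ∈ H1; rwa [show c⁻¹ * (c * q * c⁻¹) * c = q by group],
      fun h => ⟨_, h, show c * (c⁻¹ * p * c) * c⁻¹ = p by group⟩⟩
  have hmem1 : ∀ p, p ∈ H1 ↔ g * p * g⁻¹ ∈ H := fun p =>
    ⟨by rintro ⟨q, hq, rfl⟩; show g * (g⁻¹ * q * g⁻¹⁻¹) * g⁻¹ ∈ H; rwa [show g * (g⁻¹ * q * g⁻¹⁻¹) * g⁻¹ = q by group],
      fun h => ⟨_, h, show g⁻¹ * (g * p * g⁻¹) * g⁻¹⁻¹ = p by group⟩⟩
  have hcw' : c⁻¹ * w2 * c = w2 := by rw [mul_assoc, ← hcw, inv_mul_cancel_left]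
  have h2 := core (hG1.conj hcA) ((hmem _).2 (by rw [hcw']; exact hw1)) (fun p hp hpc => by
    rw [hmem, hiff _ (mul_mem (mul_mem (inv_mem hcA) hp) hcA) (by
      calc c⁻¹ * p * c * w2 = c⁻¹ * (p * w2) * c := by rw [mul_assoc, hcw]; group
        _ = c⁻¹ * w2 * c * (c⁻¹ * p * c) := by rw [hpc]; group
        _ = w2 * (c⁻¹ * p * c) := by rw [hcw']),
      Equiv.Perm.mul_apply, Equiv.Perm.mul_apply, hci, Equiv.Perm.inv_eq_iff_eq, hci])
  refine ⟨g (c⁻¹ 7), fun p hp => ?_⟩
  have h := h2 (c * (g⁻¹ * p * g) * c⁻¹) (mul_mem (mul_mem hcA (mul_mem (mul_mem (inv_mem hg) hp) hg)) (inv_mem hcA))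
  rw [hmem, show c⁻¹ * (c * (g⁻¹ * p * g) * c⁻¹) * c = g⁻¹ * p * g by group, hmem1,
    show g * (g⁻¹ * p * g) * g⁻¹ = p by group] at h
  rw [h]
  simp only [Equiv.Perm.mul_apply]
  constructor
  · intro e
    have h' : g⁻¹ (p (g (c⁻¹ 7))) = c⁻¹ 7 := c.injective (by rw [e]; simp)
    rw [Equiv.Perm.inv_eq_iff_eq] at h'
    exact h'
  · intro e
    rw [e]
    simp

end CfsgLib.ExtraSpS3.EightModel
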