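import Cfsg.Agent.Lib.ExtraSpS3.QFrame

/-!
An involution outside `Q` inverting `x`, and coordinates for the centraliser.
-/
set_option autoImplicit false
set_option maxRecDepth 10000

namespace CfsgLib.ExtraSpS3

/-- the conditions for `lin 1 a (fx (fx a)) b (fx (fx b))` to be an automorphism of order at most two -/
def validT (a b : ℕ) : Bool :=
  let T := lin 1 a (fx (fx a)) b (fx (fx b))
  [1, 2, 4, 8, 16].all fun g => T (T g) == g && T (fx g) == fx (fx (T g)) &&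
    [1, 2, 4, 8, 16].all fun h => T (qm g h) == qm (T g) (T h)

/-- a normal form exists for the action `a, b` with the element `v` in the first line -/
def hasForm (a b v : ℕ) : Bool :=
  let T := lin 1 a (fx (fx a)) b (fx (fx b))
  anyB 32 fun m => qm m m == 0 && m != 0 && m != 1 && fx (fx m) == qm m (fx m) &&
    qm m (fx m) == qm (fx m) m && T m == m && T (fx m) == qm m (fx m) &&
    anyB 32 fun n => qm n n == 0 && fx (fx n) == qm n (fx n) && qm n (fx n) == qm (fx n) n &&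
      qm n m == qm m n && qm (fx n) (fx m) == qm (fx m) (fx n) &&
      qm n (fx m) == qm 1 (qm (fx m) n) && qm (fx n) m == qm 1 (qm m (fx n)) &&
      ((T n == n && T (fx n) == qm n (fx n) &&
          anyB 8 fun i => lin 1 m (fx m) n (fx n) i == v) ||
        (T n == lin 1 m (fx m) n (fx n) 11 && T (fx n) == lin 1 m (fx m) n (fx n) 31))

theorem valid_hasForm {a b v : ℕ} (ha : a < 32) (hb : b < 32) (hv : v < 32) (hab : validT a b = true)
    (hv2 : qm v v = 0) (hv0 : v ≠ 0) (hv1 : v ≠ 1) : hasForm a b v = true := by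
  have h : allB 32 (fun a => allB 32 fun b => !validT a b || allB 32 fun v =>
      qm v v != 0 || v == 0 || v == 1 || hasForm a b v) = true := by decide +kernel
  have h1 := allB_spec (allB_spec h ha) hb
  rw [hab, Bool.not_true, Bool.false_or] at h1
  have h2 := allB_spec h1 hv
  simpa [hv2, hv0, hv1] using h2

namespace Base

variable {G : Type*} [Group G] [Finite G] {s : G} (B : Base G s)

theorem elQ_mem (D : QGens G s) (h1 : D.e1 ∈ B.Q) (h2 : D.f1 ∈ B.Q) (h3 : B.ph D.e1 = D.e2)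
    (h4 : B.ph D.f1 = D.f2) (p : ℕ) : D.elQ p ∈ B.Q := by
  have h5 : D.e2 ∈ B.Q := h3 ▸ B.ph_mem h1
  have h6 : D.f2 ∈ B.Q := h4 ▸ B.ph_mem h2
  exact mul_mem (pow_mem B.s_mem _) (mul_mem (pow_mem h1 _) (mul_mem (pow_mem h5 _) (mul_mem (pow_mem h2 _)
    (pow_mem h6 _))))

theorem elQ_surj (D : QGens G s) (h1 : D.e1 ∈ B.Q) (h2 : D.f1 ∈ B.Q) (h3 : B.ph D.e1 = D.e2)
    (h4 : B.ph D.f1 = D.f2) {q : G} (hq : q ∈ B.Q) : ∃ p < 32, D.elQ p = q := by
  let f : Fin 32 → B.Q := fun p => ⟨D.elQ p, B.elQ_mem D h1 h2 h3 h4 p⟩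
  have hinj : Function.Injective f := fun p r h =>
    Fin.ext (D.elQ_inj p.2 r.2 (congrArg Subtype.val h))
  obtain ⟨p, hp⟩ := (hinj.bijective_of_nat_card_le (by simp [B.card_Q])).2 ⟨q, hq⟩
  exact ⟨p, p.2, congrArg Subtype.val hp⟩

theorem x_elQ' (D : QGens G s) (h3 : B.ph D.e1 = D.e2) (h4 : B.ph D.e2 = D.e1 * D.e2)
    (h5 : B.ph D.f1 = D.f2) (h6 : B.ph D.f2 = D.f1 * D.f2) (p : ℕ) : B.ph (D.elQ p) = D.elQ (fx p) := by
  rw [fx_eq]
  exact D.map_elQ (φ := (MulAut.conj B.x).toMonoidHom) (i₀ := 1) (i₁ := 4) (i₂ := 6) (i₃ := 16) (i₄ := 24)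
    (B.ph_s.trans D.elQ_one.symm) (h3.trans D.elQ_four.symm)
    (h4.trans (by simp [QGens.elQ, bitN])) (h5.trans D.elQ_sixteen.symm)
    (h6.trans (by simp [QGens.elQ, bitN])) (by omega) (by omega) (by omega) (by omega) (by omega) p

/-- an involution of the centraliser outside `Q` -/
theorem exists_outer {a g : G} (ha : g * s * g⁻¹ = a) (haQ : a ∈ B.Q) (has : a ≠ s) :
    ∃ t, t * s = s * t ∧ t * t = 1 ∧ t ∉ B.Q := by
  by_contra hno
  push Not at hno
  have ha2 : a * a = 1 := by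
    calc a * a = g * (s * s) * g⁻¹ := by rw [← ha]; group
      _ = 1 := by rw [B.s_sq]; group
  have ha1 : a ≠ 1 := fun h => B.s_ne (by simpa [h] using conj_eq_one_iff.1 (ha.trans h))
  obtain ⟨D, h1, h2, h3, h4, h5, h6⟩ := B.exists_qgens haQ ha2 ha1 has
  obtain ⟨i, hi, rfl⟩ := B.elQ_surj D h1 h2 h3 h5 haQ
  have hd : allB 32 (fun i => qm i i != 0 || i == 0 || i == 1 || anyB 32 fun v => qm v v == 0 &&
      qm v i == qm i v && anyB 32 fun w => qm w w == 0 && qm w i == qm i w &&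
        qm v w == qm 1 (qm w v)) = true := by decide +kernel
  have hii : qm i i = 0 := D.elQ_inj (qm_lt hi hi) (by omega)
    (by rw [← D.elQ_mul hi hi, ha2, D.elQ_zero])
  have hi0 : i ≠ 0 := fun h => ha1 (by rw [h, D.elQ_zero])
  have hi1 : i ≠ 1 := fun h => has (by rw [h, D.elQ_one])
  have h' := allB_spec hd hi
  simp only [hii, hi0, hi1, bne_self_eq_false, Bool.false_or, Bool.or_false, beq_iff_eq,
    beq_eq_false_iff_ne.2 hi0, beq_eq_false_iff_ne.2 hi1] at h'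
  obtain ⟨v, hv, h'⟩ := anyB_spec h'
  simp only [Bool.and_eq_true, beq_iff_eq] at h'
  obtain ⟨⟨hvv, hvi⟩, h'⟩ := h'
  obtain ⟨w, hw, h'⟩ := anyB_spec h'
  simp only [Bool.and_eq_true, beq_iff_eq] at h'
  obtain ⟨⟨hww, hwi⟩, hvw⟩ := h'
  have key : ∀ u < 32, qm u u = 0 → qm u i = qm i u → g⁻¹ * D.elQ u * g ∈ B.Q := by
    intro u hu huu hui
    refine hno _ ?_ ?_
    · have : D.elQ u * (g * s * g⁻¹) = g * s * g⁻¹ * D.elQ u := by
        rw [ha, D.elQ_mul hu hi, hui, D.elQ_mul hi hu]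
      calc g⁻¹ * D.elQ u * g * s = g⁻¹ * (D.elQ u * (g * s * g⁻¹)) * g := by group
        _ = g⁻¹ * (g * s * g⁻¹ * D.elQ u) * g := by rw [this]
        _ = s * (g⁻¹ * D.elQ u * g) := by group
    · calc g⁻¹ * D.elQ u * g * (g⁻¹ * D.elQ u * g) = g⁻¹ * (D.elQ u * D.elQ u) * g := by group
        _ = 1 := by rw [D.elQ_mul hu hu, huu, D.elQ_zero]; group
  have e : D.elQ v * D.elQ w = s * (D.elQ w * D.elQ v) := by
    rw [D.elQ_mul hw hv, D.elQ_mul hv hw, hvw, ← D.elQ_mul (by omega) (qm_lt hw hv), D.elQ_one]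
  rcases B.comm _ (key v hv hvv hvi) _ (key w hw hww hwi) with h | h
  · have : D.elQ v * D.elQ w = D.elQ w * D.elQ v := by
      have := congrArg (fun z => g * z * g⁻¹) h
      simpa [mul_assoc] using this
    rw [this] at e
    exact B.s_ne (mul_eq_right.mp e.symm)
  · have h' : D.elQ v * D.elQ w = D.elQ i * (D.elQ w * D.elQ v) := by
      have := congrArg (fun z => g * z * g⁻¹) h
      rw [← ha]
      simpa [mul_assoc] using this
    exact has (mul_right_cancel (h'.symm.trans e))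

/-- an involution inverting `x` -/
theorem exists_inverting {a g : G} (ha : g * s * g⁻¹ = a) (haQ : a ∈ B.Q) (has : a ≠ s) :
    ∃ t, t * s = s * t ∧ t * t = 1 ∧ t * B.x * t⁻¹ = B.x⁻¹ := by
  obtain ⟨t, hts, ht2, htQ⟩ := B.exists_outer ha haQ has
  have ha2 : a * a = 1 := by
    calc a * a = g * (s * s) * g⁻¹ := by rw [← ha]; group
      _ = 1 := by rw [B.s_sq]; group
  have ha1 : a ≠ 1 := fun h => B.s_ne (by simpa [h] using conj_eq_one_iff.1 (ha.trans h))
  obtain ⟨D, h1, h2, h3, h4, h5, h6⟩ := B.exists_qgens haQ ha2 ha1 has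
  have hti : t⁻¹ = t := inv_eq_of_mul_eq_one_right ht2
  obtain ⟨p, hp, hpe⟩ := B.elQ_surj D h1 h2 h3 h5 (B.inverts t hts (ht2.symm ▸ one_mem _) htQ)
  set u := t * B.x * t * B.x⁻¹ with hu
  have hup : u = D.elQ p * B.x := by
    have hx3 : B.x⁻¹ = B.x * B.x := inv_eq_of_mul_eq_one_right (by rw [← mul_assoc, B.x_cube])
    rw [hpe, hu, hti, hx3]
    simp only [mul_assoc]
  have htu : t * u * t = u⁻¹ := by
    rw [hu]
    simp only [mul_inv_rev, inv_inv, hti, mul_assoc]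
    rw [← mul_assoc t t, ht2, one_mul]
  obtain ⟨p', hp', hp'e, hnorm⟩ : ∃ p' < 32, t * (D.elQ p' * B.x) * t = (D.elQ p' * B.x)⁻¹ ∧
      qm (qm p' (fx p')) (fx (fx p')) = 0 := by
    have hdec : allB 32 (fun p => qm (qm p (fx p)) (fx (fx p)) == 0 ||
        qm (qm (qm 1 p) (fx (qm 1 p))) (fx (fx (qm 1 p))) == 0) = true := by decide +kernel
    have := allB_spec hdec hp
    rw [Bool.or_eq_true, beq_iff_eq, beq_iff_eq] at this
    rcases this with h | h
    · exact ⟨p, hp, by rw [← hup, htu], h⟩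
    · refine ⟨qm 1 p, qm_lt (by omega) hp, ?_, h⟩
      rw [← D.elQ_mul (by omega) hp, D.elQ_one, mul_assoc s, ← hup, ← mul_assoc t s u, hts,
        mul_assoc, mul_assoc s, ← mul_assoc t u t, htu]
      rw [mul_inv_rev s u, inv_eq_of_mul_eq_one_right B.s_sq]
      have hus : Commute u s := by
        rw [hup]; exact (B.s_comm (B.elQ_mem D h1 h2 h3 h5 p)).mul_left B.x_s
      exact hus.inv_left.eq.symm
  have hdec : allB 32 (fun p => qm (qm p (fx p)) (fx (fx p)) != 0 ||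
      anyB 32 fun r => qm p (fx r) == r) = true := by decide +kernel
  have h' := allB_spec hdec hp'
  rw [Bool.or_eq_true, bne_iff_ne] at h'
  obtain ⟨r, hr, hre⟩ := anyB_spec (h'.resolve_left (fun h => h hnorm))
  rw [beq_iff_eq] at hre
  set R := D.elQ r with hR
  have hy : D.elQ p' * B.x = R * B.x * R⁻¹ := by
    have hb := congrArg D.elQ hre
    rw [← D.elQ_mul hp' (fx_lt r), ← B.x_elQ' D h3 h4 h5 h6, ph, ← hR] at hb
    calc D.elQ p' * B.x = D.elQ p' * (B.x * R * B.x⁻¹) * (B.x * R⁻¹) := by group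
      _ = R * B.x * R⁻¹ := by rw [hb]; group
  have hRs : Commute R s := B.s_comm (B.elQ_mem D h1 h2 h3 h5 r)
  refine ⟨R⁻¹ * t * R, ((hRs.inv_left.mul_left hts).mul_left hRs).eq, ?_, ?_⟩
  · calc R⁻¹ * t * R * (R⁻¹ * t * R) = R⁻¹ * (t * t) * R := by group
      _ = 1 := by rw [ht2]; group
  · rw [hy] at hp'e
    calc R⁻¹ * t * R * B.x * (R⁻¹ * t * R)⁻¹ = R⁻¹ * (t * (R * B.x * R⁻¹) * t⁻¹) * R := by group
      _ = B.x⁻¹ := by rw [hti, hp'e]; group

/-- coordinates for the centraliser: either kind `P`, or kind `S` with the given element in the first line -/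
theorem exists_frame {a g : G} (ha : g * s * g⁻¹ = a) (haQ : a ∈ B.Q) (has : a ≠ s) :
    (∃ F : Frame true G s, ∃ i < 32, F.elQ i = a) ∨ ∃ F : Frame false G s, ∃ i < 8, F.elQ i = a := by
  obtain ⟨t, hts, ht2, htx⟩ := B.exists_inverting ha haQ has
  have ha2 : a * a = 1 := by
    calc a * a = g * (s * s) * g⁻¹ := by rw [← ha]; group
      _ = 1 := by rw [B.s_sq]; group
  have ha1 : a ≠ 1 := fun h => B.s_ne (by simpa [h] using conj_eq_one_iff.1 (ha.trans h))
  obtain ⟨D, h1, h2, h3, h4, h5, h6⟩ := B.exists_qgens haQ ha2 ha1 has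
  have hmem := B.elQ_mem D h1 h2 h3 h5
  have hsur := fun {q : G} (hq : q ∈ B.Q) => B.elQ_surj D h1 h2 h3 h5 hq
  have hxe := B.x_elQ' D h3 h4 h5 h6
  have hti : t⁻¹ = t := inv_eq_of_mul_eq_one_right ht2
  obtain ⟨A, hA, hAe⟩ := hsur (B.Q_conj t hts _ h1)
  obtain ⟨C, hC, hCe⟩ := hsur (B.Q_conj t hts _ h2)
  have htphi : ∀ q, t * B.ph q * t⁻¹ = B.ph (B.ph (t * q * t⁻¹)) := by
    intro q
    have hx3 : B.x⁻¹ = B.x * B.x := inv_eq_of_mul_eq_one_right (by rw [← mul_assoc, B.x_cube])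
    calc t * B.ph q * t⁻¹ = (t * B.x * t⁻¹) * (t * q * t⁻¹) * (t * B.x * t⁻¹)⁻¹ := by unfold ph; group
      _ = (B.x * B.x) * (t * q * t⁻¹) * (B.x * B.x)⁻¹ := by rw [htx, hx3]
      _ = B.ph (B.ph (t * q * t⁻¹)) := by unfold ph; group
  set T := lin 1 A (fx (fx A)) C (fx (fx C)) with hT
  have hTe : ∀ p, t * D.elQ p * t⁻¹ = D.elQ (T p) := fun p =>
    D.map_elQ (φ := (MulAut.conj t).toMonoidHom)
      (show t * s * t⁻¹ = D.elQ 1 by rw [D.elQ_one, hts, mul_inv_cancel_right])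
      hAe.symm
      (show t * D.e2 * t⁻¹ = _ by rw [← h3, htphi, ← hAe, hxe, hxe])
      hCe.symm
      (show t * D.f2 * t⁻¹ = _ by rw [← h5, htphi, ← hCe, hxe, hxe])
      (by omega) hA (fx_lt _) hC (fx_lt _) p
  have hTlt : ∀ p, T p < 32 := fun p => lin_lt (by omega) hA (fx_lt _) hC (fx_lt _)
  have hvalid : validT A C = true := by
    simp only [validT, List.all_eq_true, Bool.and_eq_true, beq_iff_eq, ← hT]
    intro k hk
    have hk' : k < 32 := by simp at hk; omega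
    refine ⟨⟨D.elQ_inj (hTlt _) hk' ?_, ?_⟩, fun h hh => ?_⟩
    · rw [← hTe, ← hTe, hti]
      rw [← mul_assoc, ← mul_assoc, ht2, one_mul, mul_assoc, ht2, mul_one]
    · refine D.elQ_inj (hTlt _) (fx_lt _) ?_
      rw [← hTe, ← hxe, htphi, hTe, hxe, hxe]
    · have hh' : h < 32 := by simp at hh; omega
      refine D.elQ_inj (hTlt _) (qm_lt (hTlt _) (hTlt _)) ?_
      rw [← hTe, ← D.elQ_mul hk' hh', ← D.elQ_mul (hTlt _) (hTlt _), ← hTe, ← hTe]
      group
  obtain ⟨i, hi, hia⟩ := hsur haQ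
  have hii : qm i i = 0 := D.elQ_inj (qm_lt hi hi) (by omega)
    (by rw [← D.elQ_mul hi hi, hia, ha2, D.elQ_zero])
  have hi0 : i ≠ 0 := fun h => ha1 (by rw [← hia, h, D.elQ_zero])
  have hi1 : i ≠ 1 := fun h => has (by rw [← hia, h, D.elQ_one])
  have hform := valid_hasForm hA hC hi hvalid hii hi0 hi1
  obtain ⟨m, hm, hform⟩ := anyB_spec hform
  simp only [Bool.and_eq_true, beq_iff_eq, bne_iff_ne, ← hT] at hform
  obtain ⟨⟨⟨⟨⟨⟨⟨hm2, -⟩, -⟩, hmp⟩, hmc⟩, hmT⟩, hmT'⟩, hform⟩ := hform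
  obtain ⟨n, hn, hform⟩ := anyB_spec hform
  simp only [Bool.and_eq_true, Bool.or_eq_true, beq_iff_eq] at hform
  obtain ⟨⟨⟨⟨⟨⟨⟨hn2, hnp⟩, hnc⟩, hnm⟩, hc22⟩, hc12⟩, hc21⟩, hform⟩ := hform
  have hm' := fx_lt m
  have hn' := fx_lt n
  let D' : QGens G s :=
    { e1 := D.elQ m, e2 := D.elQ (fx m), f1 := D.elQ n, f2 := D.elQ (fx n)
      s_ne := B.s_ne, s_sq := B.s_sq
      e1_sq := by rw [D.elQ_mul hm hm, hm2, D.elQ_zero]
      e2_sq := by rw [← hxe, ← ph_mul, D.elQ_mul hm hm, hm2, D.elQ_zero, ph_one]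
      f1_sq := by rw [D.elQ_mul hn hn, hn2, D.elQ_zero]
      f2_sq := by rw [← hxe, ← ph_mul, D.elQ_mul hn hn, hn2, D.elQ_zero, ph_one]
      e1_s := B.Q_cent _ (hmem _), e2_s := B.Q_cent _ (hmem _)
      f1_s := B.Q_cent _ (hmem _), f2_s := B.Q_cent _ (hmem _)
      e21 := by rw [D.elQ_mul hm' hm, D.elQ_mul hm hm', hmc]
      f21 := by rw [D.elQ_mul hn' hn, D.elQ_mul hn hn', hnc]
      f1_e1 := by rw [D.elQ_mul hn hm, D.elQ_mul hm hn, hnm]
      f2_e2 := by rw [D.elQ_mul hn' hm', D.elQ_mul hm' hn', hc22]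
      f1_e2 := by rw [D.elQ_mul hn hm', D.elQ_mul hm' hn, hc12, ← D.elQ_mul (by omega) (qm_lt hm' hn), D.elQ_one]
      f2_e1 := by rw [D.elQ_mul hn' hm, D.elQ_mul hm hn', hc21, ← D.elQ_mul (by omega) (qm_lt hm hn'), D.elQ_one] }
  have hnew : ∀ p, D'.elQ p = D.elQ (lin 1 m (fx m) n (fx n) p) := by
    intro p
    have a0 := QGens.bit_mul_lt (by omega : 1 < 32) p 0
    have a1 := QGens.bit_mul_lt hm p 1
    have a2 := QGens.bit_mul_lt hm' p 2
    have a3 := QGens.bit_mul_lt hn p 3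
    have a4 := QGens.bit_mul_lt hn' p 4
    rw [QGens.elQ, lin, ← D.elQ_mul (qm_lt (qm_lt (qm_lt a0 a1) a2) a3) a4,
      ← D.elQ_mul (qm_lt (qm_lt a0 a1) a2) a3, ← D.elQ_mul (qm_lt a0 a1) a2, ← D.elQ_mul a0 a1,
      D.elQ_bit, D.elQ_bit, D.elQ_bit, D.elQ_bit, D.elQ_bit, D.elQ_one]
    simp only [mul_assoc]
    rfl
  have mk : ∀ P : Bool, t * D.elQ n * t⁻¹ = D'.elQ (bif P then 11 else 8) →
      t * D.elQ (fx n) * t⁻¹ = D'.elQ (bif P then 31 else 24) → ∃ F : Frame P G s, F.toQGens = D' := by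
    intro P q1 q2
    let L : LGens P G s :=
      { toQGens := D', x := B.x, t := t, x_cube := B.x_cube, t_sq := ht2, t_x := htx
        x_s := by rw [B.x_s, mul_inv_cancel_right]
        t_s := by rw [hts, mul_inv_cancel_right]
        x_e1 := hxe m
        x_e2 := (hxe (fx m)).trans (by rw [hmp, ← D.elQ_mul hm hm'])
        x_f1 := hxe n
        x_f2 := (hxe (fx n)).trans (by rw [hnp, ← D.elQ_mul hn hn'])
        t_e1 := (hTe m).trans (by rw [hmT])
        t_e2 := (hTe (fx m)).trans (by rw [hmT', ← D.elQ_mul hm hm'])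
        t_f1 := q1
        t_f2 := q2 }
    refine ⟨⟨L, ?_⟩, rfl⟩
    have hx : Commute B.x s := B.x_s
    let f : Fin 192 → Subgroup.centralizer ({s} : Set G) := fun i => ⟨L.el i, by
      rw [Subgroup.mem_centralizer_singleton_iff]
      exact (((L.s_comm_elQ _).symm.mul_left ((hx.pow_left _).mul_left
        ((show Commute t s from hts).pow_left _)))).eq⟩
    have hf : Function.Injective f := fun i j h => Fin.ext (L.el_inj i.2 j.2 (congrArg Subtype.val h))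
    intro w hw
    obtain ⟨k, hk⟩ := (hf.bijective_of_nat_card_le (by rw [B.card_L]; simp)).2
      ⟨w, Subgroup.mem_centralizer_singleton_iff.2 hw⟩
    exact ⟨k, k.2, congrArg Subtype.val hk⟩
  rcases hform with ⟨⟨q1, q2⟩, hline⟩ | ⟨q1, q2⟩
  · right
    obtain ⟨j, hj, hje⟩ := anyB_spec hline
    rw [beq_iff_eq] at hje
    obtain ⟨F, hF⟩ := mk false (by rw [hTe, q1, cond_false]; exact D'.elQ_eight.symm)
      (by rw [hTe, q2, cond_false, ← D.elQ_mul hn hn']; simp [D', QGens.elQ, bitN])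
    exact ⟨F, j, hj, by rw [hF, hnew, hje, hia]⟩
  · left
    obtain ⟨F, hF⟩ := mk true (by rw [hTe, q1, cond_true, hnew]) (by rw [hTe, q2, cond_true, hnew])
    obtain ⟨j, hj, hje⟩ : ∃ j < 32, D'.elQ j = a := by
      let f : Fin 32 → B.Q := fun p => ⟨D'.elQ p, hnew p ▸ hmem _⟩
      have hinj : Function.Injective f := fun p r h =>
        Fin.ext (D'.elQ_inj p.2 r.2 (congrArg Subtype.val h))
      obtain ⟨p, hp⟩ := (hinj.bijective_of_nat_card_le (by simp [B.card_Q])).2 ⟨a, haQ⟩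
      exact ⟨p, p.2, congrArg Subtype.val hp⟩
    exact ⟨F, j, hj, by rw [hF, hje]⟩

end Base

end CfsgLib.ExtraSpS3
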