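import Cfsg.Agent.Lib.ExtraSpS3.Gens
import Mathlib.Data.ZMod.Basic
import Mathlib.Algebra.Group.Subgroup.Finite
import Mathlib.SetTheory.Cardinal.Finite

/-!
The map from the `192` symbols to a group containing elements with the relations of
`2^{1+4}_+.Sym(3)`, and coordinates for a centraliser of that shape.
-/
set_option autoImplicit false
set_option maxRecDepth 10000

namespace CfsgLib.ExtraSpS3

/-- generators of `2^{1+4}_+.Sym(3)` -/
structure LGens (P : Bool) (G : Type*) [Group G] (s : G) extends QGens G s where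
  /-- the element of order three -/
  x : G
  /-- the involution outside -/
  t : G
  x_cube : x * x * x = 1
  t_sq : t * t = 1
  t_x : t * x * t⁻¹ = x⁻¹
  x_s : x * s * x⁻¹ = s
  t_s : t * s * t⁻¹ = s
  x_e1 : x * e1 * x⁻¹ = e2
  x_e2 : x * e2 * x⁻¹ = e1 * e2
  x_f1 : x * f1 * x⁻¹ = f2
  x_f2 : x * f2 * x⁻¹ = f1 * f2
  t_e1 : t * e1 * t⁻¹ = e1
  t_e2 : t * e2 * t⁻¹ = e1 * e2
  t_f1 : t * f1 * t⁻¹ = toQGens.elQ (bif P then 11 else 8)
  t_f2 : t * f2 * t⁻¹ = toQGens.elQ (bif P then 31 else 24)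

namespace LGens

variable {P : Bool} {G : Type*} [Group G] {s : G} (L : LGens P G s)

/-- the element of a symbol -/
def el (m : ℕ) : G := L.elQ (m % 32) * (L.x ^ (m % 96 / 32) * L.t ^ (m / 96 % 2))

theorem el_of_lt {m : ℕ} (h : m < 32) : L.el m = L.elQ m := by
  simp [el, Nat.mod_eq_of_lt h, show m % 96 / 32 = 0 by omega, show m / 96 % 2 = 0 by omega]

theorem el_one : L.el 1 = s := by rw [L.el_of_lt (by omega), L.elQ_one]
theorem el_zero : L.el 0 = 1 := by rw [L.el_of_lt (by omega), L.elQ_zero]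
theorem el_x : L.el 32 = L.x := by simp [el, L.elQ_zero]
theorem el_t : L.el 96 = L.t := by simp [el, L.elQ_zero]

theorem elQ_twentyfour : L.elQ 24 = L.f1 * L.f2 := by simp [QGens.elQ, bitN]
theorem elQ_six : L.elQ 6 = L.e1 * L.e2 := by simp [QGens.elQ, bitN]

theorem x_elQ (p : ℕ) : L.x * L.elQ p * L.x⁻¹ = L.elQ (fx p) := by
  rw [fx_eq]
  refine L.map_elQ (φ := (MulAut.conj L.x).toMonoidHom) ?_ ?_ ?_ ?_ ?_ (by omega) (by omega) (by omega)
    (by omega) (by omega) p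
  · simpa [L.elQ_one] using L.x_s
  · simpa [L.elQ_four] using L.x_e1
  · simpa [L.elQ_six] using L.x_e2
  · simpa [L.elQ_sixteen] using L.x_f1
  · simpa [L.elQ_twentyfour] using L.x_f2

theorem t_elQ (p : ℕ) : L.t * L.elQ p * L.t⁻¹ = L.elQ (ft P p) := by
  rw [ft_eq]
  refine L.map_elQ (φ := (MulAut.conj L.t).toMonoidHom) ?_ ?_ ?_ ?_ ?_ (by omega) (by omega) (by omega)
    (by cases P <;> decide) (by cases P <;> decide) p
  · simpa [L.elQ_one] using L.t_s
  · simpa [L.elQ_two] using L.t_e1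
  · simpa [L.elQ_six] using L.t_e2
  · exact L.t_f1
  · exact L.t_f2

theorem x_pow_elQ {i : ℕ} (hi : i < 3) (p : ℕ) :
    L.x ^ i * L.elQ p = L.elQ (fxPow i p) * L.x ^ i := by
  rw [← mul_inv_eq_iff_eq_mul]
  interval_cases i
  · simp [fxPow]
  · simpa [fxPow] using L.x_elQ p
  · have := L.x_elQ (fx p)
    rw [← L.x_elQ p] at this
    simpa [fxPow, pow_two, mul_assoc] using this

theorem t_pow_elQ {j : ℕ} (hj : j < 2) (p : ℕ) :
    L.t ^ j * L.elQ p = L.elQ (ftPow P j p) * L.t ^ j := by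
  rw [← mul_inv_eq_iff_eq_mul]
  interval_cases j
  · simp [ftPow]
  · simpa [ftPow] using L.t_elQ p

theorem x_pow_mod (n : ℕ) : L.x ^ (n % 3) = L.x ^ n := by
  conv_rhs => rw [← Nat.mod_add_div n 3, pow_add, pow_mul]
  simp [pow_succ, L.x_cube]

theorem t_pow_mod (n : ℕ) : L.t ^ (n % 2) = L.t ^ n := by
  conv_rhs => rw [← Nat.mod_add_div n 2, pow_add, pow_mul]
  simp [pow_two, L.t_sq]

theorem t_x_pow {j k : ℕ} (hj : j < 2) (hk : k < 3) :
    L.t ^ j * L.x ^ k = L.x ^ (bif j == 0 then k else 3 - k) * L.t ^ j := by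
  interval_cases j
  · simp
  · rw [pow_one, ← mul_inv_eq_iff_eq_mul, ← conj_pow]
    have h3 : L.x⁻¹ = L.x ^ 2 := inv_eq_of_mul_eq_one_right (by rw [pow_two, ← mul_assoc, L.x_cube])
    rw [L.t_x, h3, ← pow_mul, ← L.x_pow_mod (2 * k), ← L.x_pow_mod (bif (1 : ℕ) == 0 then k else 3 - k)]
    interval_cases k <;> rfl


theorem el_mul {m n : ℕ} (hm : m < 192) (hn : n < 192) : L.el (mulS P m n) = L.el m * L.el n := by
  have hq : ftPow P (m / 96) (n % 32) < 32 := by
    unfold ftPow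
    cases (m / 96 == 0)
    · exact ft_lt _ _
    · exact Nat.mod_lt _ (by omega)
  have hq' : fxPow (m % 96 / 32) (ftPow P (m / 96) (n % 32)) < 32 := by
    unfold fxPow
    cases (m % 96 / 32 == 0)
    · cases (m % 96 / 32 == 1) <;> exact fx_lt _
    · exact hq
  have hQ := qm_lt (Nat.mod_lt m (by omega : 0 < 32)) hq'
  have e : ∀ {q i j : ℕ}, q < 32 → i < 3 → j < 2 →
      L.el (q + 32 * i + 96 * j) = L.elQ q * (L.x ^ i * L.t ^ j) := by
    intro q i j h1 h2 h3
    rw [el]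
    congr 1
    · congr 1; omega
    · congr 1 <;> congr 1 <;> omega
  rw [mulS, e hQ (Nat.mod_lt _ (by omega)) (Nat.mod_lt _ (by omega))]
  rw [el, el, Nat.mod_eq_of_lt (by omega : m / 96 < 2), Nat.mod_eq_of_lt (by omega : n / 96 < 2)]
  rw [← L.elQ_mul (Nat.mod_lt m (by omega)) hq', x_pow_mod, t_pow_mod, pow_add, pow_add]
  simp only [mul_assoc]
  congr 1
  rw [← mul_assoc (L.x ^ _) (L.x ^ _), mul_assoc]
  rw [← mul_assoc (L.elQ (fxPow _ _)), ← L.x_pow_elQ (by omega), mul_assoc]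
  congr 1
  rw [← mul_assoc (L.x ^ (bif _ then _ else _)), ← L.t_x_pow (by omega) (by omega)]
  simp only [← mul_assoc]
  rw [← L.t_pow_elQ (by omega)]

end LGens

end CfsgLib.ExtraSpS3
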