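import Cfsg.Agent.Lib.ExtraSpS3.Norm

/-!
The involutions of the normaliser of the first line outside it: two classes of `42` elements.
-/
set_option autoImplicit false
set_option maxRecDepth 10000

namespace CfsgLib.ExtraSpS3

/-- the orbit of an element under conjugation by a subgroup, times its centraliser -/
theorem orbit_mul_cent {G : Type*} [Group G] [Finite G] (H : Subgroup G) (x : G) :
    Nat.card {w : G // ∃ h ∈ H, h * x * h⁻¹ = w} *
      Nat.card (H ⊓ Subgroup.centralizer ({x} : Set G) : Subgroup G) = Nat.card H := by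
  let L := (Subgroup.centralizer ({x} : Set G)).subgroupOf H
  have hmemL : ∀ a : H, a ∈ L ↔ (a : G) * x = x * a := fun a => by
    rw [Subgroup.mem_subgroupOf, Subgroup.mem_centralizer_singleton_iff]
  let f : H ⧸ L → {w : G // ∃ h ∈ H, h * x * h⁻¹ = w} := Quotient.lift
    (fun a => ⟨(a : G) * x * (a : G)⁻¹, a, a.2, rfl⟩)
    (fun a b h => by
      replace h : a⁻¹ * b ∈ L := QuotientGroup.leftRel_apply.1 h
      rw [hmemL, Subgroup.coe_mul, Subgroup.coe_inv] at h
      refine Subtype.ext ?_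
      show (a : G) * x * (a : G)⁻¹ = (b : G) * x * (b : G)⁻¹
      calc (a : G) * x * (a : G)⁻¹ = (a : G) * (x * ((a : G)⁻¹ * b)) * (b : G)⁻¹ := by group
        _ = (a : G) * ((a : G)⁻¹ * b * x) * (b : G)⁻¹ := by rw [h]
        _ = (b : G) * x * (b : G)⁻¹ := by group)
  have hf : Function.Bijective f := by
    refine ⟨?_, ?_⟩
    · intro p q
      induction p using QuotientGroup.induction_on with
      | _ a =>
        induction q using QuotientGroup.induction_on with
        | _ b =>
          intro h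
          have h' : (a : G) * x * (a : G)⁻¹ = (b : G) * x * (b : G)⁻¹ := congrArg Subtype.val h
          rw [QuotientGroup.eq, hmemL, Subgroup.coe_mul, Subgroup.coe_inv]
          calc (a : G)⁻¹ * b * x = (a : G)⁻¹ * ((b : G) * x * (b : G)⁻¹) * b := by group
            _ = (a : G)⁻¹ * ((a : G) * x * (a : G)⁻¹) * b := by rw [h']
            _ = x * ((a : G)⁻¹ * b) := by group
    · rintro ⟨w, h, hh, rfl⟩
      exact ⟨QuotientGroup.mk ⟨h, hh⟩, rfl⟩
  have hL : Nat.card L = Nat.card (H ⊓ Subgroup.centralizer ({x} : Set G) : Subgroup G) := by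
    rw [inf_comm, ← Nat.card_congr (Subgroup.subgroupOfEquivOfLe
      (inf_le_right : Subgroup.centralizer ({x} : Set G) ⊓ H ≤ H)).toEquiv]
    simp only [L, Subgroup.inf_subgroupOf_right]
  rw [← Nat.card_eq_of_bijective f hf, ← hL, ← Subgroup.card_eq_card_quotient_mul_card_subgroup]

namespace Frame

variable {G : Type*} [Group G] [Finite G] {s : G} (F : Frame false G s)

/-- conjugacy by the normaliser of the first line -/
def NConj (v w : G) : Prop := ∃ h ∈ F.normE, h * v * h⁻¹ = w

theorem NConj.trans' {u v w : G} (h1 : F.NConj u v) (h2 : F.NConj v w) : F.NConj u w := by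
  obtain ⟨a, ha, rfl⟩ := h1
  obtain ⟨b, hb, rfl⟩ := h2
  exact ⟨b * a, mul_mem hb ha, by group⟩

theorem NConj.symm' {u v : G} (h1 : F.NConj u v) : F.NConj v u := by
  obtain ⟨a, ha, rfl⟩ := h1
  exact ⟨a⁻¹, inv_mem ha, by group⟩

theorem NConj.isConj {u v : G} (h1 : F.NConj u v) : IsConj u v := by
  obtain ⟨a, -, rfl⟩ := h1
  exact isConj_iff.2 ⟨a, rfl⟩

theorem nconj_kind {m n : ℕ} (hm : m < 192) (hn : n < 192) (h : kind m = kind n) (h7 : kind m < 7) :
    F.NConj (F.el m) (F.el n) := by
  obtain ⟨g, hgs, hg⟩ := F.conj_rep hm h7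
  obtain ⟨g', hgs', hg'⟩ := F.conj_rep hn (h ▸ h7)
  rw [h] at hg
  exact (NConj.symm' F ⟨g, F.cent_le_normE hgs, hg⟩).trans' F ⟨g', F.cent_le_normE hgs', hg'⟩

/-- an element of kind `3` or `4` determines `s` inside the normaliser -/
theorem fix_s {i : ℕ} (hi : i < 192) (hk : kind i = 3 ∨ kind i = 4) {h : G} (hh : h ∈ F.normE)
    {j : ℕ} (hj : j < 192) (hjk : kind j = 3 ∨ kind j = 4) (he : h * F.el i * h⁻¹ = F.el j) :
    h * s = s * h := by
  have hd : allB 192 (fun i => (kind i != 3 && kind i != 4) ||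
      (allB 8 (fun e => decide (mulS false e (cjS i e) ≤ 1)) &&
        anyB 8 fun e => mulS false e (cjS i e) == 1)) = true := by decide +kernel
  have h1 := allB_spec hd hi
  have h2 := allB_spec hd hj
  simp only [Bool.or_eq_true, Bool.and_eq_true, bne_iff_ne] at h1 h2
  obtain ⟨e, he8, hes⟩ := anyB_spec (h1.resolve_left (by omega)).2
  have hval : ∀ {i e : ℕ}, i < 192 → e < 8 →
      F.el e * (F.el i * F.el e * (F.el i)⁻¹) = F.el (mulS false e (cjS i e)) := fun {i e} hi he => by
    rw [F.el_conj hi (by omega), F.el_mul (by omega) (cjS_lt _ _)]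
  have hs : F.el e * (F.el i * F.el e * (F.el i)⁻¹) = s := by
    rw [hval hi he8, eq_of_beq hes, F.el_one]
  obtain ⟨e', he', hee⟩ := F.mem_lineE.1 (F.mem_normE.1 hh _ (F.lineE_mem he8))
  have hw : h * s * h⁻¹ = F.el e' * (F.el j * F.el e' * (F.el j)⁻¹) := by
    have hw' : h * (F.el e * (F.el i * F.el e * (F.el i)⁻¹)) * h⁻¹ =
        F.el e' * (F.el j * F.el e' * (F.el j)⁻¹) := by
      rw [hee, ← he]; group
    rwa [hs] at hw'
  rw [hval hj he'] at hw
  have hle := of_decide_eq_true (allB_spec (h2.resolve_left (by omega)).1 he')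
  rcases Nat.lt_or_ge (mulS false e' (cjS j e')) 1 with h0 | h0
  · rw [show mulS false e' (cjS j e') = 0 by omega, F.el_zero] at hw
    exact absurd (conj_eq_one_iff.1 hw) F.s_ne
  · rw [show mulS false e' (cjS j e') = 1 by omega, F.el_one, mul_inv_eq_iff_eq_mul] at hw
    exact hw

theorem not_nconj_three_four {i j : ℕ} (hi : i < 192) (hj : j < 192) (hk : kind i = 3) (hjk : kind j = 4) :
    ¬ F.NConj (F.el i) (F.el j) := by
  rintro ⟨h, hh, he⟩
  obtain ⟨g, hg, rfl⟩ := F.surj h (F.fix_s hi (Or.inl hk) hh hj (Or.inr hjk) he)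
  rw [F.el_conj hg hi] at he
  have := F.el_inj (cjS_lt _ _) hj he
  have hd : allB 192 (fun g => allB 192 fun i => kind i != 3 || kind (cjS g i) == 3) = true := by
    decide +kernel
  have h3 := allB_spec (allB_spec hd hg) hi
  rw [this] at h3
  simp [hk, hjk] at h3

variable (hA : IsConj s (F.el 2))
include hA

/-- an involution of the normaliser outside the line is conjugate there to one of kind `3` or `4` -/
theorem exists_three_four {x : G} (hx : x ∈ F.normE) (hxE : x ∉ F.lineE) (hx2 : x * x = 1) :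
    ∃ i < 192, (kind i = 3 ∨ kind i = 4) ∧ F.NConj x (F.el i) := by
  have hmove : ∃ e ∈ F.lineE, x * e ≠ e * x := by
    by_contra h
    push Not at h
    exact hxE (F.lineE_self_cent h)
  obtain ⟨e, he, hxe⟩ := hmove
  set c := e * (x * e * x⁻¹) with hc
  have hxi : x⁻¹ = x := inv_eq_of_mul_eq_one_right hx2
  have hce : c ∈ F.lineE := mul_mem he (F.mem_normE.1 hx e he)
  have hc1 : c ≠ 1 := fun h => hxe (by
    rw [hc, mul_eq_one_iff_inv_eq, inv_eq_of_mul_eq_one_right (F.lineE_sq he)] at h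
    calc x * e = x * e * x⁻¹ * x := by group
      _ = e * x := by rw [← h])
  obtain ⟨h, hh, hhs⟩ := F.exists_normE_conj hA hce hc1
  set y := h⁻¹ * x * h with hy
  have hxc : x * c * x⁻¹ = c := by
    calc x * c * x⁻¹ = x * e * x⁻¹ * (x * (x * e * x⁻¹) * x⁻¹) := by rw [hc]; group
      _ = x * e * x⁻¹ * e := by
        congr 1
        calc x * (x * e * x⁻¹) * x⁻¹ = (x * x) * e * (x * x)⁻¹ := by group
          _ = e := by rw [hx2]; group
      _ = c := by rw [hc, F.lineE_comm (F.mem_normE.1 hx e he) he]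
  have hys : y * s = s * y := by
    calc y * s = h⁻¹ * (x * (h * s * h⁻¹) * x⁻¹) * x * h := by rw [hy]; group
      _ = h⁻¹ * (h * s * h⁻¹) * x * h := by rw [hhs, hxc]
      _ = s * y := by rw [hy]; group
  obtain ⟨i, hi, hiy⟩ := F.surj y hys
  have hi7 : kind i < 7 := (F.el_sq_iff hi).1 (by
    rw [hiy, hy]
    calc h⁻¹ * x * h * (h⁻¹ * x * h) = h⁻¹ * (x * x) * h := by group
      _ = 1 := by rw [hx2]; group)
  obtain ⟨e', he', hee⟩ := F.mem_lineE.1 (F.mem_normE.1 (inv_mem hh) e he)
  have hval : F.el (mulS false e' (cjS i e')) = F.el 1 := by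
    rw [F.el_mul (by omega) (cjS_lt _ _), ← F.el_conj hi (by omega), hee, hiy, F.el_one, hy]
    calc h⁻¹ * e * h⁻¹⁻¹ * (h⁻¹ * x * h * (h⁻¹ * e * h⁻¹⁻¹) * (h⁻¹ * x * h)⁻¹) = h⁻¹ * c * h := by
          rw [hc]; group
      _ = s := by rw [← hhs]; group
  have hd : allB 192 (fun i => decide (7 ≤ kind i) || kind i == 3 || kind i == 4 ||
      allB 8 fun e => mulS false e (cjS i e) != 1) = true := by decide +kernel
  have h' := allB_spec hd hi
  simp only [Bool.or_eq_true, decide_eq_true_eq, beq_iff_eq] at h'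
  rcases h' with ((h' | h') | h') | h'
  · omega
  · exact ⟨i, hi, Or.inl h', h⁻¹, inv_mem hh, by rw [hiy, hy]; group⟩
  · exact ⟨i, hi, Or.inr h', h⁻¹, inv_mem hh, by rw [hiy, hy]; group⟩
  · exact absurd (F.el_inj (mulS_lt false) (by omega) hval) (bne_iff_ne.1 (allB_spec h' he'))

theorem card_orbit {i : ℕ} (hi : i < 192) (hk : kind i = 3 ∨ kind i = 4) :
    Nat.card {w : G // ∃ h ∈ F.normE, h * F.el i * h⁻¹ = w} = 42 := by
  have h := orbit_mul_cent F.normE (F.el i)
  have h32 : Nat.card (F.normE ⊓ Subgroup.centralizer ({F.el i} : Set G) : Subgroup G) = 32 := by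
    let f : {m : Fin 192 // comS m i = true} →
        (F.normE ⊓ Subgroup.centralizer ({F.el i} : Set G) : Subgroup G) := fun m =>
      ⟨F.el m.1, F.cent_le_normE (F.el_comm_s m.1.2), Subgroup.mem_centralizer_singleton_iff.2
        ((F.comS_iff m.1.2 hi).2 m.2)⟩
    have hf : Function.Bijective f := by
      refine ⟨fun a b e => Subtype.ext (Fin.ext (F.el_inj a.1.2 b.1.2 (congrArg Subtype.val e))), ?_⟩
      rintro ⟨g, hg, hgc⟩
      have hgi := Subgroup.mem_centralizer_singleton_iff.1 hgc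
      have : g * s = s * g := F.fix_s hi hk hg hi hk (by rw [hgi]; group)
      obtain ⟨m, hm, rfl⟩ := F.surj g this
      exact ⟨⟨⟨m, hm⟩, (F.comS_iff hm hi).1 hgi⟩, rfl⟩
    rw [← Nat.card_eq_of_bijective f hf, Nat.card_eq_fintype_card, Fintype.card_subtype]
    have hd : ∀ i : Fin 192, kind i = 3 ∨ kind i = 4 →
        (Finset.univ.filter fun m : Fin 192 => comS m i = true).card = 32 := by decide +kernel
    exact hd ⟨i, hi⟩ hk
  rw [h32, F.card_normE hA] at h
  omega

/-- the two classes outside the line meet `C(s)` in `18` elements each -/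
theorem count_orbit {i : ℕ} (hi : i < 192) (hk : kind i = 3 ∨ kind i = 4) :
    Nat.card {w : G // (∃ h ∈ F.normE, h * F.el i * h⁻¹ = w) ∧ w * s = s * w} = 18 := by
  classical
  let O := {w : G // ∃ h ∈ F.normE, h * F.el i * h⁻¹ = w}
  let P := {v : F.lineE // v ≠ 1}
  let R : O → P → Prop := fun w p => (w : G) * ((p : F.lineE) : G) = ((p : F.lineE) : G) * (w : G)
  have h3 : ∀ w : O, Nat.card {p : P // R w p} = 3 := by
    rintro ⟨_, h, hh, rfl⟩
    let f : {j : Fin 8 // (decide ((j : ℕ) ≠ 0) && comS i j) = true} → {p : P //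
        R ⟨h * F.el i * h⁻¹, h, hh, rfl⟩ p} := fun j =>
      ⟨⟨⟨h * F.el j.1 * h⁻¹, F.mem_normE.1 hh _ (F.lineE_mem j.1.2)⟩, fun e => by
        have h1 : h * F.el j.1 * h⁻¹ = 1 := congrArg Subtype.val e
        have := j.2
        rw [Bool.and_eq_true, decide_eq_true_eq] at this
        exact F.el_ne_one (by omega) this.1 (conj_eq_one_iff.1 h1)⟩, by
        have := j.2
        rw [Bool.and_eq_true] at this
        exact comm_conj ((F.comS_iff hi (by omega)).2 this.2) h⟩
    have hf : Function.Bijective f := by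
      refine ⟨fun a b e => Subtype.ext (Fin.ext (F.el_inj (by omega) (by omega) ?_)), ?_⟩
      · simpa [f] using congrArg (fun z : {p : P // _} => (((z : P) : F.lineE) : G)) e
      · rintro ⟨⟨⟨v, hv⟩, hv1⟩, hR⟩
        obtain ⟨j, hj, hje⟩ := F.mem_lineE.1 (F.mem_normE.1 (inv_mem hh) v hv)
        have hvj : h * F.el j * h⁻¹ = v := by rw [hje]; group
        refine ⟨⟨⟨j, hj⟩, ?_⟩, Subtype.ext (Subtype.ext (Subtype.ext hvj))⟩
        rw [Bool.and_eq_true, decide_eq_true_eq]
        refine ⟨fun e => hv1 (Subtype.ext ?_), (F.comS_iff hi (by omega)).1 ?_⟩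
        · show v = 1
          rw [← hvj, show j = 0 from e, F.el_zero]
          group
        · have h2 : h * F.el i * h⁻¹ * v = v * (h * F.el i * h⁻¹) := hR
          have := comm_conj h2 h⁻¹
          rw [← hvj] at this
          simpa [mul_assoc] using this
    rw [← Nat.card_eq_of_bijective f hf, Nat.card_eq_fintype_card, Fintype.card_subtype]
    have hd : ∀ i : Fin 192, kind i = 3 ∨ kind i = 4 →
        (Finset.univ.filter fun j : Fin 8 => (decide ((j : ℕ) ≠ 0) && comS i j) = true).card = 3 := by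
      decide +kernel
    exact hd ⟨i, hi⟩ hk
  set N := Nat.card {w : G // (∃ h ∈ F.normE, h * F.el i * h⁻¹ = w) ∧ w * s = s * w} with hN
  have hp : ∀ p : P, Nat.card {w : O // R w p} = N := by
    rintro ⟨⟨v, hv⟩, hv1⟩
    obtain ⟨k, hk, rfl⟩ := F.exists_normE_conj hA hv (fun e => hv1 (Subtype.ext e))
    refine Nat.card_congr
      { toFun := fun w => ⟨k⁻¹ * ((w : O) : G) * k, ?_, ?_⟩
        invFun := fun w => ⟨⟨k * (w : G) * k⁻¹, ?_⟩, ?_⟩
        left_inv := fun w => Subtype.ext (Subtype.ext (by group))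
        right_inv := fun w => Subtype.ext (by group) }
    · obtain ⟨h, hh, he⟩ := (w : O).2
      exact ⟨k⁻¹ * h, mul_mem (inv_mem hk) hh, by rw [← he]; group⟩
    · have h2 := comm_conj (show ((w : O) : G) * (k * s * k⁻¹) = k * s * k⁻¹ * ((w : O) : G) from w.2) k⁻¹
      simpa [mul_assoc] using h2
    · obtain ⟨h, hh, he⟩ := w.2.1
      exact ⟨k * h, mul_mem hk hh, by rw [← he]; group⟩
    · exact comm_conj w.2.2 k
  haveI : Fintype O := Fintype.ofFinite _
  haveI : Fintype P := Fintype.ofFinite _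
  have e : (Σ w : O, {p : P // R w p}) ≃ (Σ p : P, {w : O // R w p}) :=
    { toFun := fun z => ⟨z.2.1, z.1, z.2.2⟩
      invFun := fun z => ⟨z.2.1, z.1, z.2.2⟩
      left_inv := fun z => rfl
      right_inv := fun z => rfl }
  have h42 := F.card_orbit hA hi hk
  have h7 : Nat.card P = 7 := by
    haveI : Fintype F.lineE := Fintype.ofFinite _
    rw [Nat.card_eq_fintype_card, Fintype.card_subtype_compl, Fintype.card_subtype_eq,
      ← Nat.card_eq_fintype_card, F.card_lineE]
  have hsum := Nat.card_congr e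
  rw [Nat.card_sigma, Nat.card_sigma] at hsum
  simp only [h3, hp, Finset.sum_const, Finset.card_univ, ← Nat.card_eq_fintype_card, smul_eq_mul] at hsum
  rw [h42, h7] at hsum
  omega

/-- one of the two classes outside `Q` goes to kind `3`, the other to kind `4` -/
theorem tau_split :
    (F.NConj (F.el 96) (F.el 8) ∧ F.NConj (F.el 97) (F.el 10)) ∨
      (F.NConj (F.el 97) (F.el 8) ∧ F.NConj (F.el 96) (F.el 10)) := by
  classical
  have hk96 : kind 96 = 5 := by decide +kernel
  have hk97 : kind 97 = 6 := by decide +kernel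
  have hk8 : kind 8 = 3 := by decide +kernel
  have hk10 : kind 10 = 4 := by decide +kernel
  have hm : ∀ i, i = 96 ∨ i = 97 → F.NConj (F.el i) (F.el 8) ∨ F.NConj (F.el i) (F.el 10) := by
    intro i hi
    have hi' : i < 192 := by omega
    have hnE : F.el i ∉ F.lineE := fun h => by
      obtain ⟨m, hm, he⟩ := F.mem_lineE.1 h
      have := F.el_inj (by omega) hi' he
      omega
    obtain ⟨j, hj, hjk, hc⟩ := F.exists_three_four hA (F.cent_le_normE (F.el_comm_s hi')) hnE
      ((F.el_sq_iff hi').2 (by rcases hi with rfl | rfl <;> omega))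
    rcases hjk with h | h
    · exact Or.inl (hc.trans' F (F.nconj_kind hj (by omega) (h.trans hk8.symm) (by omega)))
    · exact Or.inr (hc.trans' F (F.nconj_kind hj (by omega) (h.trans hk10.symm) (by omega)))
  have key : ∀ r, r = 8 ∨ r = 10 → ¬ (F.NConj (F.el 96) (F.el r) ∧ F.NConj (F.el 97) (F.el r)) := by
    intro r hr hboth
    have hr' : r < 192 := by omega
    have hrk : kind r = 3 ∨ kind r = 4 := by rcases hr with rfl | rfl <;> omega
    let f : {m : Fin 192 // (kind m == 5 || kind m == 6) = true} →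
        {w : G // (∃ h ∈ F.normE, h * F.el r * h⁻¹ = w) ∧ w * s = s * w} := fun m => ⟨F.el m.1, by
      have h' := m.2
      rw [Bool.or_eq_true, beq_iff_eq, beq_iff_eq] at h'
      refine ⟨?_, F.el_comm_s m.1.2⟩
      rcases h' with e | e
      · exact (hboth.1.symm' F).trans' F (F.nconj_kind (by omega) m.1.2 (hk96.trans e.symm) (by omega))
      · exact (hboth.2.symm' F).trans' F (F.nconj_kind (by omega) m.1.2 (hk97.trans e.symm) (by omega))⟩
    have hf : Function.Injective f := fun a b e =>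
      Subtype.ext (Fin.ext (F.el_inj a.1.2 b.1.2 (congrArg Subtype.val e)))
    have hle := Nat.card_le_card_of_injective f hf
    rw [F.count_orbit hA hr' hrk, Nat.card_eq_fintype_card, Fintype.card_subtype] at hle
    have hd : (Finset.univ.filter fun m : Fin 192 => (kind m == 5 || kind m == 6) = true).card = 24 := by
      decide +kernel
    omega
  rcases hm 96 (Or.inl rfl) with a | a <;> rcases hm 97 (Or.inr rfl) with b | b
  · exact absurd ⟨a, b⟩ (key 8 (Or.inl rfl))
  · exact Or.inl ⟨a, b⟩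
  · exact Or.inr ⟨b, a⟩
  · exact absurd ⟨a, b⟩ (key 10 (Or.inr rfl))

end Frame

end CfsgLib.ExtraSpS3
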