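import Cfsg.Agent.Lib.MTwelveCent.Count
import Cfsg.Agent.Lib.FischerTwoFour.PlaneQuot
import Cfsg.Agent.Lib.InvChar.RankFourQuotient

/-!
General facts: conjugacy forced by a subgroup containing the centralisers of its involutions, and the
quotient of a group of order `1344` by a self-centralising normal subgroup of order `8`.
-/
set_option autoImplicit false

namespace CfsgLib.ExtraSpS3

variable {G : Type*} [Group G]

theorem conj_sq {v : G} (hv : v * v = 1) (g : G) : g * v * g⁻¹ * (g * v * g⁻¹) = 1 := by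
  calc g * v * g⁻¹ * (g * v * g⁻¹) = g * (v * v) * g⁻¹ := by group
    _ = 1 := by rw [hv]; group

theorem conj_ne_one {v : G} (hv : v ≠ 1) (g : G) : g * v * g⁻¹ ≠ 1 := fun h =>
  hv (conj_eq_one_iff.1 h)

/-- the conjugate of a commuting pair commutes -/
theorem comm_conj {v w : G} (h : v * w = w * v) (g : G) :
    g * v * g⁻¹ * (g * w * g⁻¹) = g * w * g⁻¹ * (g * v * g⁻¹) := by
  calc g * v * g⁻¹ * (g * w * g⁻¹) = g * (v * w) * g⁻¹ := by group
    _ = g * (w * v) * g⁻¹ := by rw [h]
    _ = g * w * g⁻¹ * (g * v * g⁻¹) := by group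

/-- If `H` contains the centraliser of each of its involutions, an involution outside is conjugate to
every involution of `H`. -/
theorem isConj_of_outside [Finite G] {H : Subgroup G}
    (hC : ∀ v ∈ H, v * v = 1 → v ≠ 1 → ∀ c, c * v = v * c → c ∈ H)
    {u v : G} (hu : u * u = 1) (huH : u ∉ H) (hv : v * v = 1) (hv1 : v ≠ 1) (hvH : v ∈ H) :
    IsConj u v := by
  rcases Nat.even_or_odd (orderOf (u * v)) with he | ho
  · exfalso
    obtain ⟨k, hk⟩ := he
    set w := (u * v) ^ k with hwdef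
    have hpos := orderOf_pos (u * v)
    have hw2 : w * w = 1 := by rw [hwdef, ← pow_add, ← hk, pow_orderOf_eq_one]
    have hw1 : w ≠ 1 := pow_ne_one_of_lt_orderOf (by omega) (by omega)
    have hw : w ∈ Subgroup.zpowers (u * v) := Subgroup.npow_mem_zpowers _ _
    obtain ⟨h1, h2⟩ := MTwelveCent.commute_of_mem_zpowers_mul hu hv hw2 hw
    have hwH : w ∈ H := hC v hvH hv hv1 w h2.symm
    exact huH (hC w hwH hw2 hw1 u h1)
  · exact MTwelveCent.isConj_of_odd hu hv ho (pow_orderOf_eq_one _)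

/-- Every involution of a finite group lies in every subgroup of odd index up to conjugacy. -/
theorem exists_conj_mem_of_odd_index [Finite G] {H : Subgroup G} (hH : Odd H.index) {v : G}
    (hv : v * v = 1) : ∃ g : G, g * v * g⁻¹ ∈ H := by
  haveI : Fact (Nat.Prime 2) := ⟨Nat.prime_two⟩
  obtain ⟨P⟩ : Nonempty (Sylow 2 H) := inferInstance
  have hP : IsPGroup 2 ((P : Subgroup H).map H.subtype) := P.isPGroup'.map _
  obtain ⟨S, hS⟩ := hP.exists_le_sylow
  have hz : IsPGroup 2 (Subgroup.zpowers v) := by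
    rintro ⟨w, k, rfl⟩
    refine ⟨1, Subtype.ext ?_⟩
    show (v ^ k) ^ (2 ^ 1) = 1
    rw [pow_one, ← zpow_natCast, ← zpow_mul, mul_comm, zpow_mul, zpow_natCast, pow_two, hv, one_zpow]
  obtain ⟨R, hR⟩ := hz.exists_le_sylow
  obtain ⟨g, hg⟩ := MulAction.exists_smul_eq G R S
  refine ⟨g, ?_⟩
  have hmem : g * v * g⁻¹ ∈ (S : Subgroup G) := by
    rw [← hg, Sylow.coe_subgroup_smul]
    exact Subgroup.smul_mem_pointwise_smul v (MulAut.conj g) _ (hR (Subgroup.mem_zpowers v))
  have hcard : Nat.card (S : Subgroup G) ≤ Nat.card ((P : Subgroup H).map H.subtype) := by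
    rw [Subgroup.card_map_of_injective H.subtype_injective, P.card_eq_multiplicity, S.card_eq_multiplicity,
      ← Subgroup.card_mul_index H, Nat.factorization_mul Nat.card_pos.ne' hH.pos.ne']
    simp [Nat.factorization_eq_zero_of_not_dvd (fun h => hH.not_two_dvd_nat h)]
  exact Subgroup.map_subtype_le _ ((Subgroup.eq_of_le_of_card_ge hS hcard).symm ▸ hmem)

/-- the quotient by a self-centralising normal elementary abelian subgroup of order `8` -/
theorem quot_psl [Finite G] {E : Subgroup G} (hE : E.Normal) (hcomm : ∀ a ∈ E, ∀ b ∈ E, a * b = b * a)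
    (hsq : ∀ a ∈ E, a * a = 1) (h8 : Nat.card E = 8)
    (hcent : ∀ g : G, (∀ a ∈ E, g * a = a * g) → g ∈ E) (hG : Nat.card G = 1344) :
    ∃ (N : Subgroup G) (hN : N.Normal), IsMulCommutative N ∧ (∀ n ∈ N, n ^ 2 = 1) ∧ Nat.card N = 8 ∧
      Nonempty (G ⧸ N ≃* Matrix.ProjectiveSpecialLinearGroup (Fin 3) (ZMod 2)) := by
  refine ⟨E, hE, ⟨⟨fun a b => Subtype.ext (hcomm a a.2 b b.2)⟩⟩, fun n hn => by rw [pow_two, hsq n hn],
    h8, ?_⟩
  have hel : Cfsg.IsElementaryAbelian 2 E :=
    ⟨⟨⟨fun a b => Subtype.ext (hcomm a a.2 b b.2)⟩⟩, fun n hn => by rw [pow_two, hsq n hn]⟩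
  obtain ⟨Mh, hM⟩ := FischerTwoFour.exists_matrix_hom hel h8
  have htop : Subgroup.normalizer (E : Set G) = ⊤ := Subgroup.normalizer_eq_top_iff.2 hE
  let ψ : G →* Matrix.SpecialLinearGroup (Fin 3) (ZMod 2) :=
    Mh.comp ((MonoidHom.id G).codRestrict _ fun g => htop ▸ Subgroup.mem_top g)
  have hker : ψ.ker = E := by
    ext g
    rw [MonoidHom.mem_ker]
    show Mh _ = 1 ↔ _
    rw [hM, Subgroup.mem_centralizer_iff]
    exact ⟨fun h => hcent g fun a ha => (h a ha).symm, fun h a ha => hcomm a ha g h⟩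
  haveI := FischerTwoFour.sl32_simple
  have hidx : ψ.ker.index = 168 := by
    have := Subgroup.card_mul_index ψ.ker
    rw [hker, h8, hG] at this
    rw [hker]; omega
  have hsur : Function.Surjective ψ := by
    rw [← MonoidHom.range_eq_top]
    refine Subgroup.eq_top_of_card_eq _ ?_
    rw [← Nat.card_congr (QuotientGroup.quotientKerEquivRange ψ).toEquiv, ← Subgroup.index_eq_card, hidx,
      CfsgLib.DimThreeMax.card_sl32]
  have hc : Subgroup.center (Matrix.SpecialLinearGroup (Fin 3) (ZMod 2)) = ⊥ := by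
    apply Subgroup.eq_bot_of_card_eq
    rw [Cfsg.Agent.Classical.card_center_sl 3 (by norm_num), ZMod.card]
    rfl
  exact ⟨((QuotientGroup.quotientMulEquivOfEq hker.symm).trans
    (QuotientGroup.quotientKerEquivOfSurjective ψ hsur)).trans
    ((QuotientGroup.quotientBot).symm.trans (QuotientGroup.quotientMulEquivOfEq hc.symm))⟩

end CfsgLib.ExtraSpS3
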