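import Cfsg.Agent.Lib.ExtraSpS3.Tables
import Mathlib.GroupTheory.OrderOfElement
import Mathlib.Tactic.IntervalCases

/-!
Elements satisfying the relations of `2^{1+4}_+.Sym(3)`, and the map from symbols they define.
-/
set_option autoImplicit false
set_option maxRecDepth 10000

namespace CfsgLib.ExtraSpS3

/-- five elements with the relations of the extraspecial group of order `32` and plus type -/
structure QGens (G : Type*) [Group G] (s : G) where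
  /-- the first generator of the first line -/
  e1 : G
  /-- the second generator of the first line -/
  e2 : G
  /-- the first generator of the second line -/
  f1 : G
  /-- the second generator of the second line -/
  f2 : G
  s_ne : s ≠ 1
  s_sq : s * s = 1
  e1_sq : e1 * e1 = 1
  e2_sq : e2 * e2 = 1
  f1_sq : f1 * f1 = 1
  f2_sq : f2 * f2 = 1
  e1_s : e1 * s = s * e1
  e2_s : e2 * s = s * e2
  f1_s : f1 * s = s * f1
  f2_s : f2 * s = s * f2
  e21 : e2 * e1 = e1 * e2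
  f21 : f2 * f1 = f1 * f2
  f1_e1 : f1 * e1 = e1 * f1
  f2_e2 : f2 * e2 = e2 * f2
  f1_e2 : f1 * e2 = s * (e2 * f1)
  f2_e1 : f2 * e1 = s * (e1 * f2)

namespace QGens

variable {G : Type*} [Group G] {s : G} (Q : QGens G s)

/-- the element of a symbol -/
def elQ (p : ℕ) : G :=
  s ^ bitN p 0 * (Q.e1 ^ bitN p 1 * (Q.e2 ^ bitN p 2 * (Q.f1 ^ bitN p 3 * Q.f2 ^ bitN p 4)))

theorem elQ_zero : Q.elQ 0 = 1 := by simp [elQ, bitN]
theorem elQ_one : Q.elQ 1 = s := by simp [elQ, bitN]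
theorem elQ_two : Q.elQ 2 = Q.e1 := by simp [elQ, bitN]
theorem elQ_four : Q.elQ 4 = Q.e2 := by simp [elQ, bitN]
theorem elQ_eight : Q.elQ 8 = Q.f1 := by simp [elQ, bitN]
theorem elQ_sixteen : Q.elQ 16 = Q.f2 := by simp [elQ, bitN]

theorem lm {a b c : G} (h : a * b = c) (w : G) : a * (b * w) = c * w := by rw [← mul_assoc, h]

theorem gen_mul {g : ℕ} (hg : g = 1 ∨ g = 2 ∨ g = 4 ∨ g = 8 ∨ g = 16) {q : ℕ} (hq : q < 32) :
    Q.elQ g * Q.elQ q = Q.elQ (qm g q) := by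
  rcases hg with rfl | rfl | rfl | rfl | rfl <;> interval_cases q <;>
    simp [elQ, qm, bitN, mul_assoc, Q.s_sq, Q.e1_sq, Q.e2_sq, Q.f1_sq, Q.f2_sq, Q.e1_s, Q.e2_s, Q.f1_s,
      Q.f2_s, Q.e21, Q.f21, Q.f1_e1, Q.f2_e2, Q.f1_e2, Q.f2_e1, lm Q.s_sq, lm Q.e1_sq, lm Q.e2_sq,
      lm Q.f1_sq, lm Q.f2_sq, lm Q.e1_s, lm Q.e2_s, lm Q.f1_s, lm Q.f2_s, lm Q.e21, lm Q.f21,
      lm Q.f1_e1, lm Q.f2_e2, lm Q.f1_e2, lm Q.f2_e1]

theorem elQ_bit {i : ℕ} (p k : ℕ) : Q.elQ (bitN p k * i) = Q.elQ i ^ bitN p k := by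
  rcases Nat.eq_zero_or_pos (bitN p k) with h | h
  · simp [h, elQ_zero]
  · have := bitN_lt p k
    rw [show bitN p k = 1 by omega]
    simp

theorem bit_mul {g : ℕ} (hg : g = 1 ∨ g = 2 ∨ g = 4 ∨ g = 8 ∨ g = 16) (p k : ℕ) {q : ℕ} (hq : q < 32) :
    Q.elQ g ^ bitN p k * Q.elQ q = Q.elQ (qm (bitN p k * g) q) := by
  rcases Nat.eq_zero_or_pos (bitN p k) with h | h
  · simp [h, (qm_zero q).1]
  · have := bitN_lt p k
    rw [show bitN p k = 1 by omega, pow_one, one_mul, Q.gen_mul hg hq]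

theorem bit_mul_lt {g : ℕ} (hg : g < 32) (p k : ℕ) : bitN p k * g < 32 := by
  rcases Nat.eq_zero_or_pos (bitN p k) with h | h
  · simp [h]
  · have := bitN_lt p k
    rw [show bitN p k = 1 by omega]
    omega

theorem elQ_mul {p q : ℕ} (hp : p < 32) (hq : q < 32) : Q.elQ p * Q.elQ q = Q.elQ (qm p q) := by
  have e : Q.elQ p = Q.elQ 1 ^ bitN p 0 * (Q.elQ 2 ^ bitN p 1 * (Q.elQ 4 ^ bitN p 2 *
      (Q.elQ 8 ^ bitN p 3 * Q.elQ 16 ^ bitN p 4))) := by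
    rw [elQ_one, elQ_two, elQ_four, elQ_eight, elQ_sixteen]
    rfl
  have h4 := qm_lt (bit_mul_lt (by omega : 16 < 32) p 4) hq
  have h3 := qm_lt (bit_mul_lt (by omega : 8 < 32) p 3) h4
  have h2 := qm_lt (bit_mul_lt (by omega : 4 < 32) p 2) h3
  have h1 := qm_lt (bit_mul_lt (by omega : 2 < 32) p 1) h2
  rw [e, mul_assoc, mul_assoc, mul_assoc, mul_assoc, Q.bit_mul (by simp) p 4 hq,
    Q.bit_mul (by simp) p 3 h4, Q.bit_mul (by simp) p 2 h3, Q.bit_mul (by simp) p 1 h2,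
    Q.bit_mul (by simp) p 0 h1, qm_word hp hq]

/-- a homomorphism on the generators determines it on all symbols -/
theorem map_elQ {φ : G →* G} {i₀ i₁ i₂ i₃ i₄ : ℕ} (h₀ : φ s = Q.elQ i₀) (h₁ : φ Q.e1 = Q.elQ i₁)
    (h₂ : φ Q.e2 = Q.elQ i₂) (h₃ : φ Q.f1 = Q.elQ i₃) (h₄ : φ Q.f2 = Q.elQ i₄)
    (l₀ : i₀ < 32) (l₁ : i₁ < 32) (l₂ : i₂ < 32) (l₃ : i₃ < 32) (l₄ : i₄ < 32) (p : ℕ) :
    φ (Q.elQ p) = Q.elQ (lin i₀ i₁ i₂ i₃ i₄ p) := by
  have a0 := bit_mul_lt l₀ p 0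
  have a1 := bit_mul_lt l₁ p 1
  have a2 := bit_mul_lt l₂ p 2
  have a3 := bit_mul_lt l₃ p 3
  have a4 := bit_mul_lt l₄ p 4
  conv_lhs => rw [elQ]
  rw [map_mul, map_mul, map_mul, map_mul, map_pow, map_pow, map_pow, map_pow, map_pow, h₀, h₁, h₂, h₃, h₄,
    ← elQ_bit, ← elQ_bit, ← elQ_bit, ← elQ_bit, ← elQ_bit, lin, ← Q.elQ_mul (qm_lt (qm_lt (qm_lt a0 a1) a2) a3) a4,
    ← Q.elQ_mul (qm_lt (qm_lt a0 a1) a2) a3, ← Q.elQ_mul (qm_lt a0 a1) a2, ← Q.elQ_mul a0 a1]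
  simp only [mul_assoc]

theorem s_comm_elQ (p : ℕ) : Commute s (Q.elQ p) :=
  ((Commute.refl s).pow_right _).mul_right (((show Commute Q.e1 s from Q.e1_s).symm.pow_right _).mul_right
    (((show Commute Q.e2 s from Q.e2_s).symm.pow_right _).mul_right
      (((show Commute Q.f1 s from Q.f1_s).symm.pow_right _).mul_right
        ((show Commute Q.f2 s from Q.f2_s).symm.pow_right _))))

theorem elQ_eq_one {p : ℕ} (hp : p < 32) (h : Q.elQ p = 1) : p = 0 := by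
  by_contra h0
  have hd : allB 32 (fun p => p == 0 || p == 1 || anyB 32 fun q => qm p q == qm 1 (qm q p)) = true := by
    decide +kernel
  have := allB_spec hd hp
  simp only [Bool.or_eq_true, beq_iff_eq] at this
  rcases this with (h' | h') | h'
  · exact h0 h'
  · exact Q.s_ne (Q.elQ_one.symm.trans (h' ▸ h))
  · obtain ⟨q, hq, h'⟩ := anyB_spec h'
    have := congrArg Q.elQ (eq_of_beq h')
    rw [← Q.elQ_mul hp hq, ← Q.elQ_mul (by omega) (qm_lt hq hp), ← Q.elQ_mul hq hp, h, one_mul, mul_one,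
      elQ_one] at this
    exact Q.s_ne (mul_right_cancel (b := Q.elQ q) (by rw [one_mul]; exact this.symm))

theorem elQ_inj {p q : ℕ} (hp : p < 32) (hq : q < 32) (h : Q.elQ p = Q.elQ q) : p = q := by
  have hd : allB 32 (fun q => anyB 32 fun r => qm q r == 0 && allB 32 fun p => qm p r != 0 || p == q) = true := by
    decide +kernel
  obtain ⟨r, hr, h'⟩ := anyB_spec (allB_spec hd hq)
  rw [Bool.and_eq_true, beq_iff_eq] at h'
  have h2 := allB_spec h'.2 hp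
  simp only [Bool.or_eq_true, bne_iff_ne, beq_iff_eq] at h2
  refine h2.resolve_left fun hne => hne ?_
  exact Q.elQ_eq_one (qm_lt hp hr) (by rw [← Q.elQ_mul hp hr, h, Q.elQ_mul hq hr, h'.1, elQ_zero])

end QGens

end CfsgLib.ExtraSpS3
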