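import Cfsg.Agent.Lib.ExtraSpS3.Relabel
import Mathlib.GroupTheory.GroupAction.Quotient

/-!
Two lines carrying conjugates of `s`: the point-plane geometry on the cosets of the two line normalisers.
-/
set_option autoImplicit false
set_option maxRecDepth 10000

namespace CfsgLib.ExtraSpS3

/-- a symbol outside, conjugate to the centre, forming a pair with the given one -/
def partner (a w : ℕ) : Bool := kind w == 5 && comS a w && kind (mulS false a w) == 5

/-- the symbol in the first coordinates of a symbol of the first line in the exchanged ones -/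
def swapN (m : ℕ) : ℕ := bitN m 0 + 4 * (m - bitN m 0)

theorem tables_pair {a : ℕ} (ha : a < 192) (hk : kind a = 2 ∨ kind a = 3) :
    (∀ w < 192, ∀ w' < 192, partner a w = true → partner a w' = true →
      w' = w ∨ w' = mulS false a w) := by
  have hd : allB 192 (fun a => (kind a != 2 && kind a != 3) ||
      (let l := (List.range 192).filter (partner a)
       l.all fun w => l.all fun w' => w' == w || w' == mulS false a w)) = true := by decide +kernel
  have h := allB_spec hd ha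
  simp only [Bool.or_eq_true, Bool.and_eq_true, bne_iff_ne, List.all_eq_true, beq_iff_eq] at h
  intro w hw w' hw' e e'
  exact h.resolve_left (by omega) w (List.mem_filter.2 ⟨List.mem_range.2 hw, e⟩) w'
    (List.mem_filter.2 ⟨List.mem_range.2 hw', e'⟩)

theorem tables_cross {a c : ℕ} (ha : a < 192) (hc : c < 192) (hka : kind a = 2) (hkc : kind c = 3) :
    ((∃ w < 192, partner a w = true ∧ partner c w = true) ↔ comS a c = true) ∧
      (comS a c = false → mulS false c a = mulS false 1 (mulS false a c)) := by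
  have hd : allB 192 (fun a => kind a != 2 || allB 192 fun c => kind c != 3 ||
      (anyB 192 (fun w => partner a w && partner c w) == comS a c &&
        (comS a c || mulS false c a == mulS false 1 (mulS false a c)))) = true := by decide +kernel
  have h := allB_spec hd ha
  simp only [hka, bne_self_eq_false, Bool.false_or] at h
  have h' := allB_spec h hc
  simp only [hkc, bne_self_eq_false, Bool.false_or, Bool.and_eq_true, beq_iff_eq, Bool.or_eq_true] at h'
  obtain ⟨h1, h2⟩ := h'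
  refine ⟨?_, fun hf => h2.resolve_left (by simp [hf])⟩
  rw [← h1]
  constructor
  · rintro ⟨w, hw, e⟩
    exact List.any_eq_true.2 ⟨w, List.mem_range.2 hw, by rw [Bool.and_eq_true]; exact e⟩
  · intro e
    obtain ⟨w, hw, e'⟩ := anyB_spec e
    exact ⟨w, hw, Bool.and_eq_true _ _ ▸ e'⟩

/-- the elements of one orbit of points through a base plane -/
theorem card_through {G : Type*} [Group G] [Finite G] {s : G} (A B E : Subgroup G)
    (hAE : ∀ h ∈ A, h * s * h⁻¹ ∈ E) (htr : ∀ v ∈ E, v ≠ 1 → ∃ h ∈ A, h * s * h⁻¹ = v) (hs1 : s ≠ 1)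
    (hE : Nat.card E = 8) (hL : ∀ g, g * s = s * g → g ∈ A ∧ g ∈ B)
    (hint : ∀ h ∈ A, h ∈ B → h * s = s * h) :
    Nat.card {π : G ⧸ B // ∃ g : G, (QuotientGroup.mk g : G ⧸ A) = QuotientGroup.mk 1 ∧
      QuotientGroup.mk g = π} = 7 := by
  classical
  let T := {π : G ⧸ B // ∃ g : G, (QuotientGroup.mk g : G ⧸ A) = QuotientGroup.mk 1 ∧ QuotientGroup.mk g = π}
  choose f hfA hfs using htr
  let φ : {v : E // v ≠ 1} → T := fun v =>
    ⟨QuotientGroup.mk (f v.1 v.1.2 (fun e => v.2 (Subtype.ext e))), _,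
      QuotientGroup.eq.2 (by simpa using inv_mem (hfA v.1 v.1.2 (fun e => v.2 (Subtype.ext e)))), rfl⟩
  have hφ : Function.Bijective φ := by
    refine ⟨fun v w h => ?_, ?_⟩
    · set a := f v.1 v.1.2 (fun e => v.2 (Subtype.ext e)) with ha
      set b := f w.1 w.1.2 (fun e => w.2 (Subtype.ext e)) with hb
      have h' : (QuotientGroup.mk a : G ⧸ B) = QuotientGroup.mk b := congrArg Subtype.val h
      have hc := hint (a⁻¹ * b) (mul_mem (inv_mem (hfA _ _ _)) (hfA _ _ _)) (QuotientGroup.eq.1 h')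
      refine Subtype.ext (Subtype.ext ?_)
      calc ((v.1 : E) : G) = a * s * a⁻¹ := (hfs _ _ _).symm
        _ = a * (s * (a⁻¹ * b)) * b⁻¹ := by group
        _ = a * (a⁻¹ * b * s) * b⁻¹ := by rw [hc]
        _ = b * s * b⁻¹ := by group
        _ = ((w.1 : E) : G) := hfs _ _ _
    · rintro ⟨π, g, hg, rfl⟩
      have hgA : g ∈ A := by
        have := QuotientGroup.eq.1 hg
        rw [mul_one] at this
        simpa using inv_mem this
      refine ⟨⟨⟨g * s * g⁻¹, hAE g hgA⟩, fun e => hs1 (conj_eq_one_iff.1 (congrArg Subtype.val e))⟩,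
        Subtype.ext (QuotientGroup.eq.2 ?_)⟩
      set a := f (g * s * g⁻¹) (hAE g hgA) (fun e => hs1 (conj_eq_one_iff.1 e)) with ha
      have he : a * s * a⁻¹ = g * s * g⁻¹ := hfs _ _ _
      refine (hL _ ?_).2
      calc a⁻¹ * g * s = a⁻¹ * (g * s * g⁻¹) * g := by group
        _ = a⁻¹ * (a * s * a⁻¹) * g := by rw [he]
        _ = s * (a⁻¹ * g) := by group
  haveI : Fintype E := Fintype.ofFinite _
  rw [← Nat.card_eq_of_bijective φ hφ, Nat.card_eq_fintype_card, Fintype.card_subtype_compl,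
    Fintype.card_subtype_eq, ← Nat.card_eq_fintype_card, hE]

namespace Two

variable {G : Type*} [Group G] [Finite G] {s : G} (D : Two G s)

/-- the points -/
abbrev Pt : Type _ := G ⧸ D.F.normE

/-- the planes -/
abbrev Pl : Type _ := G ⧸ D.F2.normE

/-- the base point -/
def p0 : D.Pt := QuotientGroup.mk 1

/-- incidence -/
def Inc (p : D.Pt) (π : D.Pl) : Prop := ∃ g : G, QuotientGroup.mk g = p ∧ QuotientGroup.mk g = π

/-- two points on a common plane -/
def Adj (p q : D.Pt) : Prop := p ≠ q ∧ ∃ π, D.Inc p π ∧ D.Inc q π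

theorem inc_smul {p : D.Pt} {π : D.Pl} (g : G) (h : D.Inc p π) : D.Inc (g • p) (g • π) := by
  obtain ⟨a, rfl, rfl⟩ := h
  exact ⟨g * a, rfl, rfl⟩

theorem inc_smul_iff {p : D.Pt} {π : D.Pl} (g : G) : D.Inc (g • p) (g • π) ↔ D.Inc p π :=
  ⟨fun h => by simpa using D.inc_smul g⁻¹ h, D.inc_smul g⟩

theorem adj_smul {p q : D.Pt} (g : G) (h : D.Adj p q) : D.Adj (g • p) (g • q) := by
  obtain ⟨hne, π, h1, h2⟩ := h
  exact ⟨fun e => hne (smul_left_cancel g e), g • π, D.inc_smul g h1, D.inc_smul g h2⟩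

theorem Adj.symm' {p q : D.Pt} (h : D.Adj p q) : D.Adj q p :=
  ⟨h.1.symm, h.2.elim fun π hπ => ⟨π, hπ.2, hπ.1⟩⟩

theorem exists_smul_eq (p : D.Pt) : ∃ g : G, g • D.p0 = p := by
  obtain ⟨g, rfl⟩ := QuotientGroup.mk_surjective p
  exact ⟨g, show (QuotientGroup.mk (g * 1) : D.Pt) = _ by rw [mul_one]⟩

theorem smul_p0 {h : G} (hh : h ∈ D.F.normE) : h • D.p0 = D.p0 :=
  QuotientGroup.eq.2 (by simpa using inv_mem hh)

theorem mk_eq_p0 {g : G} : (QuotientGroup.mk g : D.Pt) = D.p0 ↔ g ∈ D.F.normE := by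
  rw [p0, QuotientGroup.eq, mul_one, inv_mem_iff]

theorem hA2 : IsConj s (D.F2.el 2) := by rw [D.e2]; exact D.hC

theorem el2_small {m : ℕ} (hm : m < 8) : D.F2.el m = D.F.el (swapN m) := by
  have hlt : swapN m < 32 := by
    have h : allB 8 (fun m => decide (swapN m < 32)) = true := by decide +kernel
    exact of_decide_eq_true (allB_spec h hm)
  have e1 : D.F2.e1 = D.F.f1 := by
    rw [← D.F2.elQ_two, ← D.F.elQ_eight, ← D.F2.el_of_lt (by omega), ← D.F.el_of_lt (by omega), D.e2]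
  have e2 : D.F2.e2 = D.F.f2 := by
    rw [← D.F2.elQ_four, ← D.F.elQ_sixteen, ← D.F2.el_of_lt (by omega), ← D.F.el_of_lt (by omega), D.e4]
  rw [D.F2.el_of_lt (by omega), D.F.el_of_lt hlt]
  interval_cases m <;> simp [QGens.elQ, swapN, bitN, e1, e2]

theorem mem_lineF {g : G} : g ∈ D.F2.lineE ↔ ∃ m < 8, D.F.el (swapN m) = g := by
  rw [Frame.mem_lineE]
  exact ⟨fun ⟨m, hm, e⟩ => ⟨m, hm, (D.el2_small hm).symm.trans e⟩,
    fun ⟨m, hm, e⟩ => ⟨m, hm, (D.el2_small hm).trans e⟩⟩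

theorem lineF_kind {g : G} (hg : g ∈ D.F2.lineE) (h1 : g ≠ 1) (hs : g ≠ s) :
    ∃ c < 192, kind c = 3 ∧ D.F.el c = g := by
  obtain ⟨m, hm, rfl⟩ := D.mem_lineF.1 hg
  have hd : allB 8 (fun m => decide (swapN m < 192) &&
      (swapN m == 0 || swapN m == 1 || kind (swapN m) == 3)) = true := by decide +kernel
  have h := allB_spec hd hm
  simp only [Bool.and_eq_true, Bool.or_eq_true, decide_eq_true_eq, beq_iff_eq] at h
  obtain ⟨hlt, (h | h) | h⟩ := h
  · exact absurd (by rw [h, D.F.el_zero]) h1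
  · exact absurd (by rw [h, D.F.el_one]) hs
  · exact ⟨_, hlt, h, rfl⟩

theorem lineE_kind {g : G} (hg : g ∈ D.F.lineE) (h1 : g ≠ 1) (hs : g ≠ s) :
    ∃ a < 192, kind a = 2 ∧ D.F.el a = g := by
  obtain ⟨m, hm, rfl⟩ := D.F.mem_lineE.1 hg
  have hd : allB 8 (fun m => m == 0 || m == 1 || kind m == 2) = true := by decide +kernel
  have h := allB_spec hd hm
  simp only [Bool.or_eq_true, beq_iff_eq] at h
  rcases h with (h | h) | h
  · exact absurd (by rw [h, D.F.el_zero]) h1
  · exact absurd (by rw [h, D.F.el_one]) hs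
  · exact ⟨_, by omega, h, rfl⟩

theorem line_inter {g : G} (h1 : g ∈ D.F.lineE) (h2 : g ∈ D.F2.lineE) : g = 1 ∨ g = s := by
  by_contra hne
  push Not at hne
  obtain ⟨a, ha, hka, rfl⟩ := D.lineE_kind h1 hne.1 hne.2
  obtain ⟨c, hc, hkc, he⟩ := D.lineF_kind h2 hne.1 hne.2
  rw [D.F.el_inj hc ha he] at hkc
  omega

theorem norm_inter {h : G} (h1 : h ∈ D.F.normE) (h2 : h ∈ D.F2.normE) : h * s = s * h := by
  rcases D.line_inter (D.F.mem_normE.1 h1 s D.F.s_mem_lineE) (D.F2.mem_normE.1 h2 s D.F2.s_mem_lineE) with e | e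
  · exact absurd (conj_eq_one_iff.1 e) D.F.s_ne
  · exact mul_inv_eq_iff_eq_mul.1 e

/-- the symbols of conjugates of `s` -/
theorem isConj_iff_kind {m : ℕ} (hm : m < 192) (h7 : kind m < 7) :
    IsConj s (D.F.el m) ↔ kind m = 1 ∨ kind m = 2 ∨ kind m = 3 ∨ kind m = 5 := by
  have k2 : kind 2 = 2 := by decide +kernel
  have k8 : kind 8 = 3 := by decide +kernel
  have k10 : kind 10 = 4 := by decide +kernel
  have k96 : kind 96 = 5 := by decide +kernel
  have k97 : kind 97 = 6 := by decide +kernel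
  constructor
  · intro h
    by_contra hne
    rcases (by omega : kind m = 0 ∨ kind m = 4 ∨ kind m = 6) with e | e | e
    · rw [(kind_spec hm).2.1.1 e, D.F.el_zero] at h
      exact D.F.s_ne (isConj_one_left.1 h)
    · exact D.hB (h.trans (D.F.isConj_kind hm (by omega) (e.trans k10.symm) h7))
    · exact D.hB ((h.trans (D.F.isConj_kind hm (by omega) (e.trans k97.symm) h7)).trans (D.hD.isConj D.F))
  · rintro (e | e | e | e)
    · rw [(kind_spec hm).2.2.1 e, D.F.el_one]
    · exact D.hA.trans (D.F.isConj_kind hm (by omega) (e.trans k2.symm) h7).symm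
    · exact D.hC.trans (D.F.isConj_kind hm (by omega) (e.trans k8.symm) h7).symm
    · exact D.hC.trans ((D.F.isConj_kind hm (by omega) (e.trans k96.symm) h7).trans (D.hd.isConj D.F)).symm

/-- a conjugate of `s` commuting with it, outside both lines -/
def Tau (y : G) : Prop := y * s = s * y ∧ IsConj s y ∧ y ∉ D.F.lineE ∧ y ∉ D.F2.lineE

theorem tau_kind {y : G} (h : D.Tau y) : ∃ w < 192, kind w = 5 ∧ D.F.el w = y := by
  obtain ⟨h1, h2, h3, h4⟩ := h
  obtain ⟨g, hg⟩ := isConj_iff.1 h2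
  obtain ⟨w, hw, rfl, hk1, hk7⟩ := D.F.exists_kind (hg ▸ conj_sq D.F.s_sq g) (hg ▸ conj_ne_one D.F.s_ne g) h1
  refine ⟨w, hw, ?_, rfl⟩
  have hd : allB 192 (fun w => (decide (w < 8) || (kind w != 1 && kind w != 2)) &&
      ((anyB 8 fun m => swapN m == w) || kind w != 3)) = true := by decide +kernel
  have h := allB_spec hd hw
  simp only [Bool.and_eq_true, Bool.or_eq_true, decide_eq_true_eq, bne_iff_ne] at h
  have h' := (D.isConj_iff_kind hw hk7).1 h2
  rcases h.1 with hlt | hne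
  · exact absurd (D.F.lineE_mem hlt) h3
  · rcases h.2 with he | hne3
    · obtain ⟨m, hm, he⟩ := anyB_spec he
      exact absurd (D.mem_lineF.2 ⟨m, hm, by rw [eq_of_beq he]⟩) h4
    · omega

/-- the elements of a conjugate line in the centraliser of `s` -/
theorem meet_gen (A B : Frame false G s) (hB : IsConj s (B.el 2))
    (hAB : ∀ g, g ∈ A.lineE → g ∈ B.lineE → g = 1 ∨ g = s)
    {h y : G} (hh : h ∈ A.normE) (hy : h⁻¹ * y * h ∈ B.lineE) (hys : y * s = s * y)
    (hy1 : y ≠ 1) (hya : y ≠ h * s * h⁻¹) (hha : h * s * h⁻¹ ≠ s) :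
    y * s = s * y ∧ IsConj s y ∧ y ∉ A.lineE ∧ y ∉ B.lineE := by
  have hne : h⁻¹ * y * h ≠ 1 := fun e => hy1 (by
    calc y = h * (h⁻¹ * y * h) * h⁻¹ := by group
      _ = 1 := by rw [e]; group)
  refine ⟨hys, (B.isConj_lineE hB hy hne).trans (isConj_iff.2 ⟨h, by group⟩), fun hyA => ?_, fun hyB => ?_⟩
  · rcases hAB _ (by simpa using A.mem_normE.1 (inv_mem hh) y hyA) hy with e | e
    · exact hne e
    · exact hya (by rw [← e]; group)
  · have hB' := B.mem_normE_of_meet hB hyB hy1 hy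
    have := B.mem_normE.1 hB' s B.s_mem_lineE
    rcases hAB _ (A.mem_normE.1 hh s A.s_mem_lineE) this with e | e
    · exact B.s_ne (conj_eq_one_iff.1 e)
    · exact hha e

/-- the pairs outside lie in the conjugate lines -/
theorem partner_mem (A B : Frame false G s) (hB : IsConj s (B.el 2))
    (hAB : ∀ g, g ∈ A.lineE → g ∈ B.lineE → g = 1 ∨ g = s)
    (hex : ∀ v ∈ A.lineE, v ≠ 1 → v ≠ s → ∃ f ∈ B.lineE, f ≠ 1 ∧ f ≠ s ∧ f * v = v * f)
    (htau : ∀ y, y * s = s * y → IsConj s y → y ∉ A.lineE → y ∉ B.lineE → ∃ w < 192, kind w = 5 ∧ D.F.el w = y)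
    {h : G} (hh : h ∈ A.normE) {a w : ℕ} (ha : a < 192) (hka : kind a = 2 ∨ kind a = 3) (hw : w < 192)
    (hae : h * s * h⁻¹ = D.F.el a) (hp : partner a w = true) : h⁻¹ * D.F.el w * h ∈ B.lineE := by
  have hha : h * s * h⁻¹ ≠ s := fun e => by
    rw [hae] at e
    rw [D.F.el_inj ha (by omega) (e.trans D.F.el_one.symm)] at hka
    exact absurd hka (by decide +kernel)
  have hv1 : h⁻¹ * s * h ≠ 1 := fun e => D.F.s_ne (by
    calc s = h * (h⁻¹ * s * h) * h⁻¹ := by group
      _ = 1 := by rw [e]; group)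
  have hvs : h⁻¹ * s * h ≠ s := fun e => hha (by
    calc h * s * h⁻¹ = h * (h⁻¹ * s * h) * h⁻¹ := by rw [e]
      _ = s := by group)
  obtain ⟨f, hf, hf1, hfs, hfv⟩ := hex _ (by simpa using A.mem_normE.1 (inv_mem hh) s A.s_mem_lineE) hv1 hvs
  set y := h * f * h⁻¹ with hy
  have hyf : h⁻¹ * y * h = f := by rw [hy]; group
  have hys : y * s = s * y := by
    calc y * s = h * (f * (h⁻¹ * s * h)) * h⁻¹ := by rw [hy]; group
      _ = h * (h⁻¹ * s * h * f) * h⁻¹ := by rw [hfv]
      _ = s * y := by rw [hy]; group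
  have hy1 : y ≠ 1 := conj_ne_one hf1 h
  have hya : y ≠ h * s * h⁻¹ := fun e => hfs (by simpa [hy] using e)
  have hya2 : h⁻¹ * (D.F.el a * y) * h ∈ B.lineE := by
    rw [← hae, show h⁻¹ * (h * s * h⁻¹ * y) * h = s * (h⁻¹ * y * h) by group, hyf]
    exact mul_mem B.s_mem_lineE hf
  have t1 := meet_gen A B hB hAB hh (hyf.symm ▸ hf) hys hy1 hya hha
  have has : D.F.el a * s = s * D.F.el a := D.F.el_comm_s ha
  have hsq : D.F.el a * D.F.el a = 1 := hae ▸ conj_sq D.F.s_sq h
  have t2 := meet_gen A B hB hAB hh hya2 (by rw [mul_assoc, hys, ← mul_assoc, has, mul_assoc])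
    (fun e => hya (by
      rw [hae]; exact ((inv_eq_of_mul_eq_one_right e).symm.trans (inv_eq_of_mul_eq_one_right hsq))))
    (fun e => hy1 (by rw [hae] at e; exact mul_eq_left.mp e)) hha
  obtain ⟨w1, hw1, hk1, he1⟩ := htau y t1.1 t1.2.1 t1.2.2.1 t1.2.2.2
  obtain ⟨w2, hw2, hk2, he2⟩ := htau _ t2.1 t2.2.1 t2.2.2.1 t2.2.2.2
  have hmul : mulS false a w1 = w2 :=
    D.F.el_inj (mulS_lt false) hw2 (by rw [D.F.el_mul ha hw1, he1, he2])
  have hcom : comS a w1 = true := (D.F.comS_iff ha hw1).1 (by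
    rw [he1, ← hae, hy]
    exact comm_conj (B.lineE_comm B.s_mem_lineE hf) h)
  have hp1 : partner a w1 = true := by simp [partner, hk1, hcom, hmul, hk2]
  rcases tables_pair ha hka w1 hw1 w hw hp1 hp with e | e
  · rw [e, he1, hyf]; exact hf
  · rw [e, hmul, he2]; exact hya2

theorem hexE {v : G} (hv : v ∈ D.F.lineE) (h1 : v ≠ 1) (hs : v ≠ s) :
    ∃ f ∈ D.F2.lineE, f ≠ 1 ∧ f ≠ s ∧ f * v = v * f := by
  obtain ⟨a, ha, hka, rfl⟩ := D.lineE_kind hv h1 hs
  have hd : allB 192 (fun a => kind a != 2 ||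
      anyB 8 fun m => decide (2 ≤ swapN m) && decide (swapN m < 192) && comS (swapN m) a) = true := by
    decide +kernel
  have h := allB_spec hd ha
  rw [hka, bne_self_eq_false, Bool.false_or] at h
  obtain ⟨m, hm, h⟩ := anyB_spec h
  simp only [Bool.and_eq_true, decide_eq_true_eq] at h
  refine ⟨_, D.mem_lineF.2 ⟨m, hm, rfl⟩, D.F.el_ne_one h.1.2 (by omega), fun e => ?_,
    (D.F.comS_iff h.1.2 ha).2 h.2⟩
  have := D.F.el_inj h.1.2 (by omega) (e.trans D.F.el_one.symm)
  omega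

theorem hexF {v : G} (hv : v ∈ D.F2.lineE) (h1 : v ≠ 1) (hs : v ≠ s) :
    ∃ f ∈ D.F.lineE, f ≠ 1 ∧ f ≠ s ∧ f * v = v * f := by
  obtain ⟨c, hc, hkc, rfl⟩ := D.lineF_kind hv h1 hs
  have hd : allB 192 (fun c => kind c != 3 || anyB 8 fun m => decide (2 ≤ m) && comS m c) = true := by
    decide +kernel
  have h := allB_spec hd hc
  rw [hkc, bne_self_eq_false, Bool.false_or] at h
  obtain ⟨m, hm, h⟩ := anyB_spec h
  simp only [Bool.and_eq_true, decide_eq_true_eq] at h
  refine ⟨_, D.F.lineE_mem hm, D.F.el_ne_one (by omega) (by omega), fun e => ?_,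
    (D.F.comS_iff (by omega) hc).2 h.2⟩
  have := D.F.el_inj (by omega) (by omega) (e.trans D.F.el_one.symm)
  omega

/-- the planes through the base point and a further point of the base plane -/
theorem inc_iff_comm {h k : G} (hh : h ∈ D.F.normE) (hk : k ∈ D.F2.normE) (hks : k * s * k⁻¹ ≠ s) :
    D.Inc (QuotientGroup.mk k) (QuotientGroup.mk h) ↔
      h * s * h⁻¹ * (k * s * k⁻¹) = k * s * k⁻¹ * (h * s * h⁻¹) := by
  obtain ⟨c, hc, hkc, hce⟩ := D.lineF_kind (D.F2.mem_normE.1 hk s D.F2.s_mem_lineE) (conj_ne_one D.F.s_ne k) hks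
  by_cases hhs : h * s * h⁻¹ = s
  · refine ⟨fun _ => by rw [hhs, ← hce, D.F.el_comm_s hc], fun _ => ⟨k, rfl, QuotientGroup.eq.2 ?_⟩⟩
    exact mul_mem (inv_mem hk) (D.F2.cent_le_normE (mul_inv_eq_iff_eq_mul.1 hhs))
  obtain ⟨a, ha, hka, hae⟩ := D.lineE_kind (D.F.mem_normE.1 hh s D.F.s_mem_lineE) (conj_ne_one D.F.s_ne h) hhs
  rw [← hae, ← hce, D.F.comS_iff ha hc]
  constructor
  · rintro ⟨g, hgk, hgh⟩
    have h1 : k⁻¹ * g ∈ D.F.normE := QuotientGroup.eq.1 hgk.symm
    have h2 : h⁻¹ * g ∈ D.F2.normE := QuotientGroup.eq.1 hgh.symm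
    set y := g * s * g⁻¹ with hy
    have hy1 : y ≠ 1 := conj_ne_one D.F.s_ne g
    have hyE : k⁻¹ * y * k ∈ D.F.lineE := by
      have := D.F.mem_normE.1 h1 s D.F.s_mem_lineE
      rwa [show k⁻¹ * g * s * (k⁻¹ * g)⁻¹ = k⁻¹ * y * k by rw [hy]; group] at this
    have hyF : h⁻¹ * y * h ∈ D.F2.lineE := by
      have := D.F2.mem_normE.1 h2 s D.F2.s_mem_lineE
      rwa [show h⁻¹ * g * s * (h⁻¹ * g)⁻¹ = h⁻¹ * y * h by rw [hy]; group] at this
    have hyc : y * D.F.el c = D.F.el c * y := by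
      have := comm_conj (D.F.lineE_comm hyE D.F.s_mem_lineE) k
      rwa [← hce, show k * (k⁻¹ * y * k) * k⁻¹ = y by group] at this
    have hya : y * D.F.el a = D.F.el a * y := by
      have := comm_conj (D.F2.lineE_comm hyF D.F2.s_mem_lineE) h
      rwa [← hae, show h * (h⁻¹ * y * h) * h⁻¹ = y by group] at this
    cases hac : comS a c with
    | true => rfl
    | false =>
      exfalso
      have hmul := congrArg D.F.el ((tables_cross ha hc hka hkc).2 hac)
      rw [D.F.el_mul hc ha, D.F.el_mul (by omega) (mulS_lt false), D.F.el_mul ha hc, D.F.el_one] at hmul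
      have hys : y * s = s * y := by
        have e : s = D.F.el c * D.F.el a * (D.F.el a * D.F.el c)⁻¹ := by rw [hmul, mul_inv_cancel_right]
        rw [e]
        exact ((Commute.mul_right hyc hya).mul_right (Commute.mul_right hya hyc).inv_right).eq
      have hne : ∀ m, m = a ∨ m = c → y ≠ D.F.el m := by
        rintro m (rfl | rfl) e <;> rw [e] at hya hyc
        · rw [(D.F.comS_iff ha hc).1 hyc] at hac; cases hac
        · rw [(D.F.comS_iff ha hc).1 hya.symm] at hac; cases hac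
      obtain ⟨w, hw, hkw, hwe⟩ := D.tau_kind (meet_gen D.F D.F2 D.hA2 (fun g => D.line_inter) hh hyF hys hy1
        (by rw [← hae]; exact hne a (Or.inl rfl)) hhs)
      have hpart : ∀ m, m = a ∨ m = c → partner m w = true := by
        intro m hm
        have hlt : m < 192 := by rcases hm with rfl | rfl <;> assumption
        have hcw : comS m w = true := (D.F.comS_iff hlt hw).1 (by
          rw [hwe]; rcases hm with rfl | rfl
          · exact hya.symm
          · exact hyc.symm)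
        have hms : D.F.el m * s = s * D.F.el m := D.F.el_comm_s hlt
        have hsqm : D.F.el m * D.F.el m = 1 := by
          rcases hm with rfl | rfl
          · rw [hae]; exact conj_sq D.F.s_sq h
          · rw [hce]; exact conj_sq D.F.s_sq k
        have hys' : D.F.el m * y * s = s * (D.F.el m * y) := by rw [mul_assoc, hys, ← mul_assoc, hms, mul_assoc]
        have hy1' : D.F.el m * y ≠ 1 := fun e => hne m hm
          ((inv_eq_of_mul_eq_one_right e).symm.trans (inv_eq_of_mul_eq_one_right hsqm))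
        have hym : D.F.el m * y ≠ D.F.el m := fun e => hy1 (mul_eq_left.mp e)
        obtain ⟨w', hw', hkw', hwe'⟩ : ∃ w < 192, kind w = 5 ∧ D.F.el w = D.F.el m * y := by
          refine D.tau_kind ?_
          rcases hm with e | e <;> rw [e] at hys' hy1' hym ⊢
          · refine meet_gen D.F D.F2 D.hA2 (fun g => D.line_inter) hh ?_ hys' hy1' (by rwa [← hae]) hhs
            rw [hae, show h⁻¹ * (h * s * h⁻¹ * y) * h = s * (h⁻¹ * y * h) by group]
            exact mul_mem D.F2.s_mem_lineE hyF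
          · have t := meet_gen D.F2 D.F D.hA (fun g a b => D.line_inter b a) hk (y := D.F.el c * y) ?_ hys'
              hy1' (by rwa [← hce]) hks
            · exact ⟨t.1, t.2.1, t.2.2.2, t.2.2.1⟩
            · rw [hce, show k⁻¹ * (k * s * k⁻¹ * y) * k = s * (k⁻¹ * y * k) by group]
              exact mul_mem D.F.s_mem_lineE hyE
        have e' : mulS false m w = w' := D.F.el_inj (mulS_lt false) hw' (by rw [D.F.el_mul hlt hw, hwe, hwe'])
        simp [partner, hkw, hcw, e', hkw']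
      have := (tables_cross ha hc hka hkc).1.1 ⟨w, hw, hpart a (Or.inl rfl), hpart c (Or.inr rfl)⟩
      rw [hac] at this
      cases this
  · intro hac
    obtain ⟨w, hw, hpa, hpc⟩ := (tables_cross ha hc hka hkc).1.2 hac
    have hF := D.partner_mem D.F D.F2 D.hA2 (fun g => D.line_inter) (fun v => D.hexE)
      (fun y a b c d => D.tau_kind ⟨a, b, c, d⟩) hh ha (Or.inl hka) hw hae.symm hpa
    have hE := D.partner_mem D.F2 D.F D.hA (fun g a b => D.line_inter b a) (fun v => D.hexF)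
      (fun y a b c d => D.tau_kind ⟨a, b, d, c⟩) hk hc (Or.inr hkc) hw hce.symm hpc
    have hw1 : D.F.el w ≠ 1 := D.F.el_ne_one hw (fun e => by
      rw [e] at hpa; simp [partner, show kind 0 = 0 by decide +kernel] at hpa)
    obtain ⟨m, hm, hme⟩ := D.F.exists_normE_conj D.hA hE (by
      simpa using conj_ne_one hw1 k⁻¹)
    obtain ⟨n, hn, hne⟩ := D.F2.exists_normE_conj D.hA2 hF (by simpa using conj_ne_one hw1 h⁻¹)
    refine ⟨h * n, QuotientGroup.eq.2 ?_, QuotientGroup.eq.2 ?_⟩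
    · have hc' : (k * m)⁻¹ * (h * n) * s = s * ((k * m)⁻¹ * (h * n)) := by
        calc (k * m)⁻¹ * (h * n) * s = m⁻¹ * (k⁻¹ * (h * (n * s * n⁻¹) * h⁻¹) * k) * (k⁻¹ * (h * n)) := by group
          _ = m⁻¹ * (k⁻¹ * D.F.el w * k) * (k⁻¹ * (h * n)) := by rw [hne]; group
          _ = s * ((k * m)⁻¹ * (h * n)) := by rw [← hme]; group
      have := mul_mem hm (D.F.cent_le_normE hc')
      rw [show m * ((k * m)⁻¹ * (h * n)) = k⁻¹ * (h * n) by group] at this
      have := inv_mem this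
      rwa [mul_inv_rev, inv_inv] at this
    · rw [mul_inv_rev, mul_assoc, inv_mul_cancel, mul_one]
      exact inv_mem hn

theorem card_planes (p : D.Pt) : Nat.card {π // D.Inc p π} = 7 := by
  obtain ⟨g, rfl⟩ := D.exists_smul_eq p
  rw [← card_through D.F.normE D.F2.normE D.F.lineE (fun h hh => D.F.mem_normE.1 hh s D.F.s_mem_lineE)
    (fun v => D.F.exists_normE_conj D.hA) D.F.s_ne D.F.card_lineE
    (fun g hg => ⟨D.F.cent_le_normE hg, D.F2.cent_le_normE hg⟩) (fun h => D.norm_inter)]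
  exact Nat.card_congr (Equiv.subtypeEquiv (MulAction.toPerm g⁻¹) fun π => by
    rw [← D.inc_smul_iff g⁻¹, inv_smul_smul]
    rfl)

theorem card_points (π : D.Pl) : Nat.card {p // D.Inc p π} = 7 := by
  obtain ⟨g, rfl⟩ := QuotientGroup.mk_surjective π
  rw [← card_through D.F2.normE D.F.normE D.F2.lineE (fun h hh => D.F2.mem_normE.1 hh s D.F2.s_mem_lineE)
    (fun v => D.F2.exists_normE_conj D.hA2) D.F.s_ne D.F2.card_lineE
    (fun g hg => ⟨D.F2.cent_le_normE hg, D.F.cent_le_normE hg⟩) (fun h a b => D.norm_inter b a)]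
  refine Nat.card_congr (Equiv.subtypeEquiv (MulAction.toPerm g⁻¹) fun p => ?_)
  rw [← D.inc_smul_iff g⁻¹, show (g⁻¹ • (QuotientGroup.mk g : D.Pl)) = QuotientGroup.mk 1 from
    congrArg QuotientGroup.mk (inv_mul_cancel g)]
  exact ⟨fun ⟨a, b, c⟩ => ⟨a, c, b⟩, fun ⟨a, b, c⟩ => ⟨a, c, b⟩⟩

/-- the shape of a neighbour of the base point -/
theorem nbr_shape {q : D.Pt} (hq : D.Adj D.p0 q) : ∃ h ∈ D.F.normE, ∃ k ∈ D.F2.normE,
    k * s * k⁻¹ ≠ s ∧ q = h • (QuotientGroup.mk k : D.Pt) := by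
  obtain ⟨hne, π, ⟨h, h0, rfl⟩, g, rfl, hg⟩ := hq
  have hh := D.mk_eq_p0.1 h0
  have hk : h⁻¹ * g ∈ D.F2.normE := QuotientGroup.eq.1 hg.symm
  refine ⟨h, hh, h⁻¹ * g, hk, fun e => hne ?_, ?_⟩
  · have := mul_mem hh (D.F.cent_le_normE (mul_inv_eq_iff_eq_mul.1 e))
    rw [mul_inv_cancel_left] at this
    exact (D.mk_eq_p0.2 this).symm
  · show _ = QuotientGroup.mk (h * (h⁻¹ * g))
    rw [mul_inv_cancel_left]

/-- the common planes of the base point and a neighbour correspond to a subgroup of order four -/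
theorem exists_axis {q : D.Pt} (hq : D.Adj D.p0 q) : ∃ H : Subgroup G, H ≤ D.F.lineE ∧ Nat.card H = 4 ∧
    ∀ h ∈ D.F.normE, (D.Inc q (QuotientGroup.mk h) ↔ h * s * h⁻¹ ∈ H) := by
  classical
  obtain ⟨h0, hh0, k, hk, hks, rfl⟩ := D.nbr_shape hq
  obtain ⟨c, hc, hkc, hce⟩ := D.lineF_kind (D.F2.mem_normE.1 hk s D.F2.s_mem_lineE) (conj_ne_one D.F.s_ne k) hks
  set H := D.F.lineE ⊓ Subgroup.centralizer ({h0 * D.F.el c * h0⁻¹} : Set G) with hH
  refine ⟨H, inf_le_left, ?_, fun h hh => ?_⟩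
  · let P := fun m : Fin 8 => comS m c = true
    let f : {m : Fin 8 // P m} → H := fun m => ⟨h0 * D.F.el m.1 * h0⁻¹,
      D.F.mem_normE.1 hh0 _ (D.F.lineE_mem m.1.2),
      Subgroup.mem_centralizer_singleton_iff.2 (comm_conj ((D.F.comS_iff (by omega) hc).2 m.2) h0)⟩
    have hf : Function.Bijective f := by
      refine ⟨fun a b e => Subtype.ext (Fin.ext (D.F.el_inj (by omega) (by omega)
        (by simpa [f] using congrArg Subtype.val e))), ?_⟩
      rintro ⟨v, hv, hvc⟩
      obtain ⟨m, hm, hme⟩ := D.F.mem_lineE.1 (D.F.mem_normE.1 (inv_mem hh0) v hv)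
      refine ⟨⟨⟨m, hm⟩, (D.F.comS_iff (by omega) hc).1 ?_⟩, Subtype.ext ?_⟩
      · have := comm_conj (Subgroup.mem_centralizer_singleton_iff.1 hvc) h0⁻¹
        rw [show h0⁻¹ * (h0 * D.F.el c * h0⁻¹) * h0⁻¹⁻¹ = D.F.el c by group, ← hme] at this
        exact this
      · show h0 * D.F.el m * h0⁻¹ = v
        rw [hme]; group
    rw [← Nat.card_eq_of_bijective f hf, Nat.card_eq_fintype_card, Fintype.card_subtype]
    have hd : ∀ c : Fin 192, kind c = 3 →
        (Finset.univ.filter fun m : Fin 8 => comS m c = true).card = 4 := by decide +kernel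
    exact hd ⟨c, hc⟩ hkc
  · rw [← D.inc_smul_iff h0⁻¹, inv_smul_smul, show (h0⁻¹ • (QuotientGroup.mk h : D.Pl)) =
      QuotientGroup.mk (h0⁻¹ * h) from rfl, D.inc_iff_comm (mul_mem (inv_mem hh0) hh) hk hks, ← hce, hH]
    simp only [Subgroup.mem_inf, D.F.mem_normE.1 hh s D.F.s_mem_lineE, true_and,
      Subgroup.mem_centralizer_singleton_iff]
    constructor
    · intro e
      have := comm_conj e h0
      rwa [show h0 * (h0⁻¹ * h * s * (h0⁻¹ * h)⁻¹) * h0⁻¹ = h * s * h⁻¹ by group] at this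
    · intro e
      have := comm_conj e h0⁻¹
      rwa [show h0⁻¹ * (h0 * D.F.el c * h0⁻¹) * h0⁻¹⁻¹ = D.F.el c by group,
        show h0⁻¹ * (h * s * h⁻¹) * h0⁻¹⁻¹ = h0⁻¹ * h * s * (h0⁻¹ * h)⁻¹ by group] at this

/-- adjacent points lie on exactly three common planes -/
theorem card_common {p q : D.Pt} (h : D.Adj p q) : Nat.card {π // D.Inc p π ∧ D.Inc q π} = 3 := by
  classical
  obtain ⟨g, rfl⟩ := D.exists_smul_eq p
  have h' : D.Adj D.p0 (g⁻¹ • q) := by simpa using D.adj_smul g⁻¹ h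
  obtain ⟨H, hHE, hH, hHq⟩ := D.exists_axis h'
  have e : Nat.card {π // D.Inc (g • D.p0) π ∧ D.Inc q π} =
      Nat.card {π // D.Inc D.p0 π ∧ D.Inc (g⁻¹ • q) π} :=
    Nat.card_congr (Equiv.subtypeEquiv (MulAction.toPerm g⁻¹) fun π => by
      show _ ↔ D.Inc D.p0 (g⁻¹ • π) ∧ D.Inc (g⁻¹ • q) (g⁻¹ • π)
      rw [D.inc_smul_iff, ← D.inc_smul_iff g⁻¹ (p := g • D.p0), inv_smul_smul])
  rw [e]
  have htr : ∀ v : H, v ≠ 1 → ∃ a ∈ D.F.normE, a * s * a⁻¹ = v := fun v hv =>
    D.F.exists_normE_conj D.hA (hHE v.2) (fun e => hv (Subtype.ext e))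
  choose f hfN hfs using htr
  let φ : {v : H // v ≠ 1} → {π // D.Inc D.p0 π ∧ D.Inc (g⁻¹ • q) π} := fun v =>
    ⟨QuotientGroup.mk (f v.1 v.2), ⟨f v.1 v.2, D.mk_eq_p0.2 (hfN _ _), rfl⟩,
      (hHq _ (hfN _ _)).2 (by rw [hfs]; exact v.1.2)⟩
  have hφ : Function.Bijective φ := by
    refine ⟨fun v w e => ?_, ?_⟩
    · set a := f v.1 v.2 with ha
      set b := f w.1 w.2 with hb
      have e' : (QuotientGroup.mk a : D.Pl) = QuotientGroup.mk b := congrArg Subtype.val e
      have hcc := D.norm_inter (mul_mem (inv_mem (hfN v.1 v.2)) (hfN w.1 w.2)) (QuotientGroup.eq.1 e')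
      refine Subtype.ext (Subtype.ext ?_)
      calc ((v.1 : H) : G) = a * s * a⁻¹ := (hfs _ _).symm
        _ = a * (s * (a⁻¹ * b)) * b⁻¹ := by group
        _ = a * (a⁻¹ * b * s) * b⁻¹ := by rw [hcc]
        _ = b * s * b⁻¹ := by group
        _ = ((w.1 : H) : G) := hfs _ _
    · rintro ⟨π, ⟨a, ha0, rfl⟩, hq'⟩
      have ha := D.mk_eq_p0.1 ha0
      refine ⟨⟨⟨a * s * a⁻¹, (hHq a ha).1 hq'⟩, fun e => conj_ne_one D.F.s_ne a (congrArg Subtype.val e)⟩,
        Subtype.ext (QuotientGroup.eq.2 ?_)⟩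
      set b := f ⟨a * s * a⁻¹, (hHq a ha).1 hq'⟩ (fun e => conj_ne_one D.F.s_ne a (congrArg Subtype.val e))
      have he : b * s * b⁻¹ = a * s * a⁻¹ := hfs _ _
      refine D.F2.cent_le_normE ?_
      calc b⁻¹ * a * s = b⁻¹ * (a * s * a⁻¹) * a := by group
        _ = b⁻¹ * (b * s * b⁻¹) * a := by rw [he]
        _ = s * (b⁻¹ * a) := by group
  haveI : Fintype H := Fintype.ofFinite _
  rw [← Nat.card_eq_of_bijective φ hφ, Nat.card_eq_fintype_card, Fintype.card_subtype_compl,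
    Fintype.card_subtype_eq, ← Nat.card_eq_fintype_card, hH]

theorem adj_trans {p q r : D.Pt} (h1 : D.Adj p q) (h2 : D.Adj q r) (hne : p ≠ r) : D.Adj p r := by
  classical
  obtain ⟨g, rfl⟩ := D.exists_smul_eq q
  have a1 : D.Adj D.p0 (g⁻¹ • p) := by simpa using D.adj_smul g⁻¹ (h1.symm' D)
  have a2 : D.Adj D.p0 (g⁻¹ • r) := by simpa using D.adj_smul g⁻¹ h2
  obtain ⟨H1, hE1, hc1, hq1⟩ := D.exists_axis a1
  obtain ⟨H2, hE2, hc2, hq2⟩ := D.exists_axis a2
  obtain ⟨v, hv1, hv2, hv⟩ : ∃ v, v ∈ H1 ∧ v ∈ H2 ∧ v ≠ 1 := by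
    by_contra hno
    push Not at hno
    let f : H1 × H2 → D.F.lineE := fun a => ⟨(a.1 : G) * a.2, mul_mem (hE1 a.1.2) (hE2 a.2.2)⟩
    have hf : Function.Injective f := by
      rintro ⟨a, b⟩ ⟨a', b'⟩ e
      have e' : (a : G) * b = a' * b' := congrArg Subtype.val e
      have h0 : (a' : G)⁻¹ * a = b' * (b : G)⁻¹ := by
        rw [eq_mul_inv_iff_mul_eq, mul_assoc, e', inv_mul_cancel_left]
      have h1 := hno _ (mul_mem (inv_mem a'.2) a.2) (h0 ▸ mul_mem b'.2 (inv_mem b.2))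
      have ha : a = a' := Subtype.ext (inv_mul_eq_one.1 h1).symm
      subst ha
      exact Prod.ext rfl (Subtype.ext (mul_left_cancel e'))
    have := Nat.card_le_card_of_injective f hf
    rw [Nat.card_prod, hc1, hc2, D.F.card_lineE] at this
    omega
  obtain ⟨h, hh, rfl⟩ := D.F.exists_normE_conj D.hA (hE1 hv1) hv
  refine ⟨hne, g • QuotientGroup.mk h, ?_, ?_⟩
  · simpa using D.inc_smul g ((hq1 h hh).2 hv1)
  · simpa using D.inc_smul g ((hq2 h hh).2 hv2)

/-- the component of the base point -/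
def comp : Set D.Pt := {q | q = D.p0 ∨ D.Adj D.p0 q}

theorem comp_closed {p q : D.Pt} (hp : p ∈ D.comp) (h : D.Adj p q) : q ∈ D.comp := by
  by_cases hq : q = D.p0
  · exact Or.inl hq
  rcases hp with rfl | hp
  · exact Or.inr h
  · exact Or.inr (D.adj_trans hp h (Ne.symm hq))

theorem inc_comp {p q : D.Pt} {π : D.Pl} (hp : p ∈ D.comp) (h1 : D.Inc p π) (h2 : D.Inc q π) : q ∈ D.comp := by
  by_cases e : p = q
  · exact e ▸ hp
  · exact D.comp_closed hp ⟨e, π, h1, h2⟩

theorem card_nbrs : Nat.card {q // D.Adj D.p0 q} = 14 := by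
  classical
  let A := {q // D.Adj D.p0 q}
  let B := {π // D.Inc D.p0 π}
  have e : (Σ q : A, {π : B // D.Inc q.1 π.1}) ≃ (Σ π : B, {q : A // D.Inc q.1 π.1}) :=
    { toFun := fun z => ⟨z.2.1, z.1, z.2.2⟩
      invFun := fun z => ⟨z.2.1, z.1, z.2.2⟩
      left_inv := fun z => rfl
      right_inv := fun z => rfl }
  haveI : Fintype A := Fintype.ofFinite _
  haveI : Fintype B := Fintype.ofFinite _
  have h3 : ∀ q : A, Nat.card {π : B // D.Inc q.1 π.1} = 3 := fun q => by
    rw [← D.card_common q.2]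
    exact Nat.card_congr (Equiv.subtypeSubtypeEquivSubtypeInter (D.Inc D.p0) (fun π => D.Inc q.1 π))
  have h6 : ∀ π : B, Nat.card {q : A // D.Inc q.1 π.1} = 6 := fun π => by
    have h7 := D.card_points π.1
    haveI : Fintype {p // D.Inc p π.1} := Fintype.ofFinite _
    have e2 : {q : A // D.Inc q.1 π.1} ≃ {p : {p // D.Inc p π.1} // ¬ p = ⟨D.p0, π.2⟩} :=
      { toFun := fun q => ⟨⟨q.1.1, q.2⟩, fun e => q.1.2.1 (congrArg Subtype.val e).symm⟩
        invFun := fun p => ⟨⟨p.1.1, fun e => p.2 (Subtype.ext e.symm), π.1, π.2, p.1.2⟩, p.1.2⟩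
        left_inv := fun q => rfl
        right_inv := fun p => rfl }
    rw [Nat.card_congr e2, Nat.card_eq_fintype_card, Fintype.card_subtype_compl, Fintype.card_subtype_eq,
      ← Nat.card_eq_fintype_card, h7]
  have hsum := Nat.card_congr e
  rw [Nat.card_sigma, Nat.card_sigma] at hsum
  simp only [h3, h6, Finset.sum_const, Finset.card_univ, ← Nat.card_eq_fintype_card, smul_eq_mul] at hsum
  rw [D.card_planes D.p0] at hsum
  show Nat.card A = 14
  omega

theorem card_comp : Nat.card D.comp = 15 := by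
  classical
  haveI : Fintype {q // D.Adj D.p0 q} := Fintype.ofFinite _
  let e : Option {q // D.Adj D.p0 q} ≃ D.comp :=
    { toFun := fun o => o.elim ⟨D.p0, Or.inl rfl⟩ fun q => ⟨q.1, Or.inr q.2⟩
      invFun := fun p => if h : p.1 = D.p0 then none else some ⟨p.1, p.2.resolve_left h⟩
      left_inv := fun o => by
        cases o with
        | none => simp
        | some q => simp [q.2.1.symm]
      right_inv := fun p => by
        by_cases h : p.1 = D.p0
        · simp [h, Subtype.ext_iff]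
        · simp [h] }
  rw [← Nat.card_congr e, Finite.card_option, D.card_nbrs]

/-- the stabiliser of the component -/
def G0 : Subgroup G where
  carrier := {g | ∀ q, g • q ∈ D.comp ↔ q ∈ D.comp}
  one_mem' := fun q => by rw [one_smul]
  mul_mem' := fun ha hb q => by rw [mul_smul]; exact (ha _).trans (hb q)
  inv_mem' := fun {a} ha q => by rw [← ha (a⁻¹ • q), smul_inv_smul]

theorem mem_G0_of_smul {g : G} (h : g • D.p0 ∈ D.comp) : g ∈ D.G0 := by
  classical
  have hsub : ∀ q ∈ D.comp, g • q ∈ D.comp := by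
    rintro q (rfl | hq)
    · exact h
    · exact D.comp_closed h (D.adj_smul g hq)
  intro q
  refine ⟨fun hq => ?_, hsub q⟩
  let f : D.comp → D.comp := fun p => ⟨g • p.1, hsub p.1 p.2⟩
  have hf : Function.Surjective f := Finite.surjective_of_injective fun a b e =>
    Subtype.ext (smul_left_cancel g (congrArg Subtype.val e))
  obtain ⟨p, hp⟩ := hf ⟨_, hq⟩
  have e' : g • p.1 = g • q := congrArg Subtype.val hp
  exact smul_left_cancel g e' ▸ p.2

theorem normE_le_G0 : D.F.normE ≤ D.G0 := fun g hg => D.mem_G0_of_smul (Or.inl (D.smul_p0 hg))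

theorem normF_le_G0 : D.F2.normE ≤ D.G0 := fun g hg =>
  D.mem_G0_of_smul (D.inc_comp (p := D.p0) (π := QuotientGroup.mk 1) (Or.inl rfl) ⟨1, rfl, rfl⟩
    ⟨g, show QuotientGroup.mk g = g • D.p0 from (congrArg QuotientGroup.mk (mul_one g)).symm,
      QuotientGroup.eq.2 (by simpa using inv_mem hg)⟩)

theorem cent_le_G0 {g : G} (hg : g * s = s * g) : g ∈ D.G0 := D.normE_le_G0 (D.F.cent_le_normE hg)

theorem card_G0 : Nat.card D.G0 = 20160 := by
  classical
  have hpos : ∀ q ∈ D.comp, ∃ g ∈ D.G0, g • D.p0 = q := fun q hq => by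
    obtain ⟨g, rfl⟩ := D.exists_smul_eq q
    exact ⟨g, D.mem_G0_of_smul hq, rfl⟩
  let M := D.F.normE.subgroupOf D.G0
  let f : D.G0 ⧸ M → D.comp := Quotient.lift (fun g => ⟨(g : G) • D.p0, (g.2 _).2 (Or.inl rfl)⟩)
    (fun a b h => by
      replace h : a⁻¹ * b ∈ M := QuotientGroup.leftRel_apply.1 h
      refine Subtype.ext ?_
      show (a : G) • D.p0 = (b : G) • D.p0
      have h' := congrArg ((a : G) • ·) (D.smul_p0 (Subgroup.mem_subgroupOf.1 h))
      simp only [smul_smul, Subgroup.coe_mul, Subgroup.coe_inv, mul_inv_cancel_left] at h'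
      exact h'.symm)
  have hf : Function.Bijective f := by
    refine ⟨?_, ?_⟩
    · intro x y
      induction x using QuotientGroup.induction_on with
      | _ a =>
        induction y using QuotientGroup.induction_on with
        | _ b =>
          intro h
          have h' : (a : G) • D.p0 = (b : G) • D.p0 := congrArg Subtype.val h
          rw [QuotientGroup.eq, Subgroup.mem_subgroupOf]
          refine D.mk_eq_p0.1 ?_
          show (QuotientGroup.mk (((a⁻¹ * b : D.G0) : G)) : D.Pt) = D.p0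
          rw [Subgroup.coe_mul, Subgroup.coe_inv, ← mul_one (((a : G))⁻¹ * b)]
          show ((a : G)⁻¹ * b) • D.p0 = D.p0
          rw [mul_smul, ← h', inv_smul_smul]
    · rintro ⟨q, hq⟩
      obtain ⟨g, hg, he⟩ := hpos q hq
      exact ⟨QuotientGroup.mk ⟨g, hg⟩, Subtype.ext he⟩
  rw [Subgroup.card_eq_card_quotient_mul_card_subgroup M, Nat.card_eq_of_bijective f hf, D.card_comp,
    Nat.card_congr (Subgroup.subgroupOfEquivOfLe D.normE_le_G0).toEquiv, D.F.card_normE D.hA]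

end Two

end CfsgLib.ExtraSpS3
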