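import Cfsg.Agent.Lib.ExtraSpS3.Full

/-!
The map from symbols is injective.
-/
set_option autoImplicit false
set_option maxRecDepth 10000

namespace CfsgLib.ExtraSpS3

namespace LGens

variable {P : Bool} {G : Type*} [Group G] {s : G} (L : LGens P G s)

theorem el_eq_one {m : ℕ} (hm : m < 192) (h : L.el m = 1) : m = 0 := by
  have hd : allB 192 (fun m => decide (m < 32) || anyB 32 fun g => anyB 32 fun n =>
      n != 0 && mulS P n (mulS P m g) == mulS P g m) = true := by
    cases P <;> decide +kernel
  have := allB_spec hd hm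
  rw [Bool.or_eq_true, decide_eq_true_eq] at this
  rcases this with h' | h'
  · exact L.elQ_eq_one h' (by rw [← L.el_of_lt h', h])
  · obtain ⟨g, hg, h'⟩ := anyB_spec h'
    obtain ⟨n, hn, h'⟩ := anyB_spec h'
    rw [Bool.and_eq_true, bne_iff_ne, beq_iff_eq] at h'
    have e := congrArg L.el h'.2
    rw [L.el_mul (by omega) (mulS_lt P), L.el_mul hm (by omega), L.el_mul (by omega) hm, h, one_mul,
      mul_one] at e
    exact absurd (L.elQ_eq_one hn (by rw [← L.el_of_lt hn]; exact mul_eq_right.mp e)) h'.1

theorem el_inj {m n : ℕ} (hm : m < 192) (hn : n < 192) (h : L.el m = L.el n) : m = n := by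
  have hd : allB 192 (fun n => anyB 192 fun r => mulS P n r == 0 &&
      allB 192 fun m => mulS P m r != 0 || m == n) = true := by
    cases P <;> decide +kernel
  obtain ⟨r, hr, h'⟩ := anyB_spec (allB_spec hd hn)
  rw [Bool.and_eq_true, beq_iff_eq] at h'
  have h2 := allB_spec h'.2 hm
  simp only [Bool.or_eq_true, bne_iff_ne, beq_iff_eq] at h2
  refine h2.resolve_left fun hne => hne ?_
  exact L.el_eq_one (mulS_lt P) (by rw [L.el_mul hm hr, h, ← L.el_mul hn hr, h'.1, el_zero])

end LGens

/-- the centraliser of `s` is coordinatised by the symbols -/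
structure Frame (P : Bool) (G : Type*) [Group G] (s : G) extends LGens P G s where
  surj : ∀ g : G, g * s = s * g → ∃ m < 192, toLGens.el m = g

end CfsgLib.ExtraSpS3
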