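import Cfsg.Agent.Lib.ExtraSpS3.Fusion
import Cfsg.Agent.Lib.Involutions.BrauerSuzuki
import Cfsg.Agent.Lib.MTwelveCent.Centre

/-!
Odd elements centralising two commuting involutions one of which is conjugate to `s`, and isolated
involutions in centralisers.
-/
set_option autoImplicit false
set_option maxRecDepth 10000

namespace CfsgLib.ExtraSpS3

/-- an isolated involution is central when a four group of the group leaves no room for an odd core -/
theorem central_of_isolated {X : Type*} [Group X] [Finite X] {u v w : X} (hu : orderOf u = 2)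
    (hiso : ∀ g : X, u * (g * u * g⁻¹) = g * u * g⁻¹ * u → g * u * g⁻¹ = u)
    (hv : v * v = 1) (hw : w * w = 1) (hvw : v * w = w * v)
    (h1 : ∀ o : X, Odd (orderOf o) → o * v = v * o → o = 1)
    (h2 : ∀ o : X, Odd (orderOf o) → o * w = w * o → o = 1)
    (h3 : ∀ o : X, Odd (orderOf o) → o * (v * w) = v * w * o → o = 1) (g : X) : g * u = u * g := by
  have hz : Cfsg.IsIsolatedInvolution u := ⟨hu, fun g hg => hiso g hg.eq⟩
  have hodd : ∀ o ∈ Cfsg.pPrimeCore 2 X, Odd (orderOf o) := fun o ho => by
    rw [← Nat.not_even_iff_odd, even_iff_two_dvd]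
    exact fun h => CfsgLib.PCore.not_dvd_card_pPrimeCore (h.trans (Subgroup.orderOf_dvd_natCard _ ho))
  have hN : Cfsg.pPrimeCore 2 X = ⊥ := MTwelveCent.eq_bot_of_four (N := Cfsg.pPrimeCore 2 X) inferInstance
    hv hw hvw (fun o ho => h1 o (hodd o ho)) (fun o ho => h2 o (hodd o ho)) (fun o ho => h3 o (hodd o ho))
  have h := CfsgLib.Involutions.zstar X u hz g
  rw [hN, Subgroup.mem_bot] at h
  have hui : u⁻¹ = u := CfsgLib.Involutions.inv_eq_self_of_involution hu
  have e : g * u * g⁻¹ * u⁻¹ = 1 := by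
    have h' := h
    first
      | simpa [hui, mul_assoc] using h'
      | (have h'' := inv_eq_one.2 h'; simpa [hui, mul_assoc] using h'')
  rwa [mul_inv_eq_one, mul_inv_eq_iff_eq_mul] at e

namespace Frame

variable {G : Type*} [Group G] [Finite G] {s : G} (F : Frame false G s)
include F

/-- an element of odd order centralising a conjugate of `s` and a further involution commuting with it is trivial -/
theorem odd_cent_trivial {v x o : G} (hv : IsConj s v) (hx : x * x = 1) (hx1 : x ≠ 1) (hxv : x ≠ v)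
    (hvx : x * v = v * x) (ho : Odd (orderOf o)) (hov : o * v = v * o) (hox : o * x = x * o) : o = 1 := by
  obtain ⟨g, rfl⟩ := isConj_iff.1 hv
  have hxs : g⁻¹ * x * g * s = s * (g⁻¹ * x * g) := by
    simpa [mul_assoc] using comm_conj hvx g⁻¹
  have hos : g⁻¹ * o * g * s = s * (g⁻¹ * o * g) := by
    simpa [mul_assoc] using comm_conj hov g⁻¹
  have hx' : g⁻¹ * x * g * (g⁻¹ * x * g) = 1 := by simpa using conj_sq hx g⁻¹
  obtain ⟨m, hm, hme, hk1, hk7⟩ := F.exists_kind hx' (fun e => hx1 (by
    calc x = g * (g⁻¹ * x * g) * g⁻¹ := by group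
      _ = 1 := by rw [e]; group)) hxs
  obtain ⟨n, hn, hne⟩ := F.surj _ hos
  have hm1 : kind m ≠ 1 := fun e => hxv (by
    rw [(kind_spec hm).2.2.1 e, F.el_one] at hme
    calc x = g * (g⁻¹ * x * g) * g⁻¹ := by group
      _ = g * s * g⁻¹ := by rw [← hme])
  have hcom : comS m n = true := (F.comS_iff hm hn).1 (by
    rw [hme, hne]
    exact comm_conj hox.symm g⁻¹ |> fun h => by simpa [mul_assoc] using h)
  let sq := fun a => mulS false a a
  have hd : allB 192 (fun m => decide (kind m < 2) || decide (7 ≤ kind m) || allB 192 fun n =>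
      !comS m n || (mulS false (mulS false (mulS false n n) (mulS false n n))
        (mulS false (mulS false n n) (mulS false n n))) == 0) = true := by decide +kernel
  have h := allB_spec hd hm
  simp only [Bool.or_eq_true, decide_eq_true_eq] at h
  have h' := allB_spec (h.resolve_left (by omega)) hn
  rw [hcom, Bool.not_true, Bool.false_or, beq_iff_eq] at h'
  have h8 : (g⁻¹ * o * g) ^ 8 = 1 := by
    rw [← hne, ← F.el_zero, ← h', F.el_mul (mulS_lt false) (mulS_lt false),
      F.el_mul (mulS_lt false) (mulS_lt false), F.el_mul hn hn]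
    simp only [pow_succ, pow_zero, one_mul, mul_assoc]
  have h8' : o ^ 8 = 1 := by
    calc o ^ 8 = (g * (g⁻¹ * o * g) * g⁻¹) ^ 8 := by group
      _ = g * (g⁻¹ * o * g) ^ 8 * g⁻¹ := by rw [conj_pow]
      _ = 1 := by rw [h8]; group
  have hdvd := orderOf_dvd_of_pow_eq_one h8'
  have hc : Nat.Coprime (orderOf o) (2 ^ 3) := (Nat.coprime_two_right.2 ho).pow_right 3
  exact orderOf_eq_one_iff.1 (Nat.eq_one_of_dvd_coprimes hc dvd_rfl hdvd)

end Frame

end CfsgLib.ExtraSpS3
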