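import Mathlib
import Cfsg.Agent.S0111

/-!
A group of order `120` with the structure of `Sym 5`, and transfer in small simple groups.
-/
set_option autoImplicit false

namespace CfsgLib.ExtraSpS3

/-- a normal subgroup of `Sym 5` of order at most `24` is trivial -/
theorem normal_perm_five {N : Subgroup (Equiv.Perm (Fin 5))} (hN : N.Normal) (hcard : Nat.card N ≤ 24) :
    N = ⊥ := by
  classical
  have hA : Nat.card (alternatingGroup (Fin 5)) = 60 := by
    rw [nat_card_alternatingGroup, Nat.card_fin]; decide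
  haveI := alternatingGroup.isSimpleGroup_five
  rcases (hN.subgroupOf (alternatingGroup (Fin 5))).eq_bot_or_eq_top with h | h
  · refine (Subgroup.eq_bot_iff_forall _).2 fun n hn => ?_
    have hone : ∀ m ∈ N, Equiv.Perm.sign m = 1 → m = 1 := fun m hm hs => by
      have : (⟨m, Equiv.Perm.mem_alternatingGroup.2 hs⟩ : alternatingGroup (Fin 5)) ∈
          N.subgroupOf (alternatingGroup (Fin 5)) := hm
      rw [h, Subgroup.mem_bot] at this
      exact congrArg Subtype.val this
    have hcomm : ∀ g : Equiv.Perm (Fin 5), g * n = n * g := fun g => by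
      have hm : g * n * g⁻¹ * n⁻¹ ∈ N := N.mul_mem (hN.conj_mem n hn g) (N.inv_mem hn)
      have := hone _ hm (by
        simp only [map_mul, map_inv]
        rcases Int.units_eq_one_or (Equiv.Perm.sign g) with e | e <;>
          rcases Int.units_eq_one_or (Equiv.Perm.sign n) with e' | e' <;> simp [e, e'])
      rw [mul_inv_eq_one, mul_inv_eq_iff_eq_mul] at this
      exact this
    have hd : ∀ n : Equiv.Perm (Fin 5), n * Equiv.swap 0 1 = Equiv.swap 0 1 * n →
        n * Equiv.swap 1 2 = Equiv.swap 1 2 * n → n * Equiv.swap 2 3 = Equiv.swap 2 3 * n →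
        n * Equiv.swap 3 4 = Equiv.swap 3 4 * n → n = 1 := by
      decide +kernel
    exact hd n (hcomm _).symm (hcomm _).symm (hcomm _).symm (hcomm _).symm
  · exfalso
    have hle : alternatingGroup (Fin 5) ≤ N := Subgroup.subgroupOf_eq_top.1 h
    have := Subgroup.card_le_of_le hle
    omega

/-- in a simple group with a Sylow 2-subgroup having a subgroup of index two whose involutions are all
conjugate to `z`, every involution of the Sylow subgroup is conjugate to `z` -/
theorem isConj_of_transfer {Y : Type*} [Group Y] [Finite Y] (hY : IsSimpleGroup Y) (h2 : 2 < Nat.card Y)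
    (P : Sylow 2 Y) (Q : Subgroup Y) (hQP : Q ≤ (P : Subgroup Y)) (hQi : Q.relIndex (P : Subgroup Y) = 2)
    {z w : Y} (hz : ∀ x ∈ Q, x * x = 1 → x ≠ 1 → x = z) (hw : w * w = 1) (hw1 : w ≠ 1)
    (hwP : w ∈ (P : Subgroup Y)) (hwQ : w ∉ Q) : IsConj z w := by
  rcases Cfsg.Agent.S0111.result P Q hQP hQi w (orderOf_eq_prime (by rw [pow_two, hw]) hw1) hwP hwQ with
    ⟨M, hM, hMi, -⟩ | ⟨g, hg⟩
  · exfalso
    rcases hM.eq_bot_or_eq_top with h | h <;> subst h
    · rw [Subgroup.index_bot] at hMi; omega
    · rw [Subgroup.index_top] at hMi; omega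
  · have e := hz _ hg (by
      calc g * w * g⁻¹ * (g * w * g⁻¹) = g * (w * w) * g⁻¹ := by group
        _ = 1 := by rw [hw]; group) (fun e => hw1 (conj_eq_one_iff.1 e))
    exact (isConj_iff.2 ⟨g, e⟩).symm

end CfsgLib.ExtraSpS3
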