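import Cfsg.Agent.Lib.ExtraSpS3.NineBase
import Cfsg.Agent.Lib.ExtraSpS3.Small

/-!
The two possible groups in the case with exactly two lines of conjugates of `s`.
-/
set_option autoImplicit false
set_option maxRecDepth 10000

namespace CfsgLib.ExtraSpS3

open EightModel (P8 w2 w4 IsTwo)

namespace Two

variable {G : Type*} [Group G] [Finite G] {s : G} (D : Two G s)

/-- two cosets fixed by a common involution -/
def Rel (p r : D.Cos) : Prop := p ≠ r ∧ ∃ v : G, v * v = 1 ∧ v ≠ 1 ∧ v • p = p ∧ v • r = r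

theorem rel_smul {p r : D.Cos} (g : G) (h : D.Rel p r) : D.Rel (g • p) (g • r) := by
  obtain ⟨hne, v, h2, h1, hp, hr⟩ := h
  exact ⟨fun e => hne (smul_left_cancel g e), g * v * g⁻¹, conj_sq h2 g, conj_ne_one h1 g,
    D.conj_fix.2 hp, D.conj_fix.2 hr⟩

theorem alt_move : ∀ i j : Fin 8, ∃ x ∈ alternatingGroup (Fin 8), x j = i := by
  have h : ∀ i j : Fin 8, ∃ k l : Fin 8,
      i = j ∨ (Equiv.Perm.sign (Equiv.swap j i * Equiv.swap k l) = 1 ∧ (Equiv.swap j i * Equiv.swap k l) j = i) := by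
    decide +kernel
  intro i j
  obtain ⟨k, l, e | ⟨e1, e2⟩⟩ := h i j
  · exact ⟨1, one_mem _, e.symm⟩
  · exact ⟨_, Equiv.Perm.mem_alternatingGroup.2 e1, e2⟩

/-- eight further cosets, labelled -/
structure Pts where
  /-- labels of the alternating subgroup -/
  T : D.Theta
  /-- the cosets -/
  e : Fin 8 → D.Cos
  inj : Function.Injective e
  equivariant : ∀ (g : G) (hg : g ∈ D.G0) (i : Fin 8), g • e i = e (T.θ ⟨g, hg⟩ i)
  rel : ∀ r, D.Rel D.bC r ↔ ∃ i, e i = r
  orbit : ∀ g ∈ D.U, g • D.bC = D.bC ∨ ∃ i, e i = g • D.bC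
  moved : ∃ g : G, ∃ i, g • D.bC = e i

theorem exists_pts (hU : ¬ D.U ≤ D.G0) : Nonempty D.Pts := by
  classical
  obtain ⟨T⟩ := D.exists_theta
  set N := D.G0.subgroupOf D.U with hN
  have hcN : Nat.card N = 96 := by
    let f : N → {p : P8 // p ∈ alternatingGroup (Fin 8) ∧ p * w2 = w2 * p} := fun x =>
      ⟨T.θ ⟨((x : D.U) : G), x.2⟩, (T.range_iff _).2 ⟨_, rfl⟩, by
        rw [← T.u_eq, ← map_mul, ← map_mul]
        exact congrArg T.θ (Subtype.ext (D.mem_U.1 (x : D.U).2))⟩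
    have hf : Function.Bijective f := by
      refine ⟨fun x y e => Subtype.ext (Subtype.ext (congrArg Subtype.val (T.inj (congrArg Subtype.val e)) :)), ?_⟩
      rintro ⟨p, hp, hpc⟩
      obtain ⟨g, hg, rfl⟩ := T.exists_lift hp
      have hgu : g * D.u = D.u * g := by
        have := T.inj (a₁ := ⟨g, hg⟩ * ⟨D.u, D.u_mem_G0⟩) (a₂ := ⟨D.u, D.u_mem_G0⟩ * ⟨g, hg⟩)
          (by rw [map_mul, map_mul, T.u_eq, hpc])
        exact congrArg Subtype.val this
      exact ⟨⟨⟨g, D.mem_U.2 hgu⟩, hg⟩, rfl⟩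
    rw [Nat.card_eq_of_bijective f hf, EightModel.card_cent_two]
  obtain ⟨ψ, hψ, hker⟩ : ∃ ψ : D.U →* Equiv.Perm (Fin 5), Function.Surjective ψ ∧ ψ.ker = D.K := by
    refine D.U_cases.resolve_left fun h => hU ?_
    have htop : N = ⊤ := Subgroup.eq_top_of_le_card _ (by omega)
    exact Subgroup.subgroupOf_eq_top.1 htop
  have hkN : ψ.ker ≤ N := by
    rw [hker]
    intro w hw
    obtain ⟨k, hk, he⟩ := D.mem_K.1 hw
    show (w : G) ∈ D.G0
    rw [← he]
    exact D.cent_le_G0 (D.F.el_comm_s (by simp at hk; omega))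
  have hcU : Nat.card D.U = 480 := by
    have h := Subgroup.card_mul_index ψ.ker
    rw [Subgroup.index_ker, MonoidHom.range_eq_top.2 hψ, Subgroup.card_top, Nat.card_perm, Nat.card_fin, hker,
      D.card_K] at h
    rw [← h]; rfl
  have hNi : N.index = 5 := by
    have := Subgroup.card_mul_index N
    rw [hcN, hcU] at this
    omega
  set M := N.map ψ with hM
  have hMN : M.comap ψ = N := Subgroup.comap_map_eq_self hkN
  have hMi : M.index = 5 := by rw [← Subgroup.index_comap_of_surjective M hψ, hMN, hNi]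
  have hMc : Nat.card M = 24 := by
    have := Subgroup.card_mul_index M
    rw [hMi, Nat.card_perm, Nat.card_fin] at this
    change Nat.card M * 5 = 120 at this
    omega
  let τ := MulAction.toPermHom (Equiv.Perm (Fin 5)) (Equiv.Perm (Fin 5) ⧸ M)
  have hτ : Function.Bijective τ := by
    have hinj : Function.Injective τ := by
      rw [← MonoidHom.ker_eq_bot_iff, ← Subgroup.normalCore_eq_ker]
      exact normal_perm_five inferInstance (le_trans (Subgroup.card_le_of_le M.normalCore_le) hMc.le)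
    refine hinj.bijective_of_nat_card_le ?_
    rw [Nat.card_perm, Nat.card_perm, ← Subgroup.index_eq_card, hMi, Nat.card_fin]
  have trans2 : ∀ g g' : D.U, g ∉ N → g' ∉ N → ∃ m : D.U, m ∈ N ∧
      ((m : G) • ((g : G) • D.bC)) = (g' : G) • D.bC := by
    intro g g' hg hg'
    have hne : ∀ x : D.U, x ∉ N → (QuotientGroup.mk (ψ x) : Equiv.Perm (Fin 5) ⧸ M) ≠ QuotientGroup.mk 1 := by
      intro x hx e
      rw [QuotientGroup.eq, mul_one, inv_mem_iff] at e
      exact hx (hMN ▸ e)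
    obtain ⟨σ, hσ⟩ := hτ.2 (Equiv.swap (QuotientGroup.mk (ψ g)) (QuotientGroup.mk (ψ g')))
    obtain ⟨m, rfl⟩ := hψ σ
    have h1 : (QuotientGroup.mk (ψ m * 1) : Equiv.Perm (Fin 5) ⧸ M) = QuotientGroup.mk 1 := by
      refine (congrArg (fun π : Equiv.Perm _ => π (QuotientGroup.mk 1)) hσ).trans ?_
      exact Equiv.swap_apply_of_ne_of_ne (hne g hg).symm (hne g' hg').symm
    have h2 : (QuotientGroup.mk (ψ m * ψ g) : Equiv.Perm (Fin 5) ⧸ M) = QuotientGroup.mk (ψ g') := by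
      refine (congrArg (fun π : Equiv.Perm _ => π (QuotientGroup.mk (ψ g))) hσ).trans ?_
      exact Equiv.swap_apply_left _ _
    rw [QuotientGroup.eq, mul_one, mul_one, inv_mem_iff] at h1
    rw [QuotientGroup.eq, ← map_mul, ← map_inv, ← map_mul] at h2
    refine ⟨m, hMN ▸ h1, ?_⟩
    have h3 : (m * g)⁻¹ * g' ∈ N := hMN ▸ h2
    have h4 : ((m : G) * g)⁻¹ * g' ∈ D.G0 := h3
    rw [← mul_smul]
    conv_rhs => rw [show (g' : G) = (m : G) * g * (((m : G) * g)⁻¹ * g') by group, mul_smul, D.fix_bC.2 h4]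
  have hmemN : ∀ x : D.U, x ∈ N ↔ (x : G) • D.bC = D.bC := fun x => D.fix_bC.symm
  -- the stabilisers inside the centraliser of `u`
  have hstab : ∀ g : D.U, g ∉ N → Nat.card {x : G // x ∈ D.G0 ∧ x * D.u = D.u * x ∧
      x • ((g : G) • D.bC) = (g : G) • D.bC} = 24 := by
    intro g hg
    set q := (g : G) • D.bC with hq
    have horb : MulAction.orbit N q = MulAction.orbit D.U D.bC \ {D.bC} := by
      ext r
      constructor
      · rintro ⟨m, rfl⟩
        refine ⟨⟨(m : D.U) * g, ?_⟩, fun e => hg ?_⟩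
        · show (((m : D.U) * g : D.U) : G) • D.bC = ((m : D.U) : G) • q
          rw [Subgroup.coe_mul, mul_smul]
        · have e' : ((m : D.U) : G) • q = D.bC := e
          refine (hmemN g).2 ?_
          rw [← hq, ← inv_smul_smul ((m : D.U) : G) q, e']
          exact D.fix_bC.2 (inv_mem (show ((m : D.U) : G) ∈ D.G0 from m.2))
      · rintro ⟨⟨g', rfl⟩, hne⟩
        obtain ⟨m, hm, e⟩ := trans2 g g' hg (fun h => hne ((hmemN g').1 h))
        exact ⟨⟨m, hm⟩, e⟩
    have h5 : (MulAction.orbit D.U D.bC).ncard = 5 := by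
      rw [← MulAction.index_stabilizer, show MulAction.stabilizer D.U D.bC = N from
        Subgroup.ext fun x => (hmemN x).symm, hNi]
    have h4 : (MulAction.stabilizer N q).index = 4 := by
      rw [MulAction.index_stabilizer, horb, Set.ncard_diff_singleton_of_mem (MulAction.mem_orbit_self _), h5]
    have hc := Subgroup.card_mul_index (MulAction.stabilizer N q)
    rw [h4, hcN] at hc
    have e : MulAction.stabilizer N q ≃ {x : G // x ∈ D.G0 ∧ x * D.u = D.u * x ∧ x • q = q} :=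
      { toFun := fun x => ⟨((x : N) : D.U), (x : N).2, D.mem_U.1 ((x : N) : D.U).2, x.2⟩
        invFun := fun x => ⟨⟨⟨x.1, D.mem_U.2 x.2.2.1⟩, x.2.1⟩, x.2.2.2⟩
        left_inv := fun x => rfl
        right_inv := fun x => rfl }
    rw [← Nat.card_congr e]
    omega
  obtain ⟨g0, hg0⟩ : ∃ g : D.U, g ∉ N := by
    by_contra h
    push Not at h
    exact hU fun x hx => h ⟨x, hx⟩
  set q := (g0 : G) • D.bC with hq
  have hqb : q ≠ D.bC := fun e => hg0 ((hmemN g0).2 e)
  have huq : D.u • q = q := by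
    rw [hq, ← mul_smul, ← D.mem_U.1 g0.2, mul_smul, D.fix_bC.2 D.u_mem_G0]
  -- the stabiliser is a point stabiliser
  let H : Subgroup P8 := ((MulAction.stabilizer G q).subgroupOf D.G0).map T.θ
  have hHmem : ∀ (g : G) (hg : g ∈ D.G0), T.θ ⟨g, hg⟩ ∈ H ↔ g • q = q := fun g hg =>
    ⟨fun ⟨y, hy, e⟩ => by
      have := T.inj e
      subst this
      exact hy, fun h => ⟨_, h, rfl⟩⟩
  have hGood : EightModel.Good H := by
    refine ⟨?_, ?_, ?_⟩
    · rintro _ ⟨y, -, rfl⟩
      exact (T.range_iff _).2 ⟨y, rfl⟩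
    · rintro _ ⟨⟨v, hv⟩, hvq, rfl⟩ h2
      by_cases hv1 : v = 1
      · exact ⟨0, by simp [show (⟨v, hv⟩ : D.G0) = 1 from Subtype.ext hv1]⟩
      have hv2 : v * v = 1 := congrArg Subtype.val
        (T.inj ((map_mul T.θ ⟨v, hv⟩ ⟨v, hv⟩).trans (h2.trans (map_one T.θ).symm)))
      obtain ⟨a, ha, e | e⟩ := D.invol_G0 hv hv2 hv1
      · refine ⟨T.θ ⟨a, ha⟩ EightModel.w2_fix.choose, ?_⟩
        subst e
        rw [T.map_conj ha D.u_mem_G0, T.u_eq]
        simp [EightModel.w2_fix.choose_spec]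
      · exfalso
        subst e
        have : s • (a⁻¹ • q) = a⁻¹ • q := D.conj_fix.1 (by rw [smul_inv_smul]; exact hvq)
        exact hqb (by rw [← smul_inv_smul a q, D.s_fix this, D.fix_bC.2 ha])
    · rintro _ ⟨⟨v, hv⟩, hvq, rfl⟩ htwo
      obtain ⟨a, ha, hav⟩ := T.two_conj hv htwo
      subst hav
      have hfix : D.u • (a⁻¹ • q) = a⁻¹ • q := D.conj_fix.1 (by rw [smul_inv_smul]; exact hvq)
      obtain ⟨g, hg, hge⟩ := D.u_fix hfix
      have hgN : (⟨g, hg⟩ : D.U) ∉ N := fun h => hqb (by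
        rw [← smul_inv_smul a q, ← hge, D.fix_bC.2 (show g ∈ D.G0 from h), D.fix_bC.2 ha])
      rw [← hstab ⟨g, hg⟩ hgN]
      let f : {x : G // x ∈ D.G0 ∧ x * D.u = D.u * x ∧ x • (g • D.bC) = g • D.bC} →
          (H ⊓ Subgroup.centralizer ({T.θ ⟨a * D.u * a⁻¹, hv⟩} : Set P8) : Subgroup P8) := fun x =>
        ⟨T.θ ⟨a * x.1 * a⁻¹, mul_mem (mul_mem ha x.2.1) (inv_mem ha)⟩, (hHmem _ _).2 (by
            rw [← smul_inv_smul a q, ← hge]
            exact D.conj_fix.2 x.2.2.2),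
          Subgroup.mem_centralizer_singleton_iff.2 (by
            rw [← map_mul, ← map_mul]
            exact congrArg T.θ (Subtype.ext (comm_conj x.2.2.1 a)))⟩
      have hf : Function.Bijective f := by
        refine ⟨fun x y e => Subtype.ext (by
          simpa using congrArg Subtype.val (T.inj (congrArg Subtype.val e))), ?_⟩
        rintro ⟨_, ⟨⟨y, hy⟩, hyq, rfl⟩, hyc⟩
        have hc := congrArg Subtype.val (T.inj (a₁ := ⟨y, hy⟩ * ⟨a * D.u * a⁻¹, hv⟩)
          (a₂ := ⟨a * D.u * a⁻¹, hv⟩ * ⟨y, hy⟩)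
          (by rw [map_mul, map_mul]; exact Subgroup.mem_centralizer_singleton_iff.1 hyc))
        refine ⟨⟨a⁻¹ * y * a, mul_mem (mul_mem (inv_mem ha) hy) ha, ?_, ?_⟩, Subtype.ext (congrArg T.θ (Subtype.ext ?_))⟩
        · have := comm_conj (show y * (a * D.u * a⁻¹) = a * D.u * a⁻¹ * y from hc) a⁻¹
          simpa [mul_assoc] using this
        · refine (D.conj_fix (g := a)).1 ?_
          rw [show a * (a⁻¹ * y * a) * a⁻¹ = y by group, hge, smul_inv_smul]
          exact hyq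
        · show a * (a⁻¹ * y * a) * a⁻¹ = y
          group
      exact (Nat.card_eq_of_bijective f hf).symm
  obtain ⟨j, hj⟩ := EightModel.exists_point hGood ⟨w2, by
    rw [← T.u_eq]; exact (hHmem _ _).2 huq, 1, one_mem _, by group⟩
  -- the eight cosets
  have key : ∀ {g g' : G} (hg : g ∈ D.G0) (hg' : g' ∈ D.G0),
      g • q = g' • q ↔ T.θ ⟨g, hg⟩ j = T.θ ⟨g', hg'⟩ j := by
    intro g g' hg hg'
    have h := hj (T.θ ⟨g'⁻¹ * g, mul_mem (inv_mem hg') hg⟩) ((T.range_iff _).2 ⟨_, rfl⟩)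
    rw [hHmem, mul_smul, show (⟨g'⁻¹ * g, mul_mem (inv_mem hg') hg⟩ : D.G0) = ⟨g', hg'⟩⁻¹ * ⟨g, hg⟩ from rfl,
      map_mul, map_inv, Equiv.Perm.mul_apply, Equiv.Perm.inv_eq_iff_eq, inv_smul_eq_iff] at h
    exact h
  choose x hxA hxj using fun i => alt_move i j
  choose a ha hae using fun i => T.exists_lift (hxA i)
  have heq : ∀ (g : G) (hg : g ∈ D.G0) (i : Fin 8), g • a i • q = a (T.θ ⟨g, hg⟩ i) • q := by
    intro g hg i
    rw [← mul_smul, key (mul_mem hg (ha i)) (ha _),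
      show (⟨g * a i, mul_mem hg (ha i)⟩ : D.G0) = ⟨g, hg⟩ * ⟨a i, ha i⟩ from rfl, map_mul,
      Equiv.Perm.mul_apply, hae, hxj, hae, hxj]
  have hcover : ∀ (g : G) (hg : g ∈ D.G0), g • q = a (T.θ ⟨g, hg⟩ j) • q := by
    intro g hg
    rw [key hg (ha _), hae, hxj]
  refine ⟨⟨T, fun i => a i • q, fun i i' e => ?_, heq, fun r => ⟨?_, ?_⟩, ?_, ⟨(a j) * g0, j, ?_⟩⟩⟩
  · have := (key (ha i) (ha i')).1 e
    rwa [hae, hae, hxj, hxj] at this
  · rintro ⟨hne, v, hv2, hv1, hvb, hvr⟩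
    obtain ⟨c, hc, e | e⟩ := D.invol_G0 (D.fix_bC.1 hvb) hv2 hv1 <;> subst e
    · have hfix : D.u • (c⁻¹ • r) = c⁻¹ • r := D.conj_fix.1 (by rw [smul_inv_smul]; exact hvr)
      obtain ⟨g, hg, hge⟩ := D.u_fix hfix
      have hgN : (⟨g, hg⟩ : D.U) ∉ N := fun h => hne (by
        rw [← smul_inv_smul c r, ← hge, D.fix_bC.2 (show g ∈ D.G0 from h), D.fix_bC.2 hc])
      obtain ⟨m, hm, hme⟩ := trans2 g0 ⟨g, hg⟩ hg0 hgN
      have hcm : c * (m : G) ∈ D.G0 := mul_mem hc hm
      refine ⟨T.θ ⟨c * m, hcm⟩ j, ?_⟩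
      show a _ • q = r
      rw [← hcover _ hcm, mul_smul, hq, hme]
      show c • g • D.bC = r
      rw [hge, smul_inv_smul]
    · exfalso
      have : s • (c⁻¹ • r) = c⁻¹ • r := D.conj_fix.1 (by rw [smul_inv_smul]; exact hvr)
      exact hne (by rw [← smul_inv_smul c r, D.s_fix this, D.fix_bC.2 hc])
  · rintro ⟨i, rfl⟩
    have hbase : D.Rel D.bC q := ⟨hqb.symm, D.u, D.u_sq, D.u_ne_one, D.fix_bC.2 D.u_mem_G0, huq⟩
    have := D.rel_smul (a i) hbase
    rwa [D.fix_bC.2 (ha i)] at this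
  · intro g hg
    by_cases hgN : (⟨g, hg⟩ : D.U) ∈ N
    · exact Or.inl (D.fix_bC.2 hgN)
    · obtain ⟨m, hm, hme⟩ := trans2 g0 ⟨g, hg⟩ hg0 hgN
      exact Or.inr ⟨T.θ ⟨(m : G), hm⟩ j, (hcover (m : G) hm).symm.trans hme⟩
  · show (a j * g0) • D.bC = a j • q
    rw [mul_smul]

/-- the cosets of the nine point orbit -/
def Pts.Mem {D : Two G s} (P : D.Pts) (p : D.Cos) : Prop := p = D.bC ∨ ∃ i, P.e i = p

theorem Pts.closed {D : Two G s} (P : D.Pts) {p r : D.Cos} (hp : P.Mem p) (h : D.Rel p r) : P.Mem r := by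
  classical
  rcases hp with rfl | ⟨i, rfl⟩
  · exact Or.inr ((P.rel r).1 h)
  obtain ⟨x, hx⟩ := D.exists_rep (P.e i)
  have hnb : ∀ k, k ≠ i → D.Rel (P.e i) (P.e k) := by
    intro k hk
    obtain ⟨v, hvA, hv2, hv1, hvi, hvk⟩ := EightModel.exists_double i k
    obtain ⟨g, hg, hgv⟩ := P.T.exists_lift hvA
    refine ⟨fun e => hk (P.inj e).symm, g, ?_, fun e => hv1 ?_, ?_, ?_⟩
    · exact congrArg Subtype.val (P.T.inj (a₁ := ⟨g, hg⟩ * ⟨g, hg⟩) (a₂ := 1) (by rw [map_mul, map_one, hgv, hv2]))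
    · rw [← hgv, show (⟨g, hg⟩ : D.G0) = 1 from Subtype.ext e, map_one]
    · rw [P.equivariant g hg, hgv, hvi]
    · rw [P.equivariant g hg, hgv, hvk]
  have hb : D.Rel (P.e i) D.bC := by
    obtain ⟨hne, v, a, b, c, d⟩ := (P.rel _).2 ⟨i, rfl⟩
    exact ⟨hne.symm, v, a, b, d, c⟩
  let c : Fin 8 → D.Cos := fun k => if k = i then D.bC else P.e k
  have hcinj : Function.Injective c := by
    intro k l e
    have hne : ∀ k, P.e k ≠ D.bC := fun k e => ((P.rel _).2 ⟨k, rfl⟩).1 e.symm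
    by_cases hk : k = i <;> by_cases hl : l = i <;> simp only [c, hk, hl, if_true, if_false] at e
    · exact hk.trans hl.symm
    · exact absurd e.symm (hne l)
    · exact absurd e (hne k)
    · exact P.inj e
  have hc : ∀ k, ∃ l, x • P.e l = c k := by
    intro k
    have hrel : D.Rel (P.e i) (c k) := by
      by_cases hk : k = i
      · simpa [c, hk] using hb
      · simpa [c, hk] using hnb k hk
    have := D.rel_smul x⁻¹ hrel
    rw [← hx, inv_smul_smul] at this
    obtain ⟨l, hl⟩ := (P.rel _).1 this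
    exact ⟨l, by rw [hl, smul_inv_smul]⟩
  choose f hf using hc
  have hfinj : Function.Injective f := fun k l e => hcinj (by rw [← hf k, ← hf l, e])
  obtain ⟨l, hl⟩ := (P.rel _).1 (show D.Rel D.bC (x⁻¹ • r) by
    have := D.rel_smul x⁻¹ h
    rwa [← hx, inv_smul_smul] at this)
  obtain ⟨k, rfl⟩ := (Finite.injective_iff_surjective.1 hfinj) l
  have hr : r = c k := by rw [← hf k, hl, smul_inv_smul]
  by_cases hk : k = i
  · exact Or.inl (by simpa [c, hk] using hr)
  · exact Or.inr ⟨k, by simpa [c, hk] using hr.symm⟩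

theorem Pts.nine {D : Two G s} (P : D.Pts) : Nonempty (G ≃* alternatingGroup (Fin 9)) := by
  classical
  let o : Option (Fin 8) → {p : D.Cos // P.Mem p} := fun i => i.elim ⟨D.bC, Or.inl rfl⟩ fun k => ⟨P.e k, Or.inr ⟨k, rfl⟩⟩
  have ho : Function.Bijective o := by
    refine ⟨?_, ?_⟩
    · have hne : ∀ k, P.e k ≠ D.bC := fun k e => ((P.rel _).2 ⟨k, rfl⟩).1 e.symm
      rintro (_ | k) (_ | l) e
      · rfl
      · exact absurd (congrArg Subtype.val e).symm (hne l)
      · exact absurd (congrArg Subtype.val e) (hne k)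
      · exact congrArg some (P.inj (congrArg Subtype.val e))
    · rintro ⟨p, rfl | ⟨k, rfl⟩⟩
      · exact ⟨none, rfl⟩
      · exact ⟨some k, rfl⟩
  let G1 : Subgroup G :=
    { carrier := {g | ∀ p, P.Mem (g • p) ↔ P.Mem p}
      one_mem' := fun p => by rw [one_smul]
      mul_mem' := fun ha hb p => by rw [mul_smul]; exact (ha _).trans (hb p)
      inv_mem' := fun {a} ha p => by rw [← ha (a⁻¹ • p), smul_inv_smul] }
  have hG1 : ∀ g : G, P.Mem (g • D.bC) → g ∈ G1 := by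
    intro g h
    have hsub : ∀ p, P.Mem p → P.Mem (g • p) := by
      rintro p (rfl | ⟨i, rfl⟩)
      · exact h
      · exact P.closed h (D.rel_smul g ((P.rel _).2 ⟨i, rfl⟩))
    intro p
    refine ⟨fun hp => ?_, hsub p⟩
    let f : {p : D.Cos // P.Mem p} → {p : D.Cos // P.Mem p} := fun r => ⟨g • r.1, hsub r.1 r.2⟩
    have hf : Function.Surjective f := Finite.surjective_of_injective fun a b e =>
      Subtype.ext (smul_left_cancel g (congrArg Subtype.val e))
    obtain ⟨r, hr⟩ := hf ⟨_, hp⟩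
    exact smul_left_cancel g (congrArg Subtype.val hr) ▸ r.2
  have h0 : D.G0 ≤ G1 := fun g hg => hG1 g (Or.inl (D.fix_bC.2 hg))
  have hU : D.U ≤ G1 := fun g hg => hG1 g ((P.orbit g hg).imp_left id)
  have hbase : ∀ g ∈ G1, P.Mem (g • D.bC) := fun g hg => (hg _).2 (Or.inl rfl)
  have htr : ∀ p, P.Mem p → ∃ g ∈ G1, g • D.bC = p := by
    rintro p (rfl | ⟨k, rfl⟩)
    · exact ⟨1, one_mem _, one_smul _ _⟩
    · obtain ⟨g, i, hgi⟩ := P.moved
      obtain ⟨x, hxA, hxi⟩ := alt_move k i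
      obtain ⟨c, hc, hce⟩ := P.T.exists_lift hxA
      refine ⟨c * g, mul_mem (h0 hc) (hG1 g (Or.inr ⟨i, hgi.symm⟩)), ?_⟩
      rw [mul_smul, hgi, P.equivariant c hc, hce, hxi]
  let χ : G1 →* Equiv.Perm {p : D.Cos // P.Mem p} :=
    { toFun := fun g => (MulAction.toPerm (g : G)).subtypePerm g.2
      map_one' := Equiv.ext fun p => Subtype.ext (one_smul G p.1)
      map_mul' := fun g h => Equiv.ext fun p => Subtype.ext (mul_smul (g : G) (h : G) p.1) }
  have hχ : Function.Injective χ := by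
    rw [injective_iff_map_eq_one]
    intro g hg
    have hfix : ∀ p, P.Mem p → (g : G) • p = p := fun p hp =>
      congrArg (fun π : Equiv.Perm {p : D.Cos // P.Mem p} => ((π ⟨p, hp⟩ : {p : D.Cos // P.Mem p}) : D.Cos)) hg
    have hg0 := D.fix_bC.1 (hfix _ (Or.inl rfl))
    refine Subtype.ext (congrArg Subtype.val (P.T.inj (a₁ := ⟨(g : G), hg0⟩) (a₂ := 1) ?_) :)
    rw [map_one]
    refine Equiv.ext fun i => P.inj ?_
    rw [← P.equivariant _ hg0]
    exact hfix _ (Or.inr ⟨i, rfl⟩)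
  have hcard : Nat.card G1 = 181440 := by
    have horb : MulAction.orbit G1 D.bC = {p | P.Mem p} := by
      ext p
      refine ⟨?_, fun hp => ?_⟩
      · rintro ⟨g, rfl⟩
        exact hbase _ g.2
      · obtain ⟨g, hg, e⟩ := htr p hp
        exact ⟨⟨g, hg⟩, e⟩
    have h := Subgroup.card_mul_index (MulAction.stabilizer G1 D.bC)
    have h9 : ({p | P.Mem p} : Set D.Cos).ncard = 9 := by
      rw [← Nat.card_coe_set_eq]
      exact (Nat.card_eq_of_bijective o ho).symm.trans (by simp)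
    rw [MulAction.index_stabilizer, horb, h9, show MulAction.stabilizer G1 D.bC = D.G0.subgroupOf G1 from
      Subgroup.ext fun x => D.fix_bC, Nat.card_congr (Subgroup.subgroupOfEquivOfLe h0).toEquiv, D.card_G0] at h
    exact h.symm
  let E : Fin 9 ≃ {p : D.Cos // P.Mem p} := (finSuccEquiv 8).trans (Equiv.ofBijective o ho)
  let χ9 : G1 →* Equiv.Perm (Fin 9) := E.symm.permCongrHom.toMonoidHom.comp χ
  have hχ9 : Function.Injective χ9 := E.symm.permCongrHom.injective.comp hχ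
  have hrange : χ9.range = alternatingGroup (Fin 9) := by
    refine Equiv.Perm.eq_alternatingGroup_of_index_eq_two ?_
    have h := Subgroup.card_mul_index χ9.range
    have hc : Nat.card χ9.range = 181440 := by
      rw [← Nat.card_congr (MonoidHom.ofInjective hχ9).toEquiv, hcard]
    rw [hc, Nat.card_perm, Nat.card_fin] at h
    change 181440 * χ9.range.index = 362880 at h
    omega
  have htop : G1 = ⊤ := by
    refine D.top_of_closed h0 hU fun v hv h2 h1 => ?_
    obtain ⟨i, hi⟩ : ∃ i, χ9 ⟨v, hv⟩ i = i := by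
      by_contra hno
      push Not at hno
      have hp2 : (χ9 ⟨v, hv⟩) ^ 2 = 1 := by
        rw [pow_two, ← map_mul, show (⟨v, hv⟩ : G1) * ⟨v, hv⟩ = 1 from Subtype.ext h2, map_one]
      obtain ⟨i, hi⟩ := Equiv.Perm.exists_fixed_point_of_prime (p := 2) (n := 1) (σ := χ9 ⟨v, hv⟩) (by simp) hp2
      exact hno i hi
    have hfix : v • (E i).1 = (E i).1 := by
      have h' : χ ⟨v, hv⟩ (E i) = E i := E.symm.injective (by
        have : E.symm (χ ⟨v, hv⟩ (E i)) = i := hi
        rw [this, Equiv.symm_apply_apply])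
      exact congrArg Subtype.val h'
    obtain ⟨g, hg, hge⟩ := htr _ (E i).2
    refine ⟨g, hg, D.fix_bC.1 ?_⟩
    rw [mul_smul, mul_smul, hge, hfix, ← hge, inv_smul_smul]
  exact ⟨(Subgroup.topEquiv.symm.trans (MulEquiv.subgroupCongr htop.symm)).trans
    ((MonoidHom.ofInjective hχ9).trans (MulEquiv.subgroupCongr hrange))⟩

include D in
/-- the groups with exactly two lines of conjugates of `s` -/
theorem classify : Nonempty (G ≃* alternatingGroup (Fin 8)) ∨ Nonempty (G ≃* alternatingGroup (Fin 9)) := by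
  by_cases hU : D.U ≤ D.G0
  · left
    have htop : D.G0 = ⊤ := D.top_of_closed le_rfl hU fun v hv _ _ => ⟨1, one_mem _, by simpa using hv⟩
    obtain ⟨φ⟩ := D.exists_equiv_alt
    exact ⟨(Subgroup.topEquiv.symm.trans (MulEquiv.subgroupCongr htop.symm)).trans φ⟩
  · obtain ⟨P⟩ := D.exists_pts hU
    exact Or.inr P.nine

end Two

end CfsgLib.ExtraSpS3
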