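import Cfsg.Agent.Lib.ExtraSpS3.UCent
import Cfsg.Agent.Lib.MTwelveCent.Centre

/-!
The structure of the centraliser `U`: it is small, or modulo a normal four group it is `Sym 5`.
-/
set_option autoImplicit false
set_option maxRecDepth 10000

namespace CfsgLib.ExtraSpS3

/-- an element of odd order moving an element only within a pair fixes it -/
theorem odd_pair {X : Type*} [Group X] {p v c : X} (ho : Odd (orderOf p)) (hpc : p * c = c * p)
    (hc : c * c = 1) (h : p * v * p⁻¹ = v ∨ p * v * p⁻¹ = v * c) : p * v = v * p := by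
  rcases h with h | h
  · exact mul_inv_eq_iff_eq_mul.1 h
  · have h2 : p ^ 2 * v = v * p ^ 2 := by
      refine mul_inv_eq_iff_eq_mul.1 ?_
      calc p ^ 2 * v * (p ^ 2)⁻¹ = p * (p * v * p⁻¹) * p⁻¹ := by rw [pow_two]; group
        _ = p * (v * c) * p⁻¹ := by rw [h]
        _ = p * v * p⁻¹ * (p * c * p⁻¹) := by group
        _ = v * (c * c) := by rw [h, hpc, mul_inv_cancel_right, mul_assoc]
        _ = v := by rw [hc, mul_one]
    obtain ⟨k, hk⟩ := ho
    have hp : (p ^ 2) ^ (k + 1) = p := by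
      rw [← pow_mul, show 2 * (k + 1) = orderOf p + 1 by omega, pow_succ, pow_orderOf_eq_one, one_mul]
    have := (show Commute (p ^ 2) v from h2).pow_left (k + 1)
    rw [hp] at this
    exact this.eq

namespace Two

variable {G : Type*} [Group G] [Finite G] {s : G} (D : Two G s)

/-- the second involution of the normal four group -/
def v9 : G := D.F.el 99

theorem el105 : D.F.el 105 = D.v9 * D.u := by
  rw [show (105 : ℕ) = mulS false 99 10 by decide +kernel, D.F.el_mul (by omega) (by omega)]; rfl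

theorem conj_u_mul {g : G} (hg : g ∈ D.U) (x : G) : g * (x * D.u) * g⁻¹ = g * x * g⁻¹ * D.u := by
  conv_rhs => rw [← D.conj_u hg]
  group

theorem sT_iff {m : ℕ} (hm : m < 192) (h7 : kind m < 7) : sT m = true ↔ IsConj s (D.F.el m) := by
  rw [D.isConj_iff_kind hm h7]
  simp [sT, or_assoc]

instance : (Subgroup.zpowers (⟨D.u, D.mem_U.2 rfl⟩ : D.U)).Normal := by
  refine ⟨fun n hn g => ?_⟩
  obtain ⟨k, rfl⟩ := Subgroup.mem_zpowers_iff.1 hn
  have hc : Commute g (⟨D.u, D.mem_U.2 rfl⟩ : D.U) := Subtype.ext (D.mem_U.1 g.2)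
  rw [(hc.zpow_right k).eq, mul_inv_cancel_right]
  exact hn

theorem mk_u_eq (a b : D.U) :
    (QuotientGroup.mk' (Subgroup.zpowers (⟨D.u, D.mem_U.2 rfl⟩ : D.U)) : D.U → _) a =
        QuotientGroup.mk' (Subgroup.zpowers (⟨D.u, D.mem_U.2 rfl⟩ : D.U)) b ↔
      (b : G) = a ∨ (b : G) = (a : G) * D.u := by
  rw [QuotientGroup.mk'_apply, QuotientGroup.mk'_apply, QuotientGroup.eq]
  constructor
  · intro h
    obtain ⟨k, hk⟩ := Subgroup.mem_zpowers_iff.1 h
    have hk' : D.u ^ k = (a : G)⁻¹ * b := by simpa using congrArg (fun z : D.U => (z : G)) hk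
    have h2 : D.u ^ (2 : ℤ) = 1 := by rw [show (2 : ℤ) = ((2 : ℕ) : ℤ) from rfl, zpow_natCast, pow_two, D.u_sq]
    rcases Int.even_or_odd' k with ⟨i, rfl | rfl⟩
    · rw [zpow_mul, h2, one_zpow] at hk'
      exact Or.inl (inv_mul_eq_one.1 hk'.symm).symm
    · rw [zpow_add, zpow_mul, h2, one_zpow, one_mul, zpow_one] at hk'
      exact Or.inr (by rw [hk', mul_inv_cancel_left])
  · rintro (h | h)
    · rw [show b = a from Subtype.ext h, inv_mul_cancel]; exact one_mem _
    · exact Subgroup.mem_zpowers_iff.2 ⟨1, Subtype.ext (by simp [h])⟩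

theorem conj_el99 {g : G} (hg : g ∈ D.U) : g * D.v9 * g⁻¹ = D.v9 ∨ g * D.v9 * g⁻¹ = D.v9 * D.u := by
  classical
  haveI : Fact (Nat.Prime 2) := ⟨Nat.prime_two⟩
  set pr := QuotientGroup.mk' (Subgroup.zpowers (⟨D.u, D.mem_U.2 rfl⟩ : D.U)) with hpr
  have hsur : Function.Surjective pr := QuotientGroup.mk'_surjective _
  obtain ⟨P, hP⟩ := D.exists_sylow
  let d : D.U := ⟨D.v9, D.el_mem_U (by omega) (by decide +kernel)⟩
  have h99 : D.v9 * D.v9 = 1 := (D.F.el_sq_iff (by omega)).2 (by decide +kernel)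
  have hd1 : pr d ≠ 1 := fun h => by
    rcases (D.mk_u_eq d 1).1 (h.trans (map_one pr).symm) with e | e
    · exact D.F.el_ne_one (m := 99) (by omega) (by omega) e.symm
    · rw [← D.el105] at e
      exact D.F.el_ne_one (m := 105) (by omega) (by omega) e.symm
  have hd2 : pr d * pr d = 1 := by rw [← map_mul, show d * d = 1 from Subtype.ext h99, map_one]
  have hPmem : ∀ x : D.U, pr x ∈ (P.mapSurjective hsur : Subgroup _) → (x : G) * s = s * x := by
    intro x hx
    rw [Sylow.coe_mapSurjective] at hx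
    obtain ⟨w, hw, hwe⟩ := hx
    have hw' := (hP w).1 hw
    rcases (D.mk_u_eq w x).1 hwe with e | e <;> rw [e]
    · exact hw'
    · rw [mul_assoc, show D.u * s = s * D.u from D.F.el_comm_s (by omega), ← mul_assoc, hw', mul_assoc]
  obtain ⟨N, hN, hNo, hNc⟩ := Cfsg.Agent.S0215.result (P.mapSurjective hsur) (pr d)
    (orderOf_eq_prime (by rw [pow_two, hd2]) hd1)
    (Subgroup.mem_map_of_mem pr ((hP d).2 (D.F.el_comm_s (by omega))))
    (by
      intro x hx
      obtain ⟨y, rfl⟩ := hsur x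
      rw [← map_inv, ← map_mul, ← map_mul] at hx ⊢
      have := D.conj_el99_s y.2 (hPmem _ hx)
      exact ((D.mk_u_eq d (y * d * y⁻¹)).2 this).symm)
  have key : ∀ j ∈ [1, 2, 3], ∀ (hj : D.F.el j ∈ D.U), ∀ o ∈ N, o * pr ⟨D.F.el j, hj⟩ = pr ⟨D.F.el j, hj⟩ * o →
      o = 1 := by
    intro j hj3 hj o ho hoj
    have hodd : Odd (orderOf o) := hNo.of_dvd_nat (Subgroup.orderOf_dvd_natCard _ ho)
    obtain ⟨p, hp, rfl⟩ := odd_lift pr hsur hodd
    have h1 : pr ⟨D.F.el j, hj⟩ = pr (p * ⟨D.F.el j, hj⟩ * p⁻¹) := by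
      rw [map_mul, map_mul, map_inv, hoj, mul_inv_cancel_right]
    have hp' : Odd (orderOf (p : G)) := by rwa [orderOf_submonoid]
    have hpu : (p : G) * D.u = D.u * p := D.mem_U.1 p.2
    have hpj := odd_pair hp' hpu D.u_sq ((D.mk_u_eq _ _).1 h1)
    have hj8 : j < 8 := by simp at hj3; omega
    have hj0 : j ≠ 0 := by simp at hj3; omega
    have hv : IsConj s (D.F.el j) :=
      D.F.isConj_lineE D.hA (D.F.lineE_mem hj8) (D.F.el_ne_one (by omega) hj0)
    have := D.F.odd_cent_trivial hv (x := D.u) D.u_sq D.u_ne_one (fun e => D.not_both hv (by rw [← e]))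
      (D.mem_U.1 hj).symm hp' hpj hpu
    rw [show p = 1 from Subtype.ext this, map_one]
  have hU : ∀ j ∈ [1, 2, 3], D.F.el j ∈ D.U := fun j hj => by
    refine D.el_mem_U (by simp at hj; omega) ?_
    simp only [List.mem_cons, List.not_mem_nil, or_false] at hj
    rcases hj with rfl | rfl | rfl <;> decide +kernel
  have h2 := hU 2 (by simp)
  have h1 := hU 1 (by simp)
  have h3 := hU 3 (by simp)
  have hN1 : N = ⊥ := by
    refine MTwelveCent.eq_bot_of_four hN (v := pr ⟨_, h2⟩) (w := pr ⟨_, h1⟩) ?_ ?_ ?_ (key 2 (by simp) h2)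
      (key 1 (by simp) h1) ?_
    · rw [← map_mul, show (⟨_, h2⟩ : D.U) * ⟨_, h2⟩ = 1 from
        Subtype.ext (D.F.lineE_sq (D.F.lineE_mem (m := 2) (by omega))), map_one]
    · rw [← map_mul, show (⟨_, h1⟩ : D.U) * ⟨_, h1⟩ = 1 from
        Subtype.ext (D.F.lineE_sq (D.F.lineE_mem (m := 1) (by omega))), map_one]
    · rw [← map_mul, ← map_mul]
      exact congrArg pr (Subtype.ext (D.F.lineE_comm (D.F.lineE_mem (by omega)) (D.F.lineE_mem (by omega))))
    · intro o ho e
      refine key 3 (by simp) h3 o ho ?_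
      have e3 : (⟨_, h3⟩ : D.U) = ⟨_, h2⟩ * ⟨_, h1⟩ := Subtype.ext (by
        show D.F.el 3 = D.F.el 2 * D.F.el 1
        rw [← D.F.el_mul (by omega) (by omega)]
        exact congrArg D.F.el (by decide +kernel))
      rw [e3, map_mul]; exact e
  have hc := hNc (pr ⟨g, hg⟩)
  rw [hN1, Subgroup.mem_bot, mul_inv_eq_one, mul_inv_eq_iff_eq_mul] at hc
  have e : pr d = pr (⟨g, hg⟩ * d * (⟨g, hg⟩ : D.U)⁻¹) := by
    rw [map_mul, map_mul, map_inv, ← hc, mul_inv_cancel_right]
  exact (D.mk_u_eq _ _).1 e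

/-- the normal four group of `U` -/
def K : Subgroup D.U := (D.F.sub maskK (by decide +kernel)).subgroupOf D.U

theorem mem_K {w : D.U} : w ∈ D.K ↔ ∃ k ∈ [0, 10, 99, 105], D.F.el k = (w : G) := by
  constructor
  · rintro ⟨m, hm, hb, he⟩
    rw [maskK_iff hm] at hb
    exact ⟨m, by simpa [inK, or_assoc] using hb, he⟩
  · rintro ⟨k, hk, he⟩
    have hk' : k < 192 := by simp at hk; omega
    exact ⟨k, hk', by rw [maskK_iff hk']; simpa [inK, or_assoc] using hk, he⟩

instance : D.K.Normal := by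
  refine ⟨fun n hn g => ?_⟩
  obtain ⟨k, hk, he⟩ := D.mem_K.1 hn
  refine D.mem_K.2 ?_
  show ∃ k ∈ _, D.F.el k = (g : G) * (n : G) * (g : G)⁻¹
  rw [← he]
  simp only [List.mem_cons, List.not_mem_nil, or_false] at hk
  rcases hk with rfl | rfl | rfl | rfl
  · exact ⟨0, by simp, by rw [D.F.el_zero, mul_one, mul_inv_cancel]⟩
  · exact ⟨10, by simp, (D.conj_u g.2).symm⟩
  · rcases D.conj_el99 g.2 with e | e
    · exact ⟨99, by simp, e.symm⟩
    · exact ⟨105, by simp, D.el105.trans e.symm⟩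
  · rw [D.el105, D.conj_u_mul g.2]
    rcases D.conj_el99 g.2 with e | e <;> rw [e]
    · exact ⟨105, by simp, D.el105⟩
    · exact ⟨99, by simp, by rw [mul_assoc, D.u_sq, mul_one]; rfl⟩

theorem card_K : Nat.card D.K = 4 := by
  let f : Fin 4 → D.K := fun i => ⟨⟨D.F.el ([0, 10, 99, 105].get i), D.el_mem_U
      (by fin_cases i <;> simp) (by fin_cases i <;> decide +kernel)⟩,
    D.mem_K.2 ⟨_, List.get_mem _ _, rfl⟩⟩
  have hf : Function.Bijective f := by
    refine ⟨fun a b e => ?_, fun w => ?_⟩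
    · have := D.F.el_inj (by fin_cases a <;> simp) (by fin_cases b <;> simp)
        (congrArg (fun z : D.K => ((z : D.U) : G)) e)
      fin_cases a <;> fin_cases b <;> simp at this ⊢
    · obtain ⟨k, hk, he⟩ := D.mem_K.1 w.2
      obtain ⟨i, rfl⟩ := List.mem_iff_get.1 hk
      exact ⟨i, Subtype.ext (Subtype.ext he)⟩
  rw [← Nat.card_eq_of_bijective f hf, Nat.card_eq_fintype_card, Fintype.card_fin]

/-- the conjugates of `s`, `e₁`, `s e₁` by elements of `U` inside their cosets modulo `K` -/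
theorem conj_coset {j : ℕ} (hj : j ∈ [1, 2, 3]) {g : G} (hg : g ∈ D.U)
    (h : ∃ k ∈ [0, 10, 99, 105], g * D.F.el j * g⁻¹ = D.F.el (mulS false j k)) :
    g * D.F.el j * g⁻¹ = D.F.el j ∨ j ≠ 1 ∧ g * D.F.el j * g⁻¹ = D.F.el j * D.u := by
  obtain ⟨k, hk, he⟩ := h
  have hj192 : j < 192 := by simp at hj; omega
  obtain ⟨a, b, c⟩ := coset_tables j hj k hk
  obtain ⟨a0, b0, -⟩ := coset_tables j hj 0 (by simp)
  rw [show mulS false j 0 = j from D.F.el_inj (mulS_lt false) hj192
    (by rw [D.F.el_mul hj192 (by omega), D.F.el_zero, mul_one])] at a0 b0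
  set m := mulS false j k with hm
  have hm' : m < 192 := mulS_lt false
  have e1 : sT m = sT j := by
    rw [Bool.eq_iff_iff, D.sT_iff hm' a, D.sT_iff hj192 a0]
    exact ⟨fun e => e.trans (isConj_iff.2 ⟨g, he⟩).symm, fun e => e.trans (isConj_iff.2 ⟨g, he⟩)⟩
  have hmu : g * D.F.el (mulS false j 10) * g⁻¹ = D.F.el (mulS false m 10) := by
    rw [D.F.el_mul hm' (by omega), D.F.el_mul hj192 (by omega), ← he]
    exact D.conj_u_mul hg _
  have e2 : sT (mulS false m 10) = sT (mulS false j 10) := by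
    rw [Bool.eq_iff_iff, D.sT_iff (mulS_lt false) b, D.sT_iff (mulS_lt false) b0]
    exact ⟨fun e => e.trans (isConj_iff.2 ⟨g, hmu⟩).symm, fun e => e.trans (isConj_iff.2 ⟨g, hmu⟩)⟩
  rcases c e1 e2 with e | ⟨e, e'⟩
  · exact Or.inl (he.trans (congrArg D.F.el e))
  · refine Or.inr ⟨e, he.trans ?_⟩
    rw [e', D.F.el_mul hj192 (by omega)]
    rfl

/-- a conjugate in the coset modulo `K` -/
theorem coset_of_mk {j : ℕ} (hj : j < 192) (hjU : D.F.el j ∈ D.U) {g : D.U}
    (h : (QuotientGroup.mk (g * ⟨D.F.el j, hjU⟩ * g⁻¹) : D.U ⧸ D.K) = QuotientGroup.mk ⟨D.F.el j, hjU⟩) :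
    ∃ k ∈ [0, 10, 99, 105], (g : G) * D.F.el j * (g : G)⁻¹ = D.F.el (mulS false j k) := by
  obtain ⟨k, hk, he⟩ := D.mem_K.1 (QuotientGroup.eq.1 h.symm)
  refine ⟨k, hk, ?_⟩
  rw [D.F.el_mul hj (by simp at hk; omega), he]
  simp [mul_assoc]

theorem U_cases : Nat.card D.U ≤ 96 ∨
    ∃ ψ : D.U →* Equiv.Perm (Fin 5), Function.Surjective ψ ∧ ψ.ker = D.K := by
  classical
  haveI : Fact (Nat.Prime 2) := ⟨Nat.prime_two⟩
  set q := QuotientGroup.mk' D.K with hq
  have hsur : Function.Surjective q := QuotientGroup.mk'_surjective _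
  obtain ⟨P, hP⟩ := D.exists_sylow
  let s' : D.U := ⟨D.F.el 1, D.el_mem_U (by omega) (by decide +kernel)⟩
  have hs' : (s' : G) = s := D.F.el_one
  have hz1 : q s' ≠ 1 := fun h => by
    obtain ⟨k, hk, he⟩ := D.mem_K.1 ((QuotientGroup.eq_one_iff _).1 h)
    simp only [List.mem_cons, List.not_mem_nil, or_false] at hk
    rcases hk with rfl | rfl | rfl | rfl <;>
      exact absurd (D.F.el_inj (by omega) (by omega) he) (by omega)
  have hz2 : q s' * q s' = 1 := by
    rw [← map_mul, show s' * s' = 1 from Subtype.ext (by simp [hs', D.F.s_sq]), map_one]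
  have hcent : ∀ g : D.U, q g * q s' = q s' * q g → (g : G) * s = s * g := by
    intro g h
    have h' : q (g * s' * g⁻¹) = q s' := by rw [map_mul, map_mul, map_inv, h, mul_inv_cancel_right]
    rcases D.conj_coset (j := 1) (by simp) g.2 (D.coset_of_mk (by omega) s'.2 h') with e | ⟨e, -⟩
    · rw [D.F.el_one] at e
      exact mul_inv_eq_iff_eq_mul.1 e
    · exact absurd rfl e
  -- the centraliser
  have hsym : ∀ w : (P : Subgroup D.U), ∃ m < 192, comS m 10 = true ∧ D.F.el m = ((w : D.U) : G) := fun w => by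
    obtain ⟨m, hm, he⟩ := D.F.surj _ ((hP w).1 w.2)
    exact ⟨m, hm, (D.F.comS_iff hm (by omega)).1 (by rw [he]; exact D.mem_U.1 (w : D.U).2), he⟩
  choose μ hμ hμc hμe using hsym
  let φ : (P : Subgroup D.U) →* DihedralGroup 4 := MonoidHom.mk' (fun w => dCode (μ w)) fun a b => by
    rw [← (dCode_spec (hμ a) (hμc a)).2 _ (hμ b) (hμc b)]
    refine congrArg dCode (D.F.el_inj (hμ _) (mulS_lt false) ?_)
    rw [D.F.el_mul (hμ a) (hμ b), hμe, hμe, hμe]
    rfl
  have hφ : Function.Surjective φ := fun d => by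
    obtain ⟨m, hm, hc, rfl⟩ := dCode_surj d
    refine ⟨⟨⟨D.F.el m, D.el_mem_U hm hc⟩, (hP _).2 (D.F.el_comm_s hm)⟩, congrArg dCode ?_⟩
    exact D.F.el_inj (hμ _) hm (hμe _)
  let C := Subgroup.centralizer ({q s'} : Set (D.U ⧸ D.K))
  let χ : (P : Subgroup D.U) →* C := (q.comp (P : Subgroup D.U).subtype).codRestrict C fun w =>
    Subgroup.mem_centralizer_singleton_iff.2 (by
      show q w * q s' = q s' * q w
      rw [← map_mul, ← map_mul]
      exact congrArg q (Subtype.ext (by simp [hs', (hP w).1 w.2])))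
  have hχ : Function.Surjective χ := by
    rintro ⟨y, hy⟩
    obtain ⟨g, rfl⟩ := hsur y
    exact ⟨⟨g, (hP g).2 (hcent g (Subgroup.mem_centralizer_singleton_iff.1 hy))⟩, rfl⟩
  have hker : φ.ker = χ.ker := by
    ext w
    rw [MonoidHom.mem_ker, MonoidHom.mem_ker, Subtype.ext_iff]
    show dCode (μ w) = 1 ↔ q (w : D.U) = 1
    rw [(dCode_spec (hμ w) (hμc w)).1, hq, QuotientGroup.mk'_apply, QuotientGroup.eq_one_iff, D.mem_K]
    constructor
    · intro h
      exact ⟨μ w, by simpa [inK, or_assoc] using h, hμe w⟩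
    · rintro ⟨k, hk, he⟩
      rw [D.F.el_inj (hμ w) (by simp at hk; omega) ((hμe w).trans he.symm)]
      simpa [inK, or_assoc] using hk
  let e : C ≃* DihedralGroup 4 := ((QuotientGroup.quotientKerEquivOfSurjective χ hχ).symm.trans
    (QuotientGroup.quotientMulEquivOfEq hker.symm)).trans (QuotientGroup.quotientKerEquivOfSurjective φ hφ)
  have hcard : Nat.card D.U = Nat.card (D.U ⧸ D.K) * 4 := by
    rw [Subgroup.card_eq_card_quotient_mul_card_subgroup D.K, D.card_K]
  have hC8 : Nat.card C = 8 := by rw [Nat.card_congr e.toEquiv, DihedralGroup.nat_card]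
  -- no odd core
  have hcore : Cfsg.oddCore (D.U ⧸ D.K) = ⊥ := by
    have key : ∀ j ∈ [1, 2, 3], ∀ (hj : D.F.el j ∈ D.U), ∀ o : D.U ⧸ D.K, Odd (orderOf o) →
        o * q ⟨D.F.el j, hj⟩ = q ⟨D.F.el j, hj⟩ * o → o = 1 := by
      intro j hj3 hj o ho hoj
      obtain ⟨p, hp, rfl⟩ := odd_lift q hsur ho
      have h1 : q (p * ⟨D.F.el j, hj⟩ * p⁻¹) = q ⟨D.F.el j, hj⟩ := by
        rw [map_mul, map_mul, map_inv, hoj, mul_inv_cancel_right]
      have hp' : Odd (orderOf (p : G)) := by rwa [orderOf_submonoid]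
      have hpu : (p : G) * D.u = D.u * p := D.mem_U.1 p.2
      have hj8 : j < 8 := by simp at hj3; omega
      have hj0 : j ≠ 0 := by simp at hj3; omega
      have hpj := odd_pair hp' hpu D.u_sq
        ((D.conj_coset hj3 p.2 (D.coset_of_mk (by omega) hj h1)).imp_right And.right)
      have hv : IsConj s (D.F.el j) :=
        D.F.isConj_lineE D.hA (D.F.lineE_mem hj8) (D.F.el_ne_one (by omega) hj0)
      have := D.F.odd_cent_trivial hv (x := D.u) D.u_sq D.u_ne_one (fun e => D.not_both hv (by rw [← e]))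
        (D.mem_U.1 hj).symm hp' hpj hpu
      rw [show p = 1 from Subtype.ext this, map_one]
    have hcop : ∀ o ∈ Cfsg.oddCore (D.U ⧸ D.K), Odd (orderOf o) := fun o ho =>
      Nat.not_even_iff_odd.1 fun h => CfsgLib.PCore.not_dvd_card_pPrimeCore
        ((even_iff_two_dvd.1 h).trans (Subgroup.orderOf_dvd_natCard _ ho))
    have h2 := D.el_mem_U (m := 2) (by omega) (by decide +kernel)
    have h1 := D.el_mem_U (m := 1) (by omega) (by decide +kernel)
    have h3 := D.el_mem_U (m := 3) (by omega) (by decide +kernel)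
    refine MTwelveCent.eq_bot_of_four inferInstance (v := q ⟨_, h2⟩) (w := q ⟨_, h1⟩) ?_ ?_ ?_
      (fun o ho => key 2 (by simp) h2 o (hcop o ho)) (fun o ho => key 1 (by simp) h1 o (hcop o ho)) ?_
    · rw [← map_mul, show (⟨_, h2⟩ : D.U) * ⟨_, h2⟩ = 1 from
        Subtype.ext (D.F.lineE_sq (D.F.lineE_mem (m := 2) (by omega))), map_one]
    · exact hz2
    · rw [← map_mul, ← map_mul]
      exact congrArg q (Subtype.ext (D.F.lineE_comm (D.F.lineE_mem (by omega)) (D.F.lineE_mem (by omega))))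
    · intro o ho h
      refine key 3 (by simp) h3 o (hcop o ho) ?_
      have e3 : (⟨_, h3⟩ : D.U) = ⟨_, h2⟩ * ⟨_, h1⟩ := Subtype.ext (by
        show D.F.el 3 = D.F.el 2 * D.F.el 1
        rw [← D.F.el_mul (by omega) (by omega)]
        exact congrArg D.F.el (by decide +kernel))
      rw [e3, map_mul]; exact h
  rcases Cfsg.Agent.S3035.result (q s') (orderOf_eq_prime (by rw [pow_two, hz2]) hz1) ⟨e⟩ with
    h | ⟨⟨f⟩⟩ | ⟨⟨f⟩⟩ | hbig
  · left
    rw [hcore, sup_bot_eq] at h
    rw [hcard, ← Subgroup.card_top, ← h]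
    exact le_trans (le_of_eq (congrArg (· * 4) hC8)) (by norm_num)
  · left
    rw [hcard, Nat.card_congr f.toEquiv, Nat.card_perm, Nat.card_fin]
    decide
  · exact Or.inr ⟨f.toMonoidHom.comp q, f.surjective.comp hsur,
      (MonoidHom.ker_mulEquiv_comp q f).trans (QuotientGroup.ker_mk' _)⟩
  exfalso
  have hYs : IsSimpleGroup (D.U ⧸ D.K) ∧ 2 < Nat.card (D.U ⧸ D.K) ∧ (Nat.card (D.U ⧸ D.K)).factorization 2 = 3 := by
    have f168 : (168 : ℕ).factorization 2 = 3 := by
      rw [show (168 : ℕ) = 2 ^ 3 * 21 from rfl, Nat.factorization_mul (by norm_num) (by norm_num),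
        Finsupp.coe_add, Pi.add_apply, Nat.Prime.factorization_pow Nat.prime_two, Finsupp.single_eq_same,
        Nat.factorization_eq_zero_of_not_dvd (by norm_num : ¬ 2 ∣ 21)]
    have f360 : (360 : ℕ).factorization 2 = 3 := by
      rw [show (360 : ℕ) = 2 ^ 3 * 45 from rfl, Nat.factorization_mul (by norm_num) (by norm_num),
        Finsupp.coe_add, Pi.add_apply, Nat.Prime.factorization_pow Nat.prime_two, Finsupp.single_eq_same,
        Nat.factorization_eq_zero_of_not_dvd (by norm_num : ¬ 2 ∣ 45)]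
    rcases hbig with ⟨⟨f⟩⟩ | ⟨⟨f⟩⟩
    · haveI := FischerTwoFour.sl32_simple
      haveI := f.toEquiv.nontrivial
      refine ⟨IsSimpleGroup.isSimpleGroup_of_surjective f.symm.toMonoidHom f.symm.surjective, ?_, ?_⟩ <;>
        rw [Nat.card_congr f.toEquiv, CfsgLib.DimThreeMax.card_sl32]
      · norm_num
      · exact f168
    · haveI := alternatingGroup.isSimpleGroup (α := Fin 6) (by rw [Nat.card_fin]; omega)
      haveI := f.toEquiv.nontrivial
      have h6 : Nat.card (alternatingGroup (Fin 6)) = 360 := by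
        rw [nat_card_alternatingGroup, Nat.card_fin]; decide
      refine ⟨IsSimpleGroup.isSimpleGroup_of_surjective f.symm.toMonoidHom f.symm.surjective, ?_, ?_⟩ <;>
        rw [Nat.card_congr f.toEquiv, h6]
      · norm_num
      · exact f360
  let S : Sylow 2 (D.U ⧸ D.K) := Sylow.ofCard C (by rw [hC8, hYs.2.2]; norm_num)
  let R : Subgroup (DihedralGroup 4) := Subgroup.zpowers (DihedralGroup.r 1)
  let Q : Subgroup (D.U ⧸ D.K) := (R.comap e.toMonoidHom).map C.subtype
  have hQC : Q ≤ C := Subgroup.map_subtype_le _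
  have hQi : Q.relIndex (S : Subgroup _) = 2 := by
    show (Q.subgroupOf C).index = 2
    have hQs : Q.subgroupOf C = R.comap e.toMonoidHom :=
      Subgroup.comap_map_eq_self_of_injective C.subtype_injective _
    rw [hQs, Subgroup.index_comap_of_surjective _ (f := e.toMonoidHom) e.surjective]
    have := Subgroup.card_mul_index R
    rw [Nat.card_zpowers, DihedralGroup.orderOf_r_one, DihedralGroup.nat_card] at this
    omega
  have hd : ∀ i : ZMod 4, DihedralGroup.r i * DihedralGroup.r i = 1 → DihedralGroup.r i ≠ 1 →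
      DihedralGroup.r i = dCode 1 := by decide +kernel
  have hval : ∀ (m : ℕ) (hm : m < 192) (hc : comS m 10 = true) (hy : q ⟨D.F.el m, D.el_mem_U hm hc⟩ ∈ C),
      e ⟨_, hy⟩ = dCode m := by
    intro m hm hc hy
    have hw : (⟨D.F.el m, D.el_mem_U hm hc⟩ : D.U) ∈ (P : Subgroup D.U) := (hP _).2 (D.F.el_comm_s hm)
    have e1 : (QuotientGroup.quotientKerEquivOfSurjective χ hχ).symm ⟨_, hy⟩ =
        QuotientGroup.mk ⟨_, hw⟩ := by
      rw [MulEquiv.symm_apply_eq]; exact Subtype.ext rfl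
    show (QuotientGroup.quotientKerEquivOfSurjective φ hφ)
      ((QuotientGroup.quotientMulEquivOfEq hker.symm) ((QuotientGroup.quotientKerEquivOfSurjective χ hχ).symm ⟨_, hy⟩)) = _
    rw [e1]
    show dCode (μ ⟨_, hw⟩) = _
    exact congrArg dCode (D.F.el_inj (hμ _) hm (hμe _))
  have hsC : q s' ∈ C := Subgroup.mem_centralizer_singleton_iff.2 rfl
  have hcS : comS 20 10 = true := by decide +kernel
  have hwC : q ⟨D.F.el 20, D.el_mem_U (by omega) hcS⟩ ∈ C := Subgroup.mem_centralizer_singleton_iff.2 (by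
    rw [← map_mul, ← map_mul]
    exact congrArg q (Subtype.ext (by simp [hs', D.F.el_comm_s (m := 20) (by omega)])))
  have hQz : ∀ x ∈ Q, x * x = 1 → x ≠ 1 → x = q s' := by
    rintro _ ⟨x, hx, rfl⟩ hx2 hx1
    obtain ⟨i, hi⟩ := Subgroup.mem_zpowers_iff.1 (show e x ∈ R from hx)
    rw [DihedralGroup.r_one_zpow] at hi
    have h2 : e x * e x = 1 := by
      rw [← map_mul, show x * x = 1 from Subtype.ext hx2, map_one]
    have h1 : e x ≠ 1 := fun h => hx1 (by rw [e.map_eq_one_iff.1 h]; rfl)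
    rw [← hi] at h2 h1
    have := e.injective ((hi.symm.trans (hd _ h2 h1)).trans (hval 1 (by omega) (by decide +kernel) hsC).symm)
    exact congrArg Subtype.val this
  have hne : DihedralGroup.r 1 ≠ (1 : DihedralGroup 4) := by decide +kernel
  obtain ⟨y, hy⟩ := isConj_iff.1 (isConj_of_transfer hYs.1 hYs.2.1 S Q hQC hQi hQz
    (w := q ⟨D.F.el 20, D.el_mem_U (by omega) hcS⟩)
    (by rw [← map_mul, show (⟨D.F.el 20, D.el_mem_U (by omega) hcS⟩ : D.U) * ⟨_, D.el_mem_U (by omega) hcS⟩ = 1 from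
      Subtype.ext ((D.F.el_sq_iff (by omega)).2 (by decide +kernel)), map_one])
    (fun h => by
      have h' := hval 20 (by omega) hcS hwC
      rw [show (⟨_, hwC⟩ : C) = 1 from Subtype.ext h, map_one] at h'
      exact absurd h' (by decide +kernel))
    hwC
    (fun h => by
      obtain ⟨x, hx, hxe⟩ := h
      obtain ⟨i, hi⟩ := Subgroup.mem_zpowers_iff.1 (show e x ∈ R from hx)
      rw [show x = ⟨_, hwC⟩ from Subtype.ext hxe, hval 20 (by omega) hcS hwC, DihedralGroup.r_one_zpow] at hi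
      have : ∀ i : ZMod 4, DihedralGroup.r i ≠ dCode 20 := by decide +kernel
      exact this _ hi))
  obtain ⟨g, rfl⟩ := hsur y
  rw [← map_inv, ← map_mul, ← map_mul] at hy
  obtain ⟨k, hk, hke⟩ := D.mem_K.1 (QuotientGroup.eq.1 hy.symm)
  have hke' : (g : G) * s * (g : G)⁻¹ = D.F.el (mulS false 20 k) := by
    rw [D.F.el_mul (by omega) (by simp at hk; omega), hke]
    simp [hs', mul_assoc]
  have hd20 : [0, 10, 99, 105].all (fun k => decide (7 ≤ kind (mulS false 20 k)) || !sT (mulS false 20 k)) = true := by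
    decide +kernel
  have h := List.all_eq_true.1 hd20 k hk
  rw [Bool.or_eq_true, decide_eq_true_eq, Bool.not_eq_true'] at h
  have h7 := (D.F.el_sq_iff (mulS_lt false)).1 (hke' ▸ conj_sq D.F.s_sq (g : G))
  rw [(D.sT_iff (mulS_lt false) h7).2 (isConj_iff.2 ⟨(g : G), hke'⟩)] at h
  simp at h
  omega

end Two

end CfsgLib.ExtraSpS3
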