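import Cfsg.Agent.Lib.ExtraSpS3.Eight
import Cfsg.Agent.Lib.ExtraSpS3.AltFacts
import Cfsg.Agent.Lib.ExtraSpS3.UStruct

/-!
The action on the cosets of the alternating subgroup of degree eight: involutions and their fixed points.
-/
set_option autoImplicit false
set_option maxRecDepth 10000

namespace CfsgLib.ExtraSpS3

open EightModel (P8 w2 w4 IsTwo)

namespace Two

variable {G : Type*} [Group G] [Finite G] {s : G} (D : Two G s)

/-- the cosets of the alternating subgroup -/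
abbrev Cos : Type _ := G ⧸ D.G0

/-- the base coset -/
def bC : D.Cos := QuotientGroup.mk 1

theorem fix_bC {g : G} : g • D.bC = D.bC ↔ g ∈ D.G0 := by
  show (QuotientGroup.mk (g * 1) : D.Cos) = QuotientGroup.mk 1 ↔ _
  rw [QuotientGroup.eq, mul_one, mul_one, inv_mem_iff]

theorem exists_rep (p : D.Cos) : ∃ g : G, g • D.bC = p := by
  obtain ⟨g, rfl⟩ := QuotientGroup.mk_surjective p
  exact ⟨g, congrArg QuotientGroup.mk (mul_one g)⟩

theorem u_mem_G0 : D.u ∈ D.G0 := D.cent_le_G0 (D.F.el_comm_s (by omega))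

theorem s_mem_G0 : s ∈ D.G0 := D.cent_le_G0 rfl

/-- labels of the alternating subgroup sending `u` to a double transposition -/
structure Theta where
  /-- the labelling -/
  θ : D.G0 →* P8
  inj : Function.Injective θ
  range_iff : ∀ x, x ∈ alternatingGroup (Fin 8) ↔ ∃ g, θ g = x
  u_eq : θ ⟨D.u, D.u_mem_G0⟩ = w2

theorem exists_theta : Nonempty D.Theta := by
  classical
  obtain ⟨φ⟩ := D.exists_equiv_alt
  let θ0 : D.G0 →* P8 := (alternatingGroup (Fin 8)).subtype.comp φ.toMonoidHom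
  have hinj : Function.Injective θ0 := Subtype.val_injective.comp φ.injective
  have hrange : ∀ x, x ∈ alternatingGroup (Fin 8) ↔ ∃ g, θ0 g = x := fun x =>
    ⟨fun h => ⟨φ.symm ⟨x, h⟩, by simp [θ0]⟩, fun ⟨g, e⟩ => e ▸ (φ g).2⟩
  have hinv : ∀ v : G, ∀ hv : v ∈ D.G0, v * v = 1 → v ≠ 1 →
      IsTwo (θ0 ⟨v, hv⟩) ∨ ∃ g ∈ alternatingGroup (Fin 8), g * w4 * g⁻¹ = θ0 ⟨v, hv⟩ := fun v hv h2 h1 =>
    EightModel.alt_invol ((hrange _).2 ⟨_, rfl⟩)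
      (by rw [← map_mul, show (⟨v, hv⟩ : D.G0) * ⟨v, hv⟩ = 1 from Subtype.ext h2, map_one])
      (fun e => h1 (congrArg Subtype.val (hinj (e.trans (map_one θ0).symm))))
  obtain ⟨a, ha, hsa⟩ : ∃ g ∈ alternatingGroup (Fin 8), g * w4 * g⁻¹ = θ0 ⟨s, D.s_mem_G0⟩ := by
    refine (hinv s D.s_mem_G0 D.F.s_sq D.F.s_ne).resolve_left ?_
    rintro ⟨g, hg, hgs⟩
    let f : Subgroup.centralizer ({s} : Set G) → {p : P8 // p ∈ alternatingGroup (Fin 8) ∧ p * w2 = w2 * p} :=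
      fun c => ⟨g⁻¹ * θ0 ⟨c, D.cent_le_G0 (Subgroup.mem_centralizer_singleton_iff.1 c.2)⟩ * g,
        mul_mem (mul_mem (inv_mem hg) ((hrange _).2 ⟨_, rfl⟩)) hg, by
          have h : θ0 ⟨(c : G), D.cent_le_G0 (Subgroup.mem_centralizer_singleton_iff.1 c.2)⟩ * θ0 ⟨s, D.s_mem_G0⟩ =
              θ0 ⟨s, D.s_mem_G0⟩ * θ0 ⟨(c : G), D.cent_le_G0 (Subgroup.mem_centralizer_singleton_iff.1 c.2)⟩ := by
            rw [← map_mul, ← map_mul]
            exact congrArg θ0 (Subtype.ext (Subgroup.mem_centralizer_singleton_iff.1 c.2))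
          rw [← hgs] at h
          set t := θ0 ⟨(c : G), D.cent_le_G0 (Subgroup.mem_centralizer_singleton_iff.1 c.2)⟩
          calc g⁻¹ * t * g * w2 = g⁻¹ * (t * (g * w2 * g⁻¹)) * g := by group
            _ = g⁻¹ * (g * w2 * g⁻¹ * t) * g := by rw [h]
            _ = w2 * (g⁻¹ * t * g) := by group⟩
    have hf : Function.Injective f := fun c d e => by
      have e' := congrArg Subtype.val e
      simp only [f, mul_left_inj, mul_right_inj] at e'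
      exact Subtype.ext (congrArg Subtype.val (hinj e') :)
    have := Nat.card_le_card_of_injective f hf
    rw [D.F.card_centralizer, EightModel.card_cent_two] at this
    omega
  obtain ⟨g, hg, hgu⟩ : IsTwo (θ0 ⟨D.u, D.u_mem_G0⟩) := by
    refine (hinv D.u D.u_mem_G0 D.u_sq D.u_ne_one).resolve_right ?_
    rintro ⟨g, hg, hgu⟩
    obtain ⟨⟨x, hx⟩, hxe⟩ := (hrange _).1 (mul_mem hg (inv_mem ha))
    refine D.not_both (v := D.u) (isConj_iff.2 ⟨x, ?_⟩) (IsConj.refl _)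
    refine congrArg Subtype.val (hinj (a₁ := ⟨x, hx⟩ * ⟨s, D.s_mem_G0⟩ * (⟨x, hx⟩ : D.G0)⁻¹)
      (a₂ := ⟨D.u, D.u_mem_G0⟩) ?_)
    rw [map_mul, map_mul, map_inv, hxe, ← hsa, ← hgu]
    group
  refine ⟨⟨(MulAut.conj g⁻¹).toMonoidHom.comp θ0, (MulAut.conj g⁻¹).injective.comp hinj, fun x => ⟨fun hx => ?_, ?_⟩,
    ?_⟩⟩
  · obtain ⟨y, hy⟩ := (hrange _).1 (mul_mem (mul_mem hg hx) (inv_mem hg))
    refine ⟨y, ?_⟩
    show g⁻¹ * θ0 y * g⁻¹⁻¹ = x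
    rw [hy]; group
  · rintro ⟨y, rfl⟩
    exact mul_mem (mul_mem (inv_mem hg) ((hrange _).2 ⟨y, rfl⟩)) (inv_mem (inv_mem hg))
  · show g⁻¹ * θ0 ⟨D.u, _⟩ * g⁻¹⁻¹ = w2
    rw [← hgu]; group

variable {D}

theorem Theta.exists_lift (T : D.Theta) {x : P8} (hx : x ∈ alternatingGroup (Fin 8)) :
    ∃ (g : G) (hg : g ∈ D.G0), T.θ ⟨g, hg⟩ = x := by
  obtain ⟨⟨g, hg⟩, e⟩ := (T.range_iff x).1 hx
  exact ⟨g, hg, e⟩

theorem Theta.map_conj (T : D.Theta) {a x : G} (ha : a ∈ D.G0) (hx : x ∈ D.G0) :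
    T.θ ⟨a * x * a⁻¹, mul_mem (mul_mem ha hx) (inv_mem ha)⟩ = T.θ ⟨a, ha⟩ * T.θ ⟨x, hx⟩ * (T.θ ⟨a, ha⟩)⁻¹ := by
  rw [← map_inv, ← map_mul, ← map_mul]
  rfl

theorem Theta.two_conj (T : D.Theta) {v : G} (hv : v ∈ D.G0) (h : IsTwo (T.θ ⟨v, hv⟩)) :
    ∃ a ∈ D.G0, a * D.u * a⁻¹ = v := by
  obtain ⟨g, hg, e⟩ := h
  obtain ⟨a, ha, rfl⟩ := T.exists_lift hg
  refine ⟨a, ha, congrArg Subtype.val (T.inj (a₁ := ⟨a * D.u * a⁻¹, mul_mem (mul_mem ha D.u_mem_G0) (inv_mem ha)⟩)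
    (a₂ := ⟨v, hv⟩) ?_)⟩
  rw [T.map_conj ha D.u_mem_G0, T.u_eq, e]

variable (D)

/-- every involution of the alternating subgroup is conjugate there to `s` or to `u` -/
theorem invol_G0 {v : G} (hv : v ∈ D.G0) (h2 : v * v = 1) (h1 : v ≠ 1) :
    ∃ a ∈ D.G0, a * D.u * a⁻¹ = v ∨ a * s * a⁻¹ = v := by
  obtain ⟨T⟩ := D.exists_theta
  have hcl : ∀ w : G, ∀ hw : w ∈ D.G0, w * w = 1 → w ≠ 1 →
      IsTwo (T.θ ⟨w, hw⟩) ∨ ∃ g ∈ alternatingGroup (Fin 8), g * w4 * g⁻¹ = T.θ ⟨w, hw⟩ := fun w hw e2 e1 =>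
    EightModel.alt_invol ((T.range_iff _).2 ⟨_, rfl⟩)
      (by rw [← map_mul, show (⟨w, hw⟩ : D.G0) * ⟨w, hw⟩ = 1 from Subtype.ext e2, map_one])
      (fun e => e1 (congrArg Subtype.val (T.inj (e.trans (map_one T.θ).symm))))
  rcases hcl v hv h2 h1 with h | ⟨g, hg, hgv⟩
  · obtain ⟨a, ha, e⟩ := T.two_conj hv h
    exact ⟨a, ha, Or.inl e⟩
  rcases hcl s D.s_mem_G0 D.F.s_sq D.F.s_ne with h | ⟨c, hc, hcs⟩
  · obtain ⟨a, ha, e⟩ := T.two_conj _ h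
    exact (D.not_both (IsConj.refl s) (isConj_iff.2 ⟨a, e⟩)).elim
  obtain ⟨a, ha, hae⟩ := T.exists_lift (mul_mem hg (inv_mem hc))
  refine ⟨a, ha, Or.inr (congrArg Subtype.val (T.inj
    (a₁ := ⟨a * s * a⁻¹, mul_mem (mul_mem ha D.s_mem_G0) (inv_mem ha)⟩) (a₂ := ⟨v, hv⟩) ?_))⟩
  rw [T.map_conj ha D.s_mem_G0, hae, ← hcs, ← hgv]
  group

theorem mem_G0_of_conj_s {g : G} (h : g * s * g⁻¹ ∈ D.G0) : g ∈ D.G0 := by
  obtain ⟨a, ha, e | e⟩ := D.invol_G0 h (conj_sq D.F.s_sq g) (conj_ne_one D.F.s_ne g)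
  · exact (D.not_both (isConj_iff.2 ⟨g, rfl⟩) (isConj_iff.2 ⟨a, e⟩)).elim
  · have hc : a⁻¹ * g * s = s * (a⁻¹ * g) := by
      calc a⁻¹ * g * s = a⁻¹ * (g * s * g⁻¹) * g := by group
        _ = a⁻¹ * (a * s * a⁻¹) * g := by rw [e]
        _ = s * (a⁻¹ * g) := by group
    have := mul_mem ha (D.cent_le_G0 hc)
    rwa [mul_inv_cancel_left] at this

theorem conj_fix {x g : G} {p : D.Cos} : (g * x * g⁻¹) • (g • p) = g • p ↔ x • p = p := by
  rw [← mul_smul, inv_mul_cancel_right, mul_smul]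
  exact ⟨fun h => smul_left_cancel g h, fun h => by rw [h]⟩

/-- `s` fixes only the base coset -/
theorem s_fix {p : D.Cos} (h : s • p = p) : p = D.bC := by
  obtain ⟨g, rfl⟩ := D.exists_rep p
  have h' : g⁻¹ * s * g⁻¹⁻¹ ∈ D.G0 := by
    rw [← D.fix_bC, ← D.conj_fix (g := g), show g * (g⁻¹ * s * g⁻¹⁻¹) * g⁻¹ = s by group]
    exact h
  exact D.fix_bC.2 (inv_mem_iff.1 (D.mem_G0_of_conj_s h'))

/-- `u` fixes only translates of the base coset by its centraliser -/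
theorem u_fix {p : D.Cos} (h : D.u • p = p) : ∃ g ∈ D.U, g • D.bC = p := by
  obtain ⟨g, rfl⟩ := D.exists_rep p
  have h' : g⁻¹ * D.u * g ∈ D.G0 := by
    rw [← D.fix_bC, ← D.conj_fix (g := g), show g * (g⁻¹ * D.u * g) * g⁻¹ = D.u by group]
    exact h
  obtain ⟨a, ha, e | e⟩ := D.invol_G0 h' (by simpa using conj_sq D.u_sq g⁻¹)
    (by simpa using conj_ne_one D.u_ne_one g⁻¹)
  · refine ⟨g * a, D.mem_U.2 ?_, by rw [mul_smul, D.fix_bC.2 ha]⟩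
    calc g * a * D.u = g * (a * D.u * a⁻¹) * a := by group
      _ = g * (g⁻¹ * D.u * g) * a := by rw [e]
      _ = D.u * (g * a) := by group
  · exact (D.not_both (v := a * s * a⁻¹) (isConj_iff.2 ⟨a, rfl⟩) (isConj_iff.2 ⟨g⁻¹, by rw [e]; group⟩)).elim

/-- a subgroup containing the alternating subgroup and `U` whose involutions come from there is everything -/
theorem top_of_closed {H : Subgroup G} (h0 : D.G0 ≤ H) (hU : D.U ≤ H)
    (hinv : ∀ v ∈ H, v * v = 1 → v ≠ 1 → ∃ h ∈ H, h⁻¹ * v * h ∈ D.G0) : H = ⊤ := by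
  have hC : ∀ v ∈ H, v * v = 1 → v ≠ 1 → ∀ c, c * v = v * c → c ∈ H := by
    intro v hv hv2 hv1 c hc
    obtain ⟨h, hh, hh0⟩ := hinv v hv hv2 hv1
    obtain ⟨a, ha, e⟩ := D.invol_G0 hh0 (by simpa using conj_sq hv2 h⁻¹) (by simpa using conj_ne_one hv1 h⁻¹)
    have hb : h * a ∈ H := mul_mem hh (h0 ha)
    have hcomm : ∀ x : G, a * x * a⁻¹ = h⁻¹ * v * h → (h * a)⁻¹ * c * (h * a) * x = x * ((h * a)⁻¹ * c * (h * a)) := by
      intro x hx
      have hx' : x = (h * a)⁻¹ * v * (h * a) := by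
        calc x = a⁻¹ * (a * x * a⁻¹) * a := by group
          _ = (h * a)⁻¹ * v * (h * a) := by rw [hx]; group
      rw [hx']
      simpa [mul_assoc] using comm_conj hc (h * a)⁻¹
    have hin : (h * a)⁻¹ * c * (h * a) ∈ H := by
      rcases e with e | e
      · exact hU (D.mem_U.2 (hcomm _ e))
      · exact h0 (D.cent_le_G0 (hcomm _ e))
    have := mul_mem (mul_mem hb hin) (inv_mem hb)
    rwa [show h * a * ((h * a)⁻¹ * c * (h * a)) * (h * a)⁻¹ = c by group] at this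
  have hall : ∀ v : G, v * v = 1 → v ∈ H := by
    intro v hv
    by_contra hvH
    exact D.not_both (isConj_of_outside hC hv hvH D.F.s_sq D.F.s_ne (h0 D.s_mem_G0)).symm
      (isConj_of_outside hC hv hvH D.u_sq D.u_ne_one (h0 D.u_mem_G0)).symm
  refine eq_top_iff.2 fun g _ => ?_
  obtain ⟨h, hh, hh0⟩ := hinv _ (hall _ (conj_sq D.F.s_sq g)) (conj_sq D.F.s_sq g) (conj_ne_one D.F.s_ne g)
  have := mul_mem hh (h0 (D.mem_G0_of_conj_s (g := h⁻¹ * g)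
    (by rwa [show h⁻¹ * g * s * (h⁻¹ * g)⁻¹ = h⁻¹ * (g * s * g⁻¹) * h by group])))
  rwa [mul_inv_cancel_left] at this

end Two

end CfsgLib.ExtraSpS3
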