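import Cfsg.Agent.Lib.ExtraSpS3.SBasic
import Cfsg.Agent.Lib.ExtraSpS3.Generic

/-!
The normaliser of the first line, when its elements other than `1` are conjugate to `s`.
-/
set_option autoImplicit false
set_option maxRecDepth 10000

namespace CfsgLib.ExtraSpS3

/-- the involutions commuting with two given symbols -/
def invCent (k m n : ℕ) : Bool := decide (kind n < 7) && comS n k && comS n m

theorem line_or_big {k m : ℕ} (hk : k < 192) (hm : m < 192) (hk2 : 2 ≤ kind k) (hk6 : kind k < 7)
    (hm7 : kind m < 7) (hkm : comS m k = true)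
    (hline : kind k ≤ 4 → (lineOf k).testBit m = false) :
    9 ≤ ((List.range 192).filter (invCent k m)).length ∧
      ∀ n < 192, ∀ n' < 192, invCent k m n = true → invCent k m n' = true → comS n n' = true := by
  have hd : allB 192 (fun k => decide (kind k < 2) || decide (7 ≤ kind k) || allB 192 fun m =>
      decide (7 ≤ kind m) || !comS m k || (decide (kind k ≤ 4) && (lineOf k).testBit m) ||
        (decide (9 ≤ ((List.range 192).filter (invCent k m)).length) &&
          (let l := (List.range 192).filter (invCent k m)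
           l.all fun n => l.all fun n' => comS n n'))) = true := by decide +kernel
  have h := allB_spec hd hk
  simp only [Bool.or_eq_true, decide_eq_true_eq] at h
  have h' := allB_spec (h.resolve_left (by omega)) hm
  simp only [Bool.or_eq_true, Bool.and_eq_true, decide_eq_true_eq, Bool.not_eq_true', List.all_eq_true,
    List.mem_filter, List.mem_range] at h'
  rcases h' with ((h' | h') | h') | h'
  · omega
  · rw [hkm] at h'; simp at h'
  · rw [hline h'.1] at h'; simp at h'
  · exact ⟨h'.1, fun n hn n' hn' e e' => h'.2 n ⟨hn, e⟩ n' ⟨hn', e'⟩⟩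

theorem lineOf_conj {k : ℕ} :
    allB 192 (fun g => allB 192 fun m => !(lineOf k).testBit m || (lineOf k).testBit (cjS g m)) = true := by
  have h : ∀ q ∈ [maskE, maskF, maskB],
      allB 192 (fun g => allB 192 fun m => !q.testBit m || q.testBit (cjS g m)) = true := by
    decide +kernel
  refine h _ ?_
  unfold lineOf
  cases kind k == 2 <;> cases kind k == 3 <;> simp

theorem lineOf_card {k : ℕ} : ((List.range 192).filter fun m => (lineOf k).testBit m).length = 8 := by
  have h : ∀ q ∈ [maskE, maskF, maskB],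
      ((List.range 192).filter fun m => q.testBit m).length = 8 := by
    decide +kernel
  refine h _ ?_
  unfold lineOf
  cases kind k == 2 <;> cases kind k == 3 <;> simp

namespace Frame

variable {G : Type*} [Group G] [Finite G] {s : G} (F : Frame false G s)

/-- the normaliser of the first line -/
def normE : Subgroup G := Subgroup.normalizer (F.lineE : Set G)

theorem mem_normE {g : G} : g ∈ F.normE ↔ ∀ v ∈ F.lineE, g * v * g⁻¹ ∈ F.lineE := by
  constructor
  · exact fun h v hv => (Subgroup.mem_normalizer_iff.1 h v).1 hv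
  · intro h
    refine Subgroup.mem_normalizer_iff.2 fun v => ⟨h v, fun hv => ?_⟩
    let f : F.lineE → F.lineE := fun w => ⟨g * w * g⁻¹, h w w.2⟩
    have hf : Function.Surjective f := Finite.surjective_of_injective fun a b hab =>
      Subtype.ext (by simpa [f] using congrArg Subtype.val hab)
    obtain ⟨w, hw⟩ := hf ⟨_, hv⟩
    have h' : (w : G) = v := by simpa [f] using congrArg Subtype.val hw
    exact h' ▸ w.2

theorem cent_le_normE {g : G} (hg : g * s = s * g) : g ∈ F.normE :=
  F.mem_normE.2 fun _ hv => F.conj_lineE hg hv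

/-- the first line pulled back along an element sending `s` to one of its involutions is a line -/
theorem pullback_line {g : G} (hg : g * s * g⁻¹ ∈ F.lineE) (hgs : g * s * g⁻¹ ≠ s) :
    ∃ k < 192, 2 ≤ kind k ∧ kind k < 7 ∧ F.el k = g⁻¹ * s * g ∧
      ∀ e, e ∈ F.lineE ↔ g⁻¹ * e * g ∈ F.carrier (lineOf k) := by
  classical
  have hW : ∀ e ∈ F.lineE, g⁻¹ * e * g * s = s * (g⁻¹ * e * g) := by
    intro e he
    calc g⁻¹ * e * g * s = g⁻¹ * (e * (g * s * g⁻¹)) * g := by group
      _ = g⁻¹ * (g * s * g⁻¹ * e) * g := by rw [F.lineE_comm he hg]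
      _ = s * (g⁻¹ * e * g) := by group
  have hWc : ∀ e ∈ F.lineE, ∀ f ∈ F.lineE, g⁻¹ * e * g * (g⁻¹ * f * g) = g⁻¹ * f * g * (g⁻¹ * e * g) := by
    intro e he f hf
    calc g⁻¹ * e * g * (g⁻¹ * f * g) = g⁻¹ * (e * f) * g := by group
      _ = g⁻¹ * (f * e) * g := by rw [F.lineE_comm he hf]
      _ = g⁻¹ * f * g * (g⁻¹ * e * g) := by group
  have hW2 : ∀ e ∈ F.lineE, g⁻¹ * e * g * (g⁻¹ * e * g) = 1 := by
    intro e he
    calc g⁻¹ * e * g * (g⁻¹ * e * g) = g⁻¹ * (e * e) * g := by group
      _ = 1 := by rw [F.lineE_sq he]; group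
  obtain ⟨k, hk, hke⟩ := F.surj _ (hW s F.s_mem_lineE)
  have hk6 : kind k < 7 := (F.el_sq_iff hk).1 (hke ▸ hW2 s F.s_mem_lineE)
  have hk2 : 2 ≤ kind k := by
    by_contra hlt
    rcases Nat.lt_or_ge (kind k) 1 with h | h
    · rw [(kind_spec hk).2.1.1 (by omega), F.el_zero] at hke
      refine F.s_ne ?_
      calc s = g * (g⁻¹ * s * g) * g⁻¹ := by group
        _ = 1 := by rw [← hke]; group
    · rw [(kind_spec hk).2.2.1 (by omega), F.el_one] at hke
      refine hgs ?_
      conv_lhs => rw [hke]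
      group
  have hsym : ∀ e ∈ F.lineE, ∃ m < 192, F.el m = g⁻¹ * e * g ∧ comS m k = true ∧ kind m < 7 := by
    intro e he
    obtain ⟨m, hm, hme⟩ := F.surj _ (hW e he)
    refine ⟨m, hm, hme, (F.comS_iff hm hk).1 ?_, (F.el_sq_iff hm).1 (hme ▸ hW2 e he)⟩
    rw [hme, hke]
    exact hWc e he s F.s_mem_lineE
  have hinj : ∀ {e f : G}, g⁻¹ * e * g = g⁻¹ * f * g → e = f := fun h => by simpa using h
  have hin : kind k ≤ 4 ∧ ∀ e ∈ F.lineE, g⁻¹ * e * g ∈ F.carrier (lineOf k) := by
    by_contra hno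
    obtain ⟨e0, he0, m, hm, hme, hmk, hm7, hout⟩ : ∃ e0 ∈ F.lineE, ∃ m < 192, F.el m = g⁻¹ * e0 * g ∧
        comS m k = true ∧ kind m < 7 ∧ (kind k ≤ 4 → (lineOf k).testBit m = false) := by
      by_cases h4 : kind k ≤ 4
      · push Not at hno
        obtain ⟨e, he, hne⟩ := hno h4
        obtain ⟨m, hm, hme, hmk, hm7⟩ := hsym e he
        refine ⟨e, he, m, hm, hme, hmk, hm7, fun _ => ?_⟩
        rw [← hme, F.mem_carrier hm] at hne
        simpa using hne
      · obtain ⟨m, hm, hme, hmk, hm7⟩ := hsym s F.s_mem_lineE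
        exact ⟨s, F.s_mem_lineE, m, hm, hme, hmk, hm7, fun h => absurd h h4⟩
    obtain ⟨hlen, hcom⟩ := line_or_big hk hm hk2 hk6 hm7 hmk hout
    set l := (List.range 192).filter (invCent k m) with hl
    have hmem : ∀ e ∈ F.lineE, ∀ n < 192, F.el n = g⁻¹ * e * g → invCent k m n = true := by
      intro e he n hn hne
      simp only [invCent, Bool.and_eq_true, decide_eq_true_eq]
      refine ⟨⟨(F.el_sq_iff hn).1 (hne ▸ hW2 e he), (F.comS_iff hn hk).1 ?_⟩, (F.comS_iff hn hm).1 ?_⟩
      · rw [hne, hke]; exact hWc e he s F.s_mem_lineE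
      · rw [hne, hme]; exact hWc e he e0 he0
    have hall : ∀ i : Fin l.length, g * F.el (l[i]) * g⁻¹ ∈ F.lineE := by
      intro i
      have hi : l[i] ∈ l := List.getElem_mem _
      replace hi := List.mem_filter.1 hi
      rw [List.mem_range] at hi
      refine F.lineE_self_cent fun a ha => ?_
      obtain ⟨n, hn, hne, -, -⟩ := hsym a ha
      have := (F.comS_iff hi.1 hn).2 (hcom _ hi.1 _ hn hi.2 (hmem a ha n hn hne))
      rw [hne] at this
      calc g * F.el (l[i]) * g⁻¹ * a = g * (F.el (l[i]) * (g⁻¹ * a * g)) * g⁻¹ := by group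
        _ = g * (g⁻¹ * a * g * F.el (l[i])) * g⁻¹ := by rw [this]
        _ = a * (g * F.el (l[i]) * g⁻¹) := by group
    have hnd : l.Nodup := List.nodup_range.filter _
    have hcard := Nat.card_le_card_of_injective (fun i : Fin l.length => (⟨_, hall i⟩ : F.lineE))
      (fun i j h => by
        have hi : l[i] ∈ l := List.getElem_mem _
        have hj : l[j] ∈ l := List.getElem_mem _
        replace hi := List.mem_filter.1 hi
        replace hj := List.mem_filter.1 hj
        rw [List.mem_range] at hi hj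
        exact Fin.ext (hnd.getElem_inj_iff.1 (F.el_inj hi.1 hj.1 (by simpa using congrArg Subtype.val h))))
    rw [Nat.card_eq_fintype_card, Fintype.card_fin, F.card_lineE] at hcard
    omega
  refine ⟨k, hk, hk2, hk6, hke, fun e => ⟨hin.2 e, fun he => ?_⟩⟩
  set l := (List.range 192).filter fun m => (lineOf k).testBit m with hl
  let f : F.lineE → F.carrier (lineOf k) := fun w => ⟨_, hin.2 w w.2⟩
  have hle : Nat.card (F.carrier (lineOf k)) ≤ Nat.card F.lineE := by
    rw [F.card_lineE, ← lineOf_card (k := k), ← hl]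
    refine le_trans (Nat.card_le_card_of_surjective (fun i : Fin l.length => (⟨F.el (l[i]), ?_⟩ :
      F.carrier (lineOf k))) ?_) (by simp)
    · have hi : l[i] ∈ l := List.getElem_mem _
      replace hi := List.mem_filter.1 hi
      rw [List.mem_range] at hi
      exact ⟨_, hi.1, hi.2, rfl⟩
    · rintro ⟨_, n, hn, hb, rfl⟩
      obtain ⟨i, hi, he'⟩ := List.getElem_of_mem (show n ∈ l from List.mem_filter.2 ⟨List.mem_range.2 hn, hb⟩)
      exact ⟨⟨i, hi⟩, Subtype.ext (congrArg F.el he')⟩
  haveI : Finite (F.carrier (lineOf k)) := Finite.of_injective Subtype.val Subtype.val_injective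
  have hf : Function.Injective f := fun a b h => Subtype.ext (hinj (congrArg Subtype.val h))
  obtain ⟨w, hw⟩ := (hf.bijective_of_nat_card_le hle).2 ⟨_, he⟩
  have : (w : G) = e := hinj (congrArg Subtype.val hw)
  exact this ▸ w.2

theorem cent_conj_le_normE {g c : G} (hg : g * s * g⁻¹ ∈ F.lineE) (hgs : g * s * g⁻¹ ≠ s)
    (hc : c * (g * s * g⁻¹) = g * s * g⁻¹ * c) : c ∈ F.normE := by
  obtain ⟨k, -, -, -, -, hline⟩ := F.pullback_line hg hgs
  refine F.mem_normE.2 fun v hv => (hline _).2 ?_
  have hc' : g⁻¹ * c * g * s = s * (g⁻¹ * c * g) := by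
    calc g⁻¹ * c * g * s = g⁻¹ * (c * (g * s * g⁻¹)) * g := by group
      _ = g⁻¹ * (g * s * g⁻¹ * c) * g := by rw [hc]
      _ = s * (g⁻¹ * c * g) := by group
  have := F.conj_mask lineOf_conj hc' ((hline v).1 hv)
  have e : g⁻¹ * c * g * (g⁻¹ * v * g) * (g⁻¹ * c * g)⁻¹ = g⁻¹ * (c * v * c⁻¹) * g := by group
  rwa [e] at this

variable (hA : IsConj s (F.el 2))
include hA

/-- the normaliser is transitive on the involutions of the line -/
theorem exists_normE_conj {v : G} (hv : v ∈ F.lineE) (hv1 : v ≠ 1) :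
    ∃ h ∈ F.normE, h * s * h⁻¹ = v := by
  obtain ⟨g, hg⟩ := isConj_iff.1 hA
  have ha : g * s * g⁻¹ ∈ F.lineE := hg ▸ F.lineE_mem (by omega)
  have has : g * s * g⁻¹ ≠ s := by
    rw [hg]
    exact fun h => absurd (F.el_inj (by omega) (by omega) (h.trans F.el_one.symm)) (by omega)
  obtain ⟨k, hk, hk2, hk6, hke, -⟩ := F.pullback_line ha has
  have hd : allB 192 (fun k => decide (kind k < 2) || anyB 192 fun r => !comS r k) = true := by decide +kernel
  have h' := allB_spec hd hk
  rw [Bool.or_eq_true, decide_eq_true_eq] at h'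
  obtain ⟨r, hr, hrk⟩ := anyB_spec (h'.resolve_left (by omega))
  set h := g * F.el r * g⁻¹ with hh
  have hN : h ∈ F.normE := F.cent_conj_le_normE ha has (by
    calc g * F.el r * g⁻¹ * (g * s * g⁻¹) = g * (F.el r * s) * g⁻¹ := by group
      _ = g * (s * F.el r) * g⁻¹ := by rw [F.el_comm_s hr]
      _ = g * s * g⁻¹ * (g * F.el r * g⁻¹) := by group)
  have hmove : h * s * h⁻¹ ≠ s := by
    intro e
    rw [mul_inv_eq_iff_eq_mul] at e
    have : F.el r * F.el k = F.el k * F.el r := by
      rw [hke]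
      calc F.el r * (g⁻¹ * s * g) = g⁻¹ * (h * s) * g := by rw [hh]; group
        _ = g⁻¹ * (s * h) * g := by rw [e]
        _ = g⁻¹ * s * g * F.el r := by rw [hh]; group
    rw [(F.comS_iff hr hk).1 this] at hrk
    simp at hrk
  obtain ⟨i, hi, hie⟩ := F.mem_lineE.1 (F.mem_normE.1 hN s F.s_mem_lineE)
  have hi2 : 2 ≤ i := by
    by_contra hlt
    rcases Nat.lt_or_ge i 1 with h0 | h0
    · rw [show i = 0 by omega, F.el_zero] at hie
      exact F.s_ne (by simpa using hie.symm)
    · rw [show i = 1 by omega, F.el_one] at hie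
      exact hmove hie.symm
  obtain ⟨j, hj, rfl⟩ := F.mem_lineE.1 hv
  have hj0 : j ≠ 0 := fun e => hv1 (by rw [e, F.el_zero])
  rcases Nat.lt_or_ge j 2 with h1 | h1
  · exact ⟨1, one_mem _, by rw [show j = 1 by omega, F.el_one]; group⟩
  · have hd2 : allB 8 (fun i => allB 8 fun j => decide (i < 2) || decide (j < 2) ||
        anyB 192 fun l => cjS l i == j) = true := by decide +kernel
    have h2 := allB_spec (allB_spec hd2 hi) hj
    simp only [Bool.or_eq_true, decide_eq_true_eq] at h2
    obtain ⟨l, hl, hle⟩ := anyB_spec (h2.resolve_left (by omega))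
    refine ⟨F.el l * h, mul_mem (F.cent_le_normE (F.el_comm_s hl)) hN, ?_⟩
    rw [← eq_of_beq hle, ← F.el_conj hl (by omega), hie]
    group

theorem isConj_lineE {v : G} (hv : v ∈ F.lineE) (hv1 : v ≠ 1) : IsConj s v := by
  obtain ⟨h, -, he⟩ := F.exists_normE_conj hA hv hv1
  exact isConj_iff.2 ⟨h, he⟩

/-- the line is the only conjugate of itself containing one of its involutions -/
theorem mem_normE_of_meet {g v : G} (hv : v ∈ F.lineE) (hv1 : v ≠ 1) (hgv : g⁻¹ * v * g ∈ F.lineE) :
    g ∈ F.normE := by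
  obtain ⟨a, ha, hae⟩ := F.exists_normE_conj hA hv hv1
  obtain ⟨b, hb, hbe⟩ := F.exists_normE_conj hA hgv (fun e => hv1 (by
    calc v = g * (g⁻¹ * v * g) * g⁻¹ := by group
      _ = 1 := by rw [e]; group))
  have h1 : a⁻¹ * g * b ∈ F.normE := by
    refine F.cent_le_normE ?_
    calc a⁻¹ * g * b * s = a⁻¹ * g * (b * s * b⁻¹) * b := by group
      _ = a⁻¹ * g * (g⁻¹ * (a * s * a⁻¹) * g) * b := by rw [hbe, hae]
      _ = s * (a⁻¹ * g * b) := by group
  have h2 := mul_mem (mul_mem ha h1) (inv_mem hb)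
  rwa [show a * (a⁻¹ * g * b) * b⁻¹ = g by group] at h2

theorem card_normE : Nat.card F.normE = 1344 := by
  classical
  let L := (Subgroup.centralizer ({s} : Set G)).subgroupOf F.normE
  have hmemL : ∀ a : F.normE, a ∈ L ↔ (a : G) * s = s * a := fun a => by
    rw [Subgroup.mem_subgroupOf, Subgroup.mem_centralizer_singleton_iff]
  let f : F.normE ⧸ L → {v : F.lineE // v ≠ 1} := Quotient.lift
    (fun a => ⟨⟨(a : G) * s * (a : G)⁻¹, F.mem_normE.1 a.2 s F.s_mem_lineE⟩, fun e =>
      F.s_ne (conj_eq_one_iff.1 (congrArg Subtype.val e))⟩)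
    (fun a b h => by
      replace h : a⁻¹ * b ∈ L := QuotientGroup.leftRel_apply.1 h
      rw [hmemL, Subgroup.coe_mul, Subgroup.coe_inv] at h
      refine Subtype.ext (Subtype.ext ?_)
      show (a : G) * s * (a : G)⁻¹ = (b : G) * s * (b : G)⁻¹
      calc (a : G) * s * (a : G)⁻¹ = (a : G) * (s * ((a : G)⁻¹ * b)) * (b : G)⁻¹ := by group
        _ = (a : G) * ((a : G)⁻¹ * b * s) * (b : G)⁻¹ := by rw [h]
        _ = (b : G) * s * (b : G)⁻¹ := by group)
  have hf : Function.Bijective f := by
    refine ⟨?_, ?_⟩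
    · intro x y
      induction x using QuotientGroup.induction_on with
      | _ a =>
        induction y using QuotientGroup.induction_on with
        | _ b =>
          intro h
          have h' : (a : G) * s * (a : G)⁻¹ = (b : G) * s * (b : G)⁻¹ :=
            congrArg (fun z : {v : F.lineE // v ≠ 1} => ((z : F.lineE) : G)) h
          rw [QuotientGroup.eq, hmemL, Subgroup.coe_mul, Subgroup.coe_inv]
          calc (a : G)⁻¹ * b * s = (a : G)⁻¹ * ((b : G) * s * (b : G)⁻¹) * b := by group
            _ = (a : G)⁻¹ * ((a : G) * s * (a : G)⁻¹) * b := by rw [h']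
            _ = s * ((a : G)⁻¹ * b) := by group
    · rintro ⟨⟨v, hv⟩, hv1⟩
      obtain ⟨h, hh, he⟩ := F.exists_normE_conj hA hv (fun e => hv1 (Subtype.ext e))
      exact ⟨QuotientGroup.mk ⟨h, hh⟩, Subtype.ext (Subtype.ext he)⟩
  have h7 : Nat.card {v : F.lineE // v ≠ 1} = 7 := by
    haveI : Fintype F.lineE := Fintype.ofFinite _
    rw [Nat.card_eq_fintype_card, Fintype.card_subtype_compl, Fintype.card_subtype_eq,
      ← Nat.card_eq_fintype_card, F.card_lineE]
  have hLcard : Nat.card L = 192 := by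
    rw [Nat.card_congr (Subgroup.subgroupOfEquivOfLe (fun g hg => F.cent_le_normE
      (Subgroup.mem_centralizer_singleton_iff.1 hg))).toEquiv]
    exact F.card_centralizer
  rw [Subgroup.card_eq_card_quotient_mul_card_subgroup L, Nat.card_eq_of_bijective f hf, h7, hLcard]

end Frame

end CfsgLib.ExtraSpS3
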