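import Cfsg.Agent.Lib.ExtraSpS3.Base

/-!
Generators of `Q` adapted to the action of the element of order three.
-/
set_option autoImplicit false

namespace CfsgLib.ExtraSpS3

namespace Base

variable {G : Type*} [Group G] {s : G} (B : Base G s)

/-- conjugation by `x` -/
def ph (q : G) : G := B.x * q * B.x⁻¹

theorem ph_mul (p q : G) : B.ph (p * q) = B.ph p * B.ph q := by simp [ph, mul_assoc]
theorem ph_mem {q : G} (hq : q ∈ B.Q) : B.ph q ∈ B.Q := B.Q_conj _ B.x_s q hq
theorem ph_s : B.ph s = s := by rw [ph, B.x_s, mul_inv_cancel_right]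
theorem ph_one : B.ph 1 = 1 := by simp [ph]
theorem ph_cube (q : G) : B.ph (B.ph (B.ph q)) = q := by
  have h : B.x⁻¹ * B.x⁻¹ * B.x⁻¹ = 1 := by
    rw [← mul_inv_rev, ← mul_inv_rev, ← mul_assoc, B.x_cube, inv_one]
  calc B.ph (B.ph (B.ph q)) = B.x * B.x * B.x * q * (B.x⁻¹ * B.x⁻¹ * B.x⁻¹) := by simp [ph, mul_assoc]
    _ = q := by rw [B.x_cube, h, one_mul, mul_one]

theorem ph_inj {p q : G} (h : B.ph p = B.ph q) : p = q := by
  simpa [ph] using h

theorem ph_comm {p q : G} (h : p * q = q * p) : B.ph p * B.ph q = B.ph q * B.ph p := by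
  rw [← ph_mul, ← ph_mul, h]

theorem ph_fix {q : G} (hq : q ∈ B.Q) (h : B.ph q = q) : q = 1 ∨ q = s :=
  B.x_fix q hq (mul_inv_eq_iff_eq_mul.1 h)

theorem s_comm {q : G} (hq : q ∈ B.Q) : Commute q s := B.Q_cent q hq

/-- no element of `Q` is sent by `x` to its product with `s` -/
theorem ph_ne_mul {q : G} (_hq : q ∈ B.Q) : B.ph q ≠ q * s := by
  intro h
  have h2 : B.ph (B.ph q) = q := by rw [h, ph_mul, h, ph_s, mul_assoc, B.s_sq, mul_one]
  have h3 := B.ph_cube q
  rw [h2, h] at h3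
  exact B.s_ne (mul_eq_left.mp h3)

/-- the norm of an element lies in the centre -/
theorem norm_mem {q : G} (hq : q ∈ B.Q) :
    q * B.ph q * B.ph (B.ph q) = 1 ∨ q * B.ph q * B.ph (B.ph q) = s := by
  have h1 := B.ph_mem hq
  have h2 := B.ph_mem h1
  refine B.ph_fix (mul_mem (mul_mem hq h1) h2) ?_
  by_contra hne
  refine B.ph_ne_mul (mul_mem (mul_mem hq h1) h2) ?_
  rw [ph_mul, ph_mul, ph_cube] at hne ⊢
  rcases B.comm _ (mul_mem h1 h2) _ hq with h | h
  · exact absurd (h.trans (mul_assoc _ _ _).symm) hne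
  · rw [h, ← mul_assoc q, (B.s_comm (mul_mem (mul_mem hq h1) h2)).eq]

/-- an involution commutes with its image under `x` -/
theorem ph_comm_self {v : G} (hv : v ∈ B.Q) (hv2 : v * v = 1) : v * B.ph v = B.ph v * v := by
  rcases B.comm v hv _ (B.ph_mem hv) with h | h
  · exact h
  · exfalso
    have hs : (v * B.ph v) * (v * B.ph v) = s := by
      calc (v * B.ph v) * (v * B.ph v) = s * (B.ph v * v) * (v * B.ph v) := by rw [← h]
        _ = s * (B.ph v * (v * v) * B.ph v) := by simp only [mul_assoc]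
        _ = s := by rw [hv2, mul_one, ← ph_mul, hv2, ph_one, mul_one]
    have hw : B.ph (B.ph v) * B.ph (B.ph v) = 1 := by rw [← ph_mul, ← ph_mul, hv2, ph_one, ph_one]
    rcases B.norm_mem hv with hN | hN
    · rw [mul_eq_one_iff_inv_eq] at hN
      rw [← hN, ← mul_inv_rev, hs, inv_eq_one] at hw
      exact B.s_ne hw
    · rw [← eq_inv_mul_iff_mul_eq] at hN
      rw [hN] at hw
      have hc : Commute ((v * B.ph v)⁻¹) s := B.s_comm (inv_mem (mul_mem hv (B.ph_mem hv)))
      rw [mul_assoc, ← mul_assoc s, ← hc.eq, ← mul_assoc, ← mul_assoc, ← mul_inv_rev, hs, mul_assoc,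
        B.s_sq, mul_one, inv_eq_one] at hw
      exact B.s_ne hw

/-- a pair `e`, `x e` generating an `x`-invariant complement of the centre in an elementary abelian subgroup -/
theorem line {v : G} (hv : v ∈ B.Q) (hv2 : v * v = 1) (h1 : v ≠ 1) (hs : v ≠ s) :
    let e := v * B.ph v
    e ∈ B.Q ∧ e * e = 1 ∧ e ≠ 1 ∧ e ≠ s ∧ e * B.ph e = B.ph e * e ∧ B.ph (B.ph e) = e * B.ph e := by
  intro e
  have hw := B.ph_mem hv
  have hw' := B.ph_mem hw
  have hc := B.ph_comm_self hv hv2
  have hw2 : B.ph v * B.ph v = 1 := by rw [← ph_mul, hv2, ph_one]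
  have he : e ∈ B.Q := mul_mem hv hw
  have he2 : e * e = 1 := by
    show v * B.ph v * (v * B.ph v) = 1
    rw [mul_assoc, ← mul_assoc (B.ph v) v, ← hc, mul_assoc v (B.ph v), hw2, mul_one, hv2]
  have hfix : B.ph v ≠ v := fun h => by
    rcases B.ph_fix hv h with h' | h'
    · exact h1 h'
    · exact hs h'
  have hne1 : e ≠ 1 := fun h => hfix ((mul_left_cancel (a := v) ((hv2.trans h.symm))).symm)
  have hnes : e ≠ s := fun h => B.ph_ne_mul hv (mul_left_cancel (a := v)
    (h.trans (by rw [← mul_assoc, hv2, one_mul])))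
  have hpe : B.ph (B.ph e) = e * B.ph e := by
    show B.ph (B.ph (v * B.ph v)) = v * B.ph v * B.ph (v * B.ph v)
    simp only [ph_mul, ph_cube]
    rw [mul_assoc v, ← mul_assoc (B.ph v), hw2, one_mul]
    have := B.ph_comm hc
    have h' := B.ph_comm this
    rw [ph_cube] at h'
    exact h'
  exact ⟨he, he2, hne1, hnes, B.ph_comm_self he he2, hpe⟩

theorem ne_comm {p q : G} (hp : p ∈ B.Q) (hq : q ∈ B.Q) (h : p * q ≠ q * p) : p * q = s * (q * p) :=
  (B.comm p hp q hq).resolve_left h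

theorem comm_mul {w p q : G} (hw : w ∈ B.Q) (hp : p * w = s * (w * p)) (hq : q ∈ B.Q) (hpQ : p ∈ B.Q) :
    (p * q) * w = w * (p * q) ↔ q * w ≠ w * q := by
  constructor
  · intro h hqw
    rw [mul_assoc, hqw, ← mul_assoc, hp] at h
    have h' : s * (w * (p * q)) = 1 * (w * (p * q)) := by rw [one_mul]; simpa [mul_assoc] using h
    exact B.s_ne (mul_right_cancel h')
  · intro h
    rw [mul_assoc, B.ne_comm hq hw h, ← mul_assoc p s, (B.s_comm hpQ).eq, mul_assoc s p, ← mul_assoc p w, hp]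
    simp only [← mul_assoc, B.s_sq, one_mul]

/-- generators of `Q` with `x` in normal form and the given involution in the first line -/
theorem exists_qgens {v : G} (hv : v ∈ B.Q) (hv2 : v * v = 1) (hv1 : v ≠ 1) (hvs : v ≠ s) :
    ∃ D : QGens G s, D.e1 ∈ B.Q ∧ D.f1 ∈ B.Q ∧ B.ph D.e1 = D.e2 ∧ B.ph D.e2 = D.e1 * D.e2 ∧
      B.ph D.f1 = D.f2 ∧ B.ph D.f2 = D.f1 * D.f2 := by
  obtain ⟨he, he2, he1, hes, hec, hep⟩ := B.line hv hv2 hv1 hvs
  set e := v * B.ph v with hedef
  clear_value e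
  obtain ⟨y, hy, hye⟩ := B.noncentral e he he1 hes
  have hye' : y * e = s * (e * y) := B.ne_comm hy he (Ne.symm hye)
  obtain ⟨w, hw, hw2, hwe⟩ : ∃ w ∈ B.Q, w * w = 1 ∧ w * e ≠ e * w := by
    rcases B.sq y hy with h | h
    · exact ⟨y, hy, h, Ne.symm hye⟩
    · refine ⟨y * e, mul_mem hy he, ?_, ?_⟩
      · calc y * e * (y * e) = s * (e * y) * (y * e) := by rw [← hye']
          _ = s * (e * (y * y) * e) := by simp only [mul_assoc]
          _ = 1 := by rw [h, (B.s_comm he).eq, mul_assoc s e e, he2, mul_one, B.s_sq]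
      · intro h'
        rw [← mul_assoc e y] at h'
        exact hye (mul_right_cancel h').symm
  have hw1 : w ≠ 1 := fun h => hwe (by rw [h, one_mul, mul_one])
  have hws : w ≠ s := fun h => hwe (by rw [h]; exact (B.s_comm he).symm.eq)
  obtain ⟨hf, hf2, hf1, hfs, hfc, hfp⟩ := B.line hw hw2 hw1 hws
  have hcomm : ∀ q ∈ B.Q, q * e = e * q ∨ q * e ≠ e * q := fun q _ => Classical.em _
  have hwq : w * e = s * (e * w) := B.ne_comm hw he hwe
  obtain ⟨f, hfQ, hff, hfe, hpfe, hfc', hfp'⟩ : ∃ f ∈ B.Q, f * f = 1 ∧ f * e = e * f ∧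
      B.ph f * e ≠ e * B.ph f ∧ f * B.ph f = B.ph f * f ∧ B.ph (B.ph f) = f * B.ph f := by
    set f := w * B.ph w with hfdef
    have hpf : B.ph f * e ≠ e * B.ph f := by
      intro hc
      have hnorm := B.norm_mem hw
      have h1 : B.ph w * B.ph (B.ph w) = w ∨ B.ph w * B.ph (B.ph w) = w * s := by
        rcases hnorm with h | h <;> rw [mul_assoc, ← eq_inv_mul_iff_mul_eq] at h <;>
          rw [h, show w⁻¹ = w from inv_eq_of_mul_eq_one_right hw2]
        · left; rw [mul_one]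
        · right; rfl
      rw [hfdef, ph_mul] at hc
      rcases h1 with h | h <;> rw [h] at hc
      · exact hwe hc
      · rw [mul_assoc, ← (B.s_comm he).eq, ← mul_assoc, ← mul_assoc] at hc
        exact hwe (mul_right_cancel hc)
    by_cases hc : f * e = e * f
    · exact ⟨f, hf, hf2, hc, hpf, hfc, hfp⟩
    · have hg := B.ph_mem (B.ph_mem hf)
      refine ⟨B.ph (B.ph f), hg, by rw [← ph_mul, ← ph_mul, hf2, ph_one, ph_one], ?_, ?_, ?_, ?_⟩
      · rw [hfp]
        exact (B.comm_mul he (B.ne_comm hf he hc) (B.ph_mem hf) hf).2 hpf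
      · rw [ph_cube]; exact hc
      · exact B.ph_comm (B.ph_comm hfc)
      · rw [ph_cube, ph_cube, hfp, hfc, mul_assoc (B.ph f) f f, hf2, mul_one]
  have hge := hfe
  have h21 := B.ph_comm hge
  have h22 := B.ph_comm h21
  rw [hfp', hep] at h22
  have hf1e2 : f * B.ph e = s * (B.ph e * f) := by
    refine B.ne_comm hfQ (B.ph_mem he) fun hc => hpfe ?_
    have a : Commute f (e * B.ph e) := (show Commute f e from hfe).mul_right hc
    have b : Commute (B.ph f) (e * B.ph e) := by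
      have := a.inv_left.mul_left (show Commute (f * B.ph f) (e * B.ph e) from h22)
      rwa [inv_mul_cancel_left] at this
    have := b.mul_right (show Commute (B.ph f) (B.ph e) from h21).inv_right
    rwa [mul_inv_cancel_right] at this
  refine ⟨{ e1 := e, e2 := B.ph e, f1 := f, f2 := B.ph f, s_ne := B.s_ne, s_sq := B.s_sq, e1_sq := he2,
            e2_sq := by rw [← ph_mul, he2, ph_one], f1_sq := hff, f2_sq := by rw [← ph_mul, hff, ph_one],
            e1_s := B.Q_cent _ he, e2_s := B.Q_cent _ (B.ph_mem he), f1_s := B.Q_cent _ hfQ,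
            f2_s := B.Q_cent _ (B.ph_mem hfQ), e21 := hec.symm, f21 := hfc'.symm, f1_e1 := hfe,
            f2_e2 := h21, f1_e2 := hf1e2, f2_e1 := B.ne_comm (B.ph_mem hfQ) he hpfe },
          he, hfQ, rfl, hep, rfl, hfp'⟩

end Base

end CfsgLib.ExtraSpS3
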