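import Cfsg.Agent.Lib.ExtraSpS3.Fusion

/-!
Changes of generators in the case `S`, and the setting in which exactly two lines carry conjugates of `s`.
-/
set_option autoImplicit false
set_option maxRecDepth 10000

namespace CfsgLib.ExtraSpS3

/-- new generators `a, a'; b, b'; c` in place of `e₁, e₂; f₁, f₂; τ`, keeping `x` -/
def okRe (a a' b b' c : ℕ) : Bool :=
  decide (a < 192) && decide (a' < 192) && decide (b < 192) && decide (b' < 192) && decide (c < 192) &&
  mulS false a a == 0 && mulS false a' a' == 0 && mulS false b b == 0 && mulS false b' b' == 0 &&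
  mulS false c c == 0 && comS a 1 && comS a' 1 && comS b 1 && comS b' 1 &&
  comS a' a && comS b' b && comS b a && comS b' a' &&
  mulS false b a' == mulS false 1 (mulS false a' b) && mulS false b' a == mulS false 1 (mulS false a b') &&
  cjS c 32 == invS 32 &&
  cjS 32 a == a' && cjS 32 a' == mulS false a a' && cjS 32 b == b' && cjS 32 b' == mulS false b b' &&
  cjS c a == a && cjS c a' == mulS false a a' && cjS c b == b && cjS c b' == mulS false b b'

namespace Frame

variable {G : Type*} [Group G] [Finite G] {s : G} (F : Frame false G s)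

theorem exists_reframe {a a' b b' c : ℕ} (h : okRe a a' b b' c = true) :
    ∃ F' : Frame false G s, F'.el 2 = F.el a ∧ F'.el 8 = F.el b ∧ F'.el 10 = F.el a * F.el b ∧
      F'.el 96 = F.el c ∧ F'.el 4 = F.el a' ∧ F'.el 16 = F.el b' := by
  simp only [okRe, Bool.and_eq_true, decide_eq_true_eq, beq_iff_eq] at h
  obtain ⟨⟨⟨⟨⟨⟨⟨⟨⟨⟨⟨⟨⟨⟨⟨⟨⟨⟨⟨⟨⟨⟨⟨⟨⟨⟨⟨⟨la, la'⟩, lb⟩, lb'⟩, lc⟩, sa⟩, sa'⟩, sb⟩, sb'⟩, sc⟩, za⟩, za'⟩, zb⟩,
    zb'⟩, caa⟩, cbb⟩, cba⟩, cba'⟩, k1⟩, k2⟩, cx⟩, xa⟩, xa'⟩, xb⟩, xb'⟩, ca⟩, ca'⟩, cb⟩, cb'⟩ := h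
  have hsq : ∀ {m}, m < 192 → mulS false m m = 0 → F.el m * F.el m = 1 := fun hm e => by
    rw [← F.el_mul hm hm, e, F.el_zero]
  have hcom : ∀ {m n}, m < 192 → n < 192 → comS m n = true → F.el m * F.el n = F.el n * F.el m :=
    fun hm hn e => (F.comS_iff hm hn).2 e
  have hz : ∀ {m}, m < 192 → comS m 1 = true → F.el m * s = s * F.el m := fun hm _ => F.el_comm_s hm
  have hcj : ∀ {g m r}, g < 192 → m < 192 → cjS g m = r → F.el g * F.el m * (F.el g)⁻¹ = F.el r :=
    fun hg hm e => by rw [F.el_conj hg hm, e]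
  let Q : QGens G s :=
    { e1 := F.el a, e2 := F.el a', f1 := F.el b, f2 := F.el b', s_ne := F.s_ne, s_sq := F.s_sq
      e1_sq := hsq la sa, e2_sq := hsq la' sa', f1_sq := hsq lb sb, f2_sq := hsq lb' sb'
      e1_s := hz la za, e2_s := hz la' za', f1_s := hz lb zb, f2_s := hz lb' zb'
      e21 := hcom la' la caa, f21 := hcom lb' lb cbb, f1_e1 := hcom lb la cba, f2_e2 := hcom lb' la' cba'
      f1_e2 := by rw [← F.el_mul lb la', k1, F.el_mul (by omega) (mulS_lt false), F.el_mul la' lb, F.el_one]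
      f2_e1 := by rw [← F.el_mul lb' la, k2, F.el_mul (by omega) (mulS_lt false), F.el_mul la lb', F.el_one] }
  let L : LGens false G s :=
    { toQGens := Q, x := F.el 32, t := F.el c
      x_cube := by rw [F.el_x]; exact F.x_cube
      t_sq := hsq lc sc
      t_x := by rw [hcj lc (by omega) cx, F.el_inv (by omega)]
      x_s := by rw [F.el_comm_s (by omega), mul_inv_cancel_right]
      t_s := by rw [F.el_comm_s lc, mul_inv_cancel_right]
      x_e1 := hcj (by omega) la xa
      x_e2 := (hcj (by omega) la' xa').trans (F.el_mul la la')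
      x_f1 := hcj (by omega) lb xb
      x_f2 := (hcj (by omega) lb' xb').trans (F.el_mul lb lb')
      t_e1 := hcj lc la ca
      t_e2 := (hcj lc la' ca').trans (F.el_mul la la')
      t_f1 := (hcj lc lb cb).trans Q.elQ_eight.symm
      t_f2 := (hcj lc lb' cb').trans ((F.el_mul lb lb').trans (by simp [Q, QGens.elQ, bitN])) }
  have hs : ∀ p, L.el p * s = s * L.el p := fun p =>
    (((L.s_comm_elQ _).symm.mul_left
      (((show Commute L.x s from F.el_comm_s (by omega)).pow_left _).mul_left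
        ((show Commute L.t s from F.el_comm_s lc).pow_left _)))).eq
  have hsurj : ∀ g : G, g * s = s * g → ∃ m < 192, L.el m = g := by
    intro g hg
    let f : Fin 192 → Subgroup.centralizer ({s} : Set G) := fun m =>
      ⟨L.el m, Subgroup.mem_centralizer_singleton_iff.2 (hs m)⟩
    have hf : Function.Injective f := fun i j e => Fin.ext (L.el_inj i.2 j.2 (congrArg Subtype.val e))
    obtain ⟨m, hm⟩ := (hf.bijective_of_nat_card_le (by rw [F.card_centralizer]; simp)).2
      ⟨g, Subgroup.mem_centralizer_singleton_iff.2 hg⟩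
    exact ⟨m, m.2, congrArg Subtype.val hm⟩
  refine ⟨⟨L, hsurj⟩, ?_, ?_, ?_, ?_, ?_, ?_⟩
  · show L.el 2 = _; rw [L.el_of_lt (by omega), L.elQ_two]
  · show L.el 8 = _; rw [L.el_of_lt (by omega), L.elQ_eight]
  · show L.el 10 = _; rw [L.el_of_lt (by omega)]; simp [QGens.elQ, bitN, L, Q]
  · show L.el 96 = _; rw [L.el_t]
  · show L.el 4 = _; rw [L.el_of_lt (by omega), L.elQ_four]
  · show L.el 16 = _; rw [L.el_of_lt (by omega), L.elQ_sixteen]

end Frame

/-- exactly the first two lines carry conjugates of `s`, and `τ` is conjugate to `f₁` in the normaliser -/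
structure Two (G : Type*) [Group G] (s : G) where
  /-- coordinates -/
  F : Frame false G s
  /-- coordinates with the first two lines exchanged -/
  F2 : Frame false G s
  hA : IsConj s (F.el 2)
  hC : IsConj s (F.el 8)
  hB : ¬ IsConj s (F.el 10)
  hd : F.NConj (F.el 96) (F.el 8)
  hD : F.NConj (F.el 97) (F.el 10)
  e2 : F2.el 2 = F.el 8
  e4 : F2.el 4 = F.el 16
  e8 : F2.el 8 = F.el 2

theorem exists_two {G : Type*} [Group G] [Finite G] {s : G} (F : Frame false G s) (hA : IsConj s (F.el 2))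
    (h : (IsConj s (F.el 8) ∧ ¬ IsConj s (F.el 10)) ∨ (¬ IsConj s (F.el 8) ∧ IsConj s (F.el 10))) :
    Nonempty (Two G s) := by
  have step1 : ∃ F1 : Frame false G s, IsConj s (F1.el 2) ∧ IsConj s (F1.el 8) ∧ ¬ IsConj s (F1.el 10) := by
    rcases h with ⟨h8, h10⟩ | ⟨h8, h10⟩
    · exact ⟨F, hA, h8, h10⟩
    · obtain ⟨F', e2, e8, e10, -, -, -⟩ := F.exists_reframe (a := 2) (a' := 4) (b := 11) (b' := 21) (c := 96)
        (by decide +kernel)
      have c10 : IsConj (F.el 10) (F.el 11) :=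
        F.isConj_kind (by omega) (by omega) (by decide +kernel) (by decide +kernel)
      refine ⟨F', by rw [e2]; exact hA, by rw [e8]; exact h10.trans c10, fun h => h8 ?_⟩
      rw [e10, ← F.el_mul (by omega) (by omega)] at h
      exact h.trans (F.isConj_kind (mulS_lt false) (by omega) (by decide +kernel) (by decide +kernel))
  obtain ⟨F1, a2, a8, a10⟩ := step1
  have step2 : ∃ F2 : Frame false G s, IsConj s (F2.el 2) ∧ IsConj s (F2.el 8) ∧ ¬ IsConj s (F2.el 10) ∧
      F2.NConj (F2.el 96) (F2.el 8) ∧ F2.NConj (F2.el 97) (F2.el 10) := by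
    rcases F1.tau_split a2 with ⟨p, q⟩ | ⟨p, q⟩
    · exact ⟨F1, a2, a8, a10, p, q⟩
    · obtain ⟨F', e2, e8, e10, e96, -, -⟩ := F1.exists_reframe (a := 2) (a' := 4) (b := 8) (b' := 16) (c := 97)
        (by decide +kernel)
      rw [← F1.el_mul (by omega) (by omega)] at e10
      have hc8 : IsConj s (F'.el 8) := by rw [e8]; exact a8
      have hc10 : ¬ IsConj s (F'.el 10) := by rw [e10]; exact a10
      have hc2 : IsConj s (F'.el 2) := by rw [e2]; exact a2
      have h96 : IsConj s (F'.el 96) := by rw [e96]; exact a8.trans (p.isConj F1).symm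
      rcases F'.tau_split hc2 with ⟨p', q'⟩ | ⟨-, q'⟩
      · exact ⟨F', hc2, hc8, hc10, p', q'⟩
      · exact absurd (h96.trans (q'.isConj F')) hc10
  obtain ⟨F2, b2, b8, b10, bd, bD⟩ := step2
  obtain ⟨F3, e2, e8, -, -, e4, -⟩ := F2.exists_reframe (a := 8) (a' := 16) (b := 2) (b' := 4) (c := 96)
    (by decide +kernel)
  exact ⟨⟨F2, F3, b2, b8, b10, bd, bD, e2, e4, e8⟩⟩

end CfsgLib.ExtraSpS3
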