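import Cfsg.Agent.Lib.ExtraSpS3.STables
import Cfsg.Agent.Lib.ExtraSpS3.Inj

/-!
Elementary consequences of coordinates of kind `S` for the centraliser of `s`.
-/
set_option autoImplicit false
set_option maxRecDepth 10000

namespace CfsgLib.ExtraSpS3

namespace Frame

variable {G : Type*} [Group G] {s : G} (F : Frame false G s)

theorem el_inv {m : ℕ} (h : m < 192) : F.el (invS m) = (F.el m)⁻¹ := by
  refine (inv_eq_of_mul_eq_one_right ?_).symm
  rw [← F.el_mul h (invS_spec h).1, (invS_spec h).2, F.el_zero]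

theorem cjS_lt (g m : ℕ) : cjS g m < 192 := mulS_lt false

theorem el_conj {g m : ℕ} (hg : g < 192) (hm : m < 192) :
    F.el g * F.el m * (F.el g)⁻¹ = F.el (cjS g m) := by
  rw [cjS, F.el_mul (mulS_lt false) (invS_spec hg).1, F.el_mul hg hm, F.el_inv hg]

theorem comS_iff {m n : ℕ} (hm : m < 192) (hn : n < 192) :
    F.el m * F.el n = F.el n * F.el m ↔ comS m n = true := by
  rw [← F.el_mul hm hn, ← F.el_mul hn hm, comS, beq_iff_eq]
  exact ⟨F.el_inj (mulS_lt false) (mulS_lt false), congrArg F.el⟩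

theorem el_comm_s {m : ℕ} (hm : m < 192) : F.el m * s = s * F.el m := by
  have h : allB 192 (fun m => comS m 1) = true := by decide +kernel
  have := (F.comS_iff hm (by omega)).2 (allB_spec h hm)
  rwa [F.el_one] at this

theorem el_sq_iff {m : ℕ} (hm : m < 192) : F.el m * F.el m = 1 ↔ kind m < 7 := by
  rw [(kind_spec hm).1, ← F.el_mul hm hm, ← F.el_zero]
  exact ⟨F.el_inj (mulS_lt false) (by omega), congrArg F.el⟩

theorem el_ne_one {m : ℕ} (hm : m < 192) (h0 : m ≠ 0) : F.el m ≠ 1 := fun h => h0 (F.el_eq_one hm h)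

/-- an involution commuting with `s` has a symbol of kind at most `6` -/
theorem exists_kind {v : G} (hv : v * v = 1) (hv1 : v ≠ 1) (hvs : v * s = s * v) :
    ∃ m < 192, F.el m = v ∧ 1 ≤ kind m ∧ kind m < 7 := by
  obtain ⟨m, hm, rfl⟩ := F.surj v hvs
  refine ⟨m, hm, rfl, ?_, (F.el_sq_iff hm).1 hv⟩
  by_contra h
  exact hv1 (by rw [(kind_spec hm).2.1.1 (by omega), F.el_zero])

theorem conj_rep {m : ℕ} (hm : m < 192) (h7 : kind m < 7) :
    ∃ g : G, g * s = s * g ∧ g * F.el (repK (kind m)) * g⁻¹ = F.el m := by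
  obtain ⟨g, hg, he⟩ := kind_conj hm h7
  have hr : repK (kind m) < 192 := by
    unfold repK
    simp only [Bool.cond_eq_ite]
    split_ifs <;> omega
  exact ⟨F.el g, F.el_comm_s hg, by rw [F.el_conj hg hr, he]⟩

theorem isConj_kind {m n : ℕ} (hm : m < 192) (hn : n < 192) (h : kind m = kind n) (h7 : kind m < 7) :
    IsConj (F.el m) (F.el n) := by
  obtain ⟨g, -, hg⟩ := F.conj_rep hm h7
  obtain ⟨g', -, hg'⟩ := F.conj_rep hn (h ▸ h7)
  rw [h] at hg
  exact (isConj_iff.2 ⟨g, hg⟩).symm.trans (isConj_iff.2 ⟨g', hg'⟩)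

include F in
theorem card_centralizer : Nat.card (Subgroup.centralizer ({s} : Set G)) = 192 := by
  let f : Fin 192 → Subgroup.centralizer ({s} : Set G) := fun m =>
    ⟨F.el m, Subgroup.mem_centralizer_singleton_iff.2 (F.el_comm_s m.2)⟩
  have hf : Function.Bijective f := ⟨fun a b h => Fin.ext (F.el_inj a.2 b.2 (congrArg Subtype.val h)),
    fun g => by
      obtain ⟨m, hm, he⟩ := F.surj g (Subgroup.mem_centralizer_singleton_iff.1 g.2)
      exact ⟨⟨m, hm⟩, Subtype.ext he⟩⟩
  rw [← Nat.card_eq_of_bijective f hf, Nat.card_eq_fintype_card, Fintype.card_fin]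

/-- the elements with symbols in a mask -/
def carrier (k : ℕ) : Set G := {g | ∃ m < 192, k.testBit m = true ∧ F.el m = g}

theorem mem_carrier {k m : ℕ} (hm : m < 192) : F.el m ∈ F.carrier k ↔ k.testBit m = true := by
  constructor
  · rintro ⟨n, hn, hb, he⟩
    rwa [← F.el_inj hn hm he]
  · exact fun h => ⟨m, hm, h, rfl⟩

/-- the subgroup with symbols in a mask -/
def sub (k : ℕ) (h : (k.testBit 0 && allB 192 fun m => !k.testBit m ||
    (k.testBit (invS m) && allB 192 fun n => !k.testBit n || k.testBit (mulS false m n))) = true) :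
    Subgroup G where
  carrier := F.carrier k
  one_mem' := ⟨0, by omega, (Bool.and_eq_true _ _ ▸ h).1, F.el_zero⟩
  mul_mem' := by
    rintro _ _ ⟨m, hm, hmb, rfl⟩ ⟨n, hn, hnb, rfl⟩
    refine ⟨_, mulS_lt false, ?_, F.el_mul hm hn⟩
    have h1 := allB_spec (Bool.and_eq_true _ _ ▸ h).2 hm
    rw [hmb, Bool.not_true, Bool.false_or, Bool.and_eq_true] at h1
    simpa [hnb] using allB_spec h1.2 hn
  inv_mem' := by
    rintro _ ⟨m, hm, hmb, rfl⟩
    refine ⟨_, (invS_spec hm).1, ?_, F.el_inv hm⟩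
    have h1 := allB_spec (Bool.and_eq_true _ _ ▸ h).2 hm
    rw [hmb, Bool.not_true, Bool.false_or, Bool.and_eq_true] at h1
    exact h1.1

/-- the first line -/
def lineE : Subgroup G := F.sub maskE (by decide +kernel)

/-- the second line -/
def lineF : Subgroup G := F.sub maskF (by decide +kernel)

theorem mem_lineE {g : G} : g ∈ F.lineE ↔ ∃ m < 8, F.el m = g := by
  constructor
  · rintro ⟨m, hm, hb, he⟩
    have hd : allB 192 (fun m => decide (m < 8) || !maskE.testBit m) = true := by decide +kernel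
    have := allB_spec hd hm
    rw [hb, Bool.not_true, Bool.or_false, decide_eq_true_eq] at this
    exact ⟨m, this, he⟩
  · rintro ⟨m, hm, rfl⟩
    exact ⟨m, by omega, allB_spec (show allB 8 (fun m => maskE.testBit m) = true by decide +kernel) hm, rfl⟩

theorem lineE_mem {m : ℕ} (hm : m < 8) : F.el m ∈ F.lineE := F.mem_lineE.2 ⟨m, hm, rfl⟩

theorem s_mem_lineE : s ∈ F.lineE := by
  have h := F.lineE_mem (m := 1) (by omega)
  rwa [F.el_one] at h

theorem lineE_sq {g : G} (hg : g ∈ F.lineE) : g * g = 1 := by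
  obtain ⟨m, hm, rfl⟩ := F.mem_lineE.1 hg
  rw [← F.el_mul (by omega) (by omega), ← F.el_zero]
  exact congrArg F.el (eq_of_beq (allB_spec (show allB 8 (fun m => mulS false m m == 0) = true by
    decide +kernel) hm))

theorem lineE_comm {g h : G} (hg : g ∈ F.lineE) (hh : h ∈ F.lineE) : g * h = h * g := by
  obtain ⟨m, hm, rfl⟩ := F.mem_lineE.1 hg
  obtain ⟨n, hn, rfl⟩ := F.mem_lineE.1 hh
  exact (F.comS_iff (by omega) (by omega)).2
    (allB_spec (allB_spec (show allB 8 (fun m => allB 8 fun n => comS m n) = true by decide +kernel) hm) hn)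

theorem card_lineE : Nat.card F.lineE = 8 := by
  let f : Fin 8 → F.lineE := fun m => ⟨F.el m, F.lineE_mem m.2⟩
  have hf : Function.Bijective f := ⟨fun a b h => Fin.ext (F.el_inj (by omega) (by omega)
    (congrArg Subtype.val h)), fun g => by
      obtain ⟨m, hm, he⟩ := F.mem_lineE.1 g.2
      exact ⟨⟨m, hm⟩, Subtype.ext he⟩⟩
  rw [← Nat.card_eq_of_bijective f hf, Nat.card_eq_fintype_card, Fintype.card_fin]

theorem lineE_self_cent {g : G} (h : ∀ a ∈ F.lineE, g * a = a * g) : g ∈ F.lineE := by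
  obtain ⟨m, hm, rfl⟩ := F.surj g (h s F.s_mem_lineE)
  have hd : allB 192 (fun m => decide (m < 8) || !comS m 2 || !comS m 4) = true := by decide +kernel
  have := allB_spec hd hm
  rw [(F.comS_iff hm (by omega)).1 (h _ (F.lineE_mem (m := 2) (by omega))),
    (F.comS_iff hm (by omega)).1 (h _ (F.lineE_mem (m := 4) (by omega)))] at this
  simp only [Bool.not_true, Bool.or_false, decide_eq_true_eq] at this
  exact F.lineE_mem this

/-- elements commuting with `s` preserve each mask stable under conjugation -/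
theorem conj_mask {k : ℕ} (h : allB 192 (fun g => allB 192 fun m => !k.testBit m || k.testBit (cjS g m)) = true)
    {g v : G} (hg : g * s = s * g) (hv : v ∈ F.carrier k) : g * v * g⁻¹ ∈ F.carrier k := by
  obtain ⟨i, hi, rfl⟩ := F.surj g hg
  obtain ⟨m, hm, hb, rfl⟩ := hv
  rw [F.el_conj hi hm, F.mem_carrier (cjS_lt _ _)]
  simpa [hb] using allB_spec (allB_spec h hi) hm

theorem conj_lineE {g v : G} (hg : g * s = s * g) (hv : v ∈ F.lineE) : g * v * g⁻¹ ∈ F.lineE :=
  F.conj_mask (k := maskE) (by decide +kernel) hg hv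

end Frame

end CfsgLib.ExtraSpS3
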