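import Cfsg.Agent.Lib.ExtraSpS3.Tables

/-!
Facts about the symbols in the case `S`: kinds of elements, the three elementary subgroups of order `8`.
Kinds: `0` identity, `1` the centre, `2`, `3`, `4` the three classes inside the normal subgroup,
`5`, `6` the two classes outside, `7` no involution.
-/
set_option autoImplicit false
set_option maxRecDepth 10000

namespace CfsgLib.ExtraSpS3

/-- packed kinds -/
def kindLit : ℕ := 247330401411910519513709955134121366731992632300012869741127358400173409066048969653071659327312691789053890965896945212137456744547272075897039593515897416631348570316416136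

/-- packed inverses -/
def invLit : ℕ := 1616290523222375913482590050189707979438838735164251865143498586620865698974091649003451792705187323265413355827361221222182487852594158646566547429942972737092144173967595488875095478210180194568967187727274766234109040140061020762720259077760754107023833552033059363050771037823667643700337929538874903270820299853076185699852693609697072014135695072044475451212966090150445061800331279379254225745101178258057055972877605894534225031683931599654937930160537856

/-- the kind of a symbol -/
def kind (m : ℕ) : ℕ := (kindLit >>> (3 * m)) % 8

/-- the inverse of a symbol -/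
def invS (m : ℕ) : ℕ := (invLit >>> (8 * m)) % 256

/-- conjugation of symbols -/
def cjS (g m : ℕ) : ℕ := mulS false (mulS false g m) (invS g)

/-- two symbols commute -/
def comS (m n : ℕ) : Bool := mulS false m n == mulS false n m

/-- the symbols of the first line, as a mask -/
def maskE : ℕ := 255

/-- the symbols of the second line, as a mask -/
def maskF : ℕ := 50529027

/-- the symbols of the third line, as a mask -/
def maskB : ℕ := 3224374275

/-- the symbols of an elementary subgroup of order sixteen, as a mask -/
def maskA : ℕ := 305424566492489021423111928549135

/-- the line of a symbol of kind `2`, `3` or `4` -/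
def lineOf (m : ℕ) : ℕ :=
  bif kind m == 2 then maskE else bif kind m == 3 then maskF else maskB

theorem invS_spec {m : ℕ} (h : m < 192) : invS m < 192 ∧ mulS false m (invS m) = 0 := by
  have hd : allB 192 (fun m => decide (invS m < 192) && mulS false m (invS m) == 0) = true := by
    decide +kernel
  simpa using allB_spec hd h

theorem kind_spec {m : ℕ} (h : m < 192) : (kind m < 7 ↔ mulS false m m = 0) ∧ (kind m = 0 ↔ m = 0) ∧
    (kind m = 1 ↔ m = 1) := by
  have hd : allB 192 (fun m => (decide (kind m < 7) == (mulS false m m == 0)) &&
      ((kind m == 0) == (m == 0)) && ((kind m == 1) == (m == 1))) = true := by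
    decide +kernel
  have := allB_spec hd h
  simp only [Bool.and_eq_true, beq_iff_eq] at this
  obtain ⟨⟨h1, h2⟩, h3⟩ := this
  rw [Bool.eq_iff_iff, decide_eq_true_eq, beq_iff_eq] at h1
  rw [Bool.eq_iff_iff, beq_iff_eq, beq_iff_eq] at h2 h3
  exact ⟨h1, h2, h3⟩

/-- a class representative of each kind -/
def repK (k : ℕ) : ℕ :=
  bif k == 1 then 1 else bif k == 2 then 2 else bif k == 3 then 8 else bif k == 4 then 10 else
    bif k == 5 then 96 else bif k == 6 then 97 else 0

theorem kind_conj {m : ℕ} (h : m < 192) (h7 : kind m < 7) :
    ∃ g < 192, cjS g (repK (kind m)) = m := by
  have hd : allB 192 (fun m => decide (7 ≤ kind m) ||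
      anyB 192 fun g => cjS g (repK (kind m)) == m) = true := by decide +kernel
  have := allB_spec hd h
  rw [Bool.or_eq_true, decide_eq_true_eq] at this
  obtain ⟨g, hg, he⟩ := anyB_spec (this.resolve_left (by omega))
  exact ⟨g, hg, eq_of_beq he⟩

end CfsgLib.ExtraSpS3
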