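import Mathlib.Data.Nat.Bitwise
import Mathlib.Data.Fintype.Basic
import Mathlib.Tactic.IntervalCases

/-!
Symbols for the groups `2^{1+4}_+.Sym(3)` in which a `3`-element fixes only the centre of the normal
`2`-subgroup.  A symbol `q + 32 i + 96 j` stands for `z^a e₁^b e₂^c f₁^d f₂^e x^i τ^j`, where `a, ..., e`
are the bits of `q`.  The Boolean `P` selects one of the two possible actions of `τ`.
-/
set_option autoImplicit false

namespace CfsgLib.ExtraSpS3

/-- a bit of a symbol -/
def bitN (m k : ℕ) : ℕ := (m >>> k) % 2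

/-- the product in the extraspecial group -/
def qm (p q : ℕ) : ℕ :=
  (p ^^^ q) ^^^ ((((p >>> 3) &&& (q >>> 2)) ^^^ ((p >>> 4) &&& (q >>> 1))) % 2)

/-- the endomorphism with given images of the five generators -/
def lin (i₀ i₁ i₂ i₃ i₄ p : ℕ) : ℕ :=
  qm (qm (qm (qm (bitN p 0 * i₀) (bitN p 1 * i₁)) (bitN p 2 * i₂)) (bitN p 3 * i₃)) (bitN p 4 * i₄)

/-- the action of `x` -/
def fx (p : ℕ) : ℕ := (517352783225582348105983988674271241028640084000 >>> (5 * (p % 32))) % 32

/-- the action of `τ` -/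
def ft (P : Bool) (p : ℕ) : ℕ :=
  ((bif P then 755844328824381898074379744962108036363757652000 else 988712753968961329223996099384549122487212935200) >>>
    (5 * (p % 32))) % 32

/-- iterates of `fx` -/
def fxPow (i p : ℕ) : ℕ :=
  bif i == 0 then p else bif i == 1 then fx p else fx (fx p)

/-- iterates of `ft` -/
def ftPow (P : Bool) (j p : ℕ) : ℕ := bif j == 0 then p else ft P p

/-- the product of two symbols -/
def mulS (P : Bool) (m n : ℕ) : ℕ :=
  qm (m % 32) (fxPow (m % 96 / 32) (ftPow P (m / 96) (n % 32))) +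
    32 * ((m % 96 / 32 + (bif m / 96 == 0 then n % 96 / 32 else 3 - n % 96 / 32)) % 3) +
    96 * ((m / 96 + n / 96) % 2)

/-- a bounded Boolean universal quantifier -/
def allB (k : ℕ) (f : ℕ → Bool) : Bool := (List.range k).all f

/-- a bounded Boolean existential quantifier -/
def anyB (k : ℕ) (f : ℕ → Bool) : Bool := (List.range k).any f

theorem allB_spec {k : ℕ} {f : ℕ → Bool} (h : allB k f = true) {i : ℕ} (hi : i < k) : f i = true :=
  List.all_eq_true.1 h i (List.mem_range.2 hi)

theorem anyB_spec {k : ℕ} {f : ℕ → Bool} (h : anyB k f = true) : ∃ i < k, f i = true := by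
  obtain ⟨i, hi, h⟩ := List.any_eq_true.1 h
  exact ⟨i, List.mem_range.1 hi, h⟩

theorem qm_lt {p q : ℕ} (hp : p < 32) (hq : q < 32) : qm p q < 32 := by
  have h : allB 32 (fun p => allB 32 fun q => decide (qm p q < 32)) = true := by decide +kernel
  exact of_decide_eq_true (allB_spec (allB_spec h hp) hq)

theorem bitN_lt (m k : ℕ) : bitN m k < 2 := Nat.mod_lt _ (by omega)

theorem lin_lt {a b c d e p : ℕ} (ha : a < 32) (hb : b < 32) (hc : c < 32) (hd : d < 32)
    (he : e < 32) : lin a b c d e p < 32 := by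
  have h : ∀ {i k : ℕ}, i < 32 → bitN p k * i < 32 := fun {i k} hi => by
    rcases Nat.eq_zero_or_pos (bitN p k) with h0 | h0
    · simp [h0]
    · have := bitN_lt p k
      rw [show bitN p k = 1 by omega]
      omega
  exact qm_lt (qm_lt (qm_lt (qm_lt (h ha) (h hb)) (h hc)) (h hd)) (h he)

theorem fx_lt (p : ℕ) : fx p < 32 := by
  exact Nat.mod_lt _ (by omega)

theorem ft_lt (P : Bool) (p : ℕ) : ft P p < 32 := by
  exact Nat.mod_lt _ (by omega)

theorem mulS_lt (P : Bool) {m n : ℕ} : mulS P m n < 192 := by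
  have h1 : fxPow (m % 96 / 32) (ftPow P (m / 96) (n % 32)) < 32 := by
    have h0 : ftPow P (m / 96) (n % 32) < 32 := by
      unfold ftPow
      cases (m / 96 == 0)
      · exact ft_lt _ _
      · exact Nat.mod_lt _ (by omega)
    unfold fxPow
    cases (m % 96 / 32 == 0)
    · cases (m % 96 / 32 == 1) <;> exact fx_lt _
    · exact h0
  have h2 := qm_lt (Nat.mod_lt m (by omega : 0 < 32)) h1
  unfold mulS
  omega

theorem qm_zero (p : ℕ) : qm 0 p = p ∧ qm p 0 = p := by simp [qm]

theorem lin_mod (a b c d e p : ℕ) : lin a b c d e (p % 32) = lin a b c d e p := by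
  have h : ∀ k < 5, bitN (p % 32) k = bitN p k := fun k hk => by
    interval_cases k <;> simp only [bitN, Nat.shiftRight_eq_div_pow] <;> omega
  simp only [lin, h _ (by omega : 0 < 5), h _ (by omega : 1 < 5), h _ (by omega : 2 < 5),
    h _ (by omega : 3 < 5), h _ (by omega : 4 < 5)]

theorem fx_eq (p : ℕ) : fx p = lin 1 4 6 16 24 p := by
  have h : allB 32 (fun p => fx p == lin 1 4 6 16 24 p) = true := by decide +kernel
  rw [← lin_mod, ← eq_of_beq (allB_spec h (Nat.mod_lt p (by omega)))]
  simp [fx]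

theorem ft_eq (P : Bool) (p : ℕ) :
    ft P p = lin 1 2 6 (bif P then 11 else 8) (bif P then 31 else 24) p := by
  have h : allB 32 (fun p => ft P p == lin 1 2 6 (bif P then 11 else 8) (bif P then 31 else 24) p) = true := by
    cases P <;> decide +kernel
  rw [← lin_mod, ← eq_of_beq (allB_spec h (Nat.mod_lt p (by omega)))]
  simp [ft]

/-- a word in the generators multiplies like `qm` -/
theorem qm_word {p q : ℕ} (hp : p < 32) (hq : q < 32) :
    qm (bitN p 0 * 1) (qm (bitN p 1 * 2) (qm (bitN p 2 * 4) (qm (bitN p 3 * 8) (qm (bitN p 4 * 16) q)))) =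
      qm p q := by
  have h : allB 32 (fun p => allB 32 fun q =>
      qm (bitN p 0 * 1) (qm (bitN p 1 * 2) (qm (bitN p 2 * 4) (qm (bitN p 3 * 8) (qm (bitN p 4 * 16) q)))) ==
        qm p q) = true := by decide +kernel
  exact eq_of_beq (allB_spec (allB_spec h hp) hq)

end CfsgLib.ExtraSpS3
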