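import Cfsg.Agent.Lib.ExtraSpS3.TypePFacts
import Cfsg.Agent.Lib.MathieuTwelve.Main
import Mathlib.LinearAlgebra.Matrix.ProjectiveSpecialLinearGroup
import Cfsg.Agent.Lib.DimThreeMax.AutCard

/-!
The branch of `S3344` in which the involution centraliser is that of the Mathieu group of degree
twelve: the group is `M₁₂` or has a normal elementary subgroup of order eight with quotient `L₃(2)`.
-/
set_option autoImplicit false
set_option maxRecDepth 100000

namespace CfsgLib.ExtraSpS3

open CfsgLib.MTwelveCent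

attribute [local irreducible] mulN typ cntN inS inQ all192 isTwoSq threeK1 finv

variable {G : Type*} [Group G] [Finite G] {t : G}

theorem mul_mem_two_index {N : Subgroup G} (h : N.index = 2) (x : G) : x * x ∈ N :=
  (Subgroup.mul_mem_iff_of_index_two h).2 Iff.rfl

theorem el_mem_of_twoSq (M : Model G t) {N : Subgroup G} (h : N.index = 2) {i : Fin 192}
    (hi : isTwoSq i.val = true) : M.el i ∈ N := by
  unfold isTwoSq at hi
  simp only [List.any_eq_true, beq_iff_eq] at hi
  obtain ⟨a, ha, b, hb, hab⟩ := hi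
  obtain ⟨c, hc, rfl⟩ := sqList_spec ha
  obtain ⟨d, hd, rfl⟩ := sqList_spec hb
  have e : M.el i = M.el ⟨c, hc⟩ * M.el ⟨c, hc⟩ * (M.el ⟨d, hd⟩ * M.el ⟨d, hd⟩) := by
    rw [← M.map_mul, ← M.map_mul, ← M.map_mul]
    exact M.el_eq_iff.2 hab.symm
  rw [e]
  exact N.mul_mem (mul_mem_two_index h _) (mul_mem_two_index h _)

theorem twoSq_facts (i : Fin 192) : (inQ i.val = true → isTwoSq i.val = true) ∧
    (inQ i.val = false → mulN (mulN i i) (mulN i i) = 0 → isTwoSq (mulN i.val 9) = true) := by
  have h := all192_spec twoSq_ok i.isLt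
  simp only [Bool.and_eq_true, Bool.or_eq_true, Bool.not_eq_true', bne_iff_ne] at h
  refine ⟨fun e => h.1.resolve_left (by simp [e]), fun e e0 => ?_⟩
  rcases h.2 with (h1 | h1) | h1
  · simp [e] at h1
  · exact absurd e0 h1
  · exact h1

theorem mem_of_index_two (M : Model G t) (hA : IsConj t (M.el 1)) (N : Subgroup G) (hN : N.Normal)
    (hi : N.index = 2) : M.el 9 ∈ N := by
  by_contra h9
  obtain ⟨g, hg⟩ := isConj_iff.1 hA
  obtain ⟨q2, q184, c2, c184, hnc, hrel⟩ := pair_facts
  have hback : g⁻¹ * M.el 1 * g = t := by rw [← hg]; simp [mul_assoc]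
  have key : ∀ a : Fin 192, inQ a.val = true → comN a.val 1 = true →
      ∃ i : Fin 192, inQ i.val = true ∧ M.el i = g⁻¹ * M.el a * g := by
    intro a ha hc
    have hct : (g⁻¹ * M.el a * g) * t = t * (g⁻¹ * M.el a * g) := by
      have h := conj_commute (M.commute_iff.2 hc : M.el a * M.el 1 = M.el 1 * M.el a) g⁻¹
      rwa [inv_inv, hback] at h
    obtain ⟨i, hie⟩ := (M.mem_iff _).1 hct
    have hiN : M.el i ∈ N := by
      rw [hie]
      simpa using hN.conj_mem _ (el_mem_of_twoSq M hi ((twoSq_facts a).1 ha)) g⁻¹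
    refine ⟨i, ?_, hie⟩
    by_contra hiQ
    have h4 : mulN (mulN i i) (mulN i i) = 0 := by
      have e4 : M.el a * M.el a * (M.el a * M.el a) = 1 := by
        have hq : ∀ a : Fin 192, inQ a.val = true → mulN (mulN a a) (mulN a a) = 0 := by
          decide +kernel
        rw [← M.map_mul, ← M.map_mul, ← M.map_zero]
        exact M.el_eq_iff.2 (hq a ha)
      have e : M.el i * M.el i * (M.el i * M.el i) = 1 := by
        have h := congrArg (MulAut.conj g⁻¹) e4
        rw [map_mul, map_mul, map_one, MulAut.conj_apply, inv_inv, ← hie] at h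
        exact h
      rw [← M.map_mul, ← M.map_mul, ← M.map_zero, M.el_eq_iff] at e
      exact e
    have h2 := el_mem_of_twoSq M hi (i := fmul i 9) ((twoSq_facts i).2 (Bool.eq_false_iff.2 hiQ) h4)
    rw [M.map_mul] at h2
    exact h9 ((N.mul_mem_cancel_left hiN).1 h2)
  obtain ⟨p, hp, hpe⟩ := key 2 q2 c2
  obtain ⟨q, hq, hqe⟩ := key 184 q184 c184
  have hcase := all192_two (P := fun a b => !inQ a || !inQ b ||
    mulN a b == mulN b a || mulN a b == mulN (mulN b a) 7) comm_Q p.isLt q.isLt
  simp only [Bool.or_eq_true, Bool.not_eq_true', beq_iff_eq, hp, hq, Bool.false_eq_true, reduceCtorEq,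
    false_or] at hcase
  have hconj : ∀ x y : G, MulAut.conj g⁻¹ x * MulAut.conj g⁻¹ y = MulAut.conj g⁻¹ (x * y) :=
    fun x y => (map_mul _ x y).symm
  have hp' : M.el p = MulAut.conj g⁻¹ (M.el 2) := by rw [MulAut.conj_apply, inv_inv, hpe]
  have hq' : M.el q = MulAut.conj g⁻¹ (M.el 184) := by rw [MulAut.conj_apply, inv_inv, hqe]
  rcases hcase with h | h
  · have e : M.el p * M.el q = M.el q * M.el p := by
      rw [← M.map_mul, ← M.map_mul]; exact M.el_eq_iff.2 h
    rw [hp', hq', hconj, hconj, (MulAut.conj g⁻¹).injective.eq_iff, M.commute_iff] at e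
    rw [show comN (2 : Fin 192).val (184 : Fin 192).val = comN 2 184 from rfl, hnc] at e
    exact Bool.noConfusion e
  · have e : M.el p * M.el q = M.el q * M.el p * MulAut.conj g⁻¹ (M.el 1) := by
      rw [MulAut.conj_apply, inv_inv, hback]
      calc M.el p * M.el q = M.el q * M.el p * M.el 7 := by
            rw [← M.map_mul, ← M.map_mul, ← M.map_mul]; exact M.el_eq_iff.2 h
        _ = _ := congrArg (M.el q * M.el p * ·) M.map_seven
    rw [hp', hq', hconj, hconj, hconj, (MulAut.conj g⁻¹).injective.eq_iff] at e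
    have e' : M.el 2 * M.el 184 = M.el 184 * M.el 2 * t := by
      calc M.el 2 * M.el 184 = M.el 184 * M.el 2 * M.el 7 := by
            rw [← M.map_mul, ← M.map_mul, ← M.map_mul]; exact M.el_eq_iff.2 hrel
        _ = _ := congrArg (M.el 184 * M.el 2 * ·) M.map_seven
    exact M.el_ne_t (i := 1) (by rw [show typ (1 : Fin 192).val = 2 from reps.1]; decide)
      (mul_left_cancel (e.symm.trans e'))

theorem det_aux : ∀ x : ZMod 2, x ≠ 0 → x = 1 := by decide

/-- a group of order eight and exponent two has automorphisms in `SL₃(2)` -/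
theorem exists_autHom {V : Type*} [Group V] [Finite V] (h2 : ∀ v : V, v * v = 1)
    (hc : Nat.card V = 8) :
    ∃ f : MulAut V →* Matrix.SpecialLinearGroup (Fin 3) (ZMod 2), Function.Injective f := by
  have hinv : ∀ v : V, v⁻¹ = v := fun v => inv_eq_of_mul_eq_one_right (h2 v)
  let iC : CommGroup V :=
    { (inferInstance : Group V) with
      mul_comm := fun a b => by
        calc a * b = (a * b)⁻¹ := (hinv _).symm
          _ = b * a := by rw [mul_inv_rev, hinv, hinv] }
  let iM : Module (ZMod 2) (Additive V) := AddCommGroup.zmodModule (fun x => by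
    rw [two_nsmul]; exact h2 (Additive.toMul x))
  have : Fact (Nat.Prime 2) := ⟨Nat.prime_two⟩
  have hfin : Module.Finite (ZMod 2) (Additive V) := Module.Finite.of_finite
  have hr : Module.finrank (ZMod 2) (Additive V) = 3 := by
    have h := Module.natCard_eq_pow_finrank (K := ZMod 2) (V := Additive V)
    rw [show Nat.card (Additive V) = 8 from hc, Nat.card_zmod] at h
    exact (Nat.pow_right_injective le_rfl (show 2 ^ 3 = 2 ^ _ from h)).symm
  let b := Module.finBasisOfFinrankEq (ZMod 2) (Additive V) hr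
  let f : MulAut V →* Matrix (Fin 3) (Fin 3) (ZMod 2) :=
    { toFun := fun α => LinearMap.toMatrix b b ((MonoidHom.toAdditive α.toMonoidHom).toZModLinearMap 2)
      map_one' := by
        rw [← LinearMap.toMatrix_id b]
        rfl
      map_mul' := fun α β => by
        rw [← LinearMap.toMatrix_comp b b b]
        rfl }
  have hf : Function.Injective f := by
    intro α β e
    refine MulEquiv.ext fun v => ?_
    exact congrArg (fun L : Additive V →ₗ[ZMod 2] Additive V => Additive.toMul (L (Additive.ofMul v)))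
      ((LinearMap.toMatrix b b).injective e)
  have hdet : ∀ α, (f α).det = 1 := fun α => by
    have hu : IsUnit (f α).det :=
      (Matrix.isUnit_iff_isUnit_det _).1 ((Group.isUnit α).map f)
    exact det_aux _ hu.ne_zero
  exact ⟨{ toFun := fun α => ⟨f α, hdet α⟩
           map_one' := Subtype.ext (map_one f)
           map_mul' := fun α β => Subtype.ext (map_mul f α β) },
    fun α β e => hf (congrArg Subtype.val e)⟩

theorem quotient_linear (E : Subgroup G) [E.Normal] (hsq : ∀ x ∈ E, x * x = 1) (hE : Nat.card E = 8)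
    (hG : Nat.card G = 1344) (hC : ∀ g, (∀ x ∈ E, g * x = x * g) → g ∈ E) :
    Nonempty (G ⧸ E ≃* Matrix.ProjectiveSpecialLinearGroup (Fin 3) (ZMod 2)) := by
  have h2 : ∀ v : E, v * v = 1 := fun v => Subtype.ext (hsq v v.2)
  obtain ⟨f, hf⟩ := exists_autHom h2 hE
  let φ : G →* Matrix.ProjectiveSpecialLinearGroup (Fin 3) (ZMod 2) :=
    (QuotientGroup.mk' _).comp (f.comp MulAut.conjNormal)
  have hinj : Function.Injective (QuotientGroup.mk'
      (Subgroup.center (Matrix.SpecialLinearGroup (Fin 3) (ZMod 2)))) := by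
    refine ((Nat.bijective_iff_surjective_and_card _).2
      ⟨QuotientGroup.mk'_surjective _, ?_⟩).1
    exact CfsgLib.DimThreeMax.card_sl32.trans CfsgLib.DimThreeMax.card_l32.symm
  have hker : φ.ker = E := by
    ext g
    have h1 : g ∈ φ.ker ↔ ∀ x ∈ E, g * x = x * g := by
      rw [MonoidHom.mem_ker]
      show QuotientGroup.mk' _ (f (MulAut.conjNormal g)) = 1 ↔ _
      rw [← map_one (QuotientGroup.mk' (Subgroup.center (Matrix.SpecialLinearGroup (Fin 3) (ZMod 2)))),
        hinj.eq_iff, ← map_one f, hf.eq_iff, MulEquiv.ext_iff]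
      constructor
      · intro h x hx
        have := congrArg Subtype.val (h ⟨x, hx⟩)
        simp only [MulAut.conjNormal_apply, MulAut.one_apply] at this
        exact mul_inv_eq_iff_eq_mul.1 this
      · intro h x
        refine Subtype.ext ?_
        simp only [MulAut.conjNormal_apply, MulAut.one_apply]
        exact mul_inv_eq_iff_eq_mul.2 (h x x.2)
    rw [h1]
    refine ⟨hC g, fun hg x hx => ?_⟩
    exact (congrArg Subtype.val (mul_comm_of_sq h2 ⟨g, hg⟩ ⟨x, hx⟩) : _)
  have hcard : Nat.card (G ⧸ E) = 168 := by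
    have h := Subgroup.card_eq_card_quotient_mul_card_subgroup E
    rw [hG, hE] at h
    omega
  let ψ := QuotientGroup.lift E φ (le_of_eq hker.symm)
  have hψ : Function.Injective ψ := by
    intro a b
    induction a using QuotientGroup.induction_on with
    | _ x =>
      induction b using QuotientGroup.induction_on with
      | _ y =>
        intro h
        rw [QuotientGroup.eq, ← hker, MonoidHom.mem_ker, map_mul, map_inv, inv_mul_eq_one]
        exact h
  exact ⟨MulEquiv.ofBijective ψ ((Nat.bijective_iff_injective_and_card _).2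
    ⟨hψ, hcard.trans CfsgLib.DimThreeMax.card_l32.symm⟩)⟩
where
  mul_comm_of_sq {V : Type _} [Group V] (h2 : ∀ v : V, v * v = 1) (a b : V) : a * b = b * a := by
    have hinv : ∀ v : V, v⁻¹ = v := fun v => inv_eq_of_mul_eq_one_right (h2 v)
    calc a * b = (a * b)⁻¹ := (hinv _).symm
      _ = b * a := by rw [mul_inv_rev, hinv, hinv]

theorem mem_of_t (M : Model G t) (hp : Pattern M true) {N : Subgroup G} (hN : N.Normal) (ht : t ∈ N)
    (i : Fin 192) : M.el i ∈ N := by
  have h1 : ∀ a : Fin 192, k1 true a.val = true → M.el a ∈ N := fun a ha => by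
    obtain ⟨g, hg⟩ := isConj_iff.1 ((hp.first a).2 ha)
    rw [← hg]
    exact hN.conj_mem t ht g
  have h := all192_spec threeK1_ok i.isLt
  unfold threeK1 at h
  simp only [Bool.and_eq_true, beq_iff_eq, decide_eq_true_eq] at h
  obtain ⟨⟨⟨⟨⟨ha, hb, hc⟩, ha1⟩, hb1⟩, hc1⟩, e⟩ := h
  have e' : M.el i = M.el ⟨_, ha⟩ * M.el ⟨_, hb⟩ * M.el ⟨_, hc⟩ := by
    rw [← M.map_mul, ← M.map_mul]
    exact M.el_eq_iff.2 e.symm
  rw [e']
  exact N.mul_mem (N.mul_mem (h1 _ ha1) (h1 _ hb1)) (h1 _ hc1)

theorem odd_normal_trivial (M : Model G t) (hp : Pattern M true) {N : Subgroup G} (hN : N.Normal)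
    (hodd : Odd (Nat.card N)) : N = ⊥ := by
  have hsq : ∀ w ∈ N, w * w * (w * w) = 1 → w = 1 := by
    intro w hw h
    have h4 : orderOf w ∣ 2 ^ 2 := orderOf_dvd_of_pow_eq_one (by
      rw [show (2 : ℕ) ^ 2 = 2 + 2 from rfl, pow_add, pow_two, h])
    have hd : orderOf w ∣ Nat.card N := by
      have := orderOf_dvd_natCard (⟨w, hw⟩ : N)
      rwa [← Subgroup.orderOf_coe] at this
    have hco : Nat.Coprime (2 ^ 2) (Nat.card N) := (Nat.coprime_two_left.2 hodd).pow_left _
    exact orderOf_eq_one_iff.1 (Nat.dvd_one.1 (hco ▸ Nat.dvd_gcd h4 hd))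
  have hfix : ∀ o ∈ N, o * t = t * o → o = 1 := by
    intro o ho hot
    obtain ⟨i, rfl⟩ := (M.mem_iff o).1 hot
    have h := all192_spec comm_invol i.isLt
    simp only [Bool.or_eq_true, List.any_eq_true, List.mem_range, Bool.and_eq_true, beq_iff_eq,
      bne_iff_ne] at h
    rcases h with (h | h) | ⟨j, hj, hw, hw4⟩
    · exact M.eq_one_iff.2 (Fin.ext h)
    · have : M.el i = t := (M.el_eq_iff.2 h).trans M.map_seven
      exact hsq _ ho (by rw [this, M.mul_self, one_mul])
    · exfalso
      have hi' : Fin.ofNat 192 i.val = i := Fin.ext (by simp [Fin.ofNat, Nat.mod_eq_of_lt i.isLt])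
      have hj' : Fin.ofNat 192 j = (⟨j, hj⟩ : Fin 192) := Fin.ext (by simp [Fin.ofNat, Nat.mod_eq_of_lt hj])
      rw [hi', hj'] at hw hw4
      set w := fmul (fmul (fmul i ⟨j, hj⟩) (finv i)) (finv ⟨j, hj⟩) with hwd
      have hwN : M.el w ∈ N := by
        rw [hwd, M.map_mul, M.map_mul, M.map_mul, M.el_finv, M.el_finv,
          mul_assoc (M.el i), mul_assoc (M.el i)]
        exact N.mul_mem ho (hN.conj_mem _ (N.inv_mem ho) _)
      have h1 : M.el w * M.el w * (M.el w * M.el w) = 1 := by
        rw [← M.map_mul, ← M.map_mul, ← M.map_zero]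
        exact M.el_eq_iff.2 hw4
      exact hw (congrArg Fin.val (M.eq_one_iff.1 (hsq _ hwN h1)))
  have hconj : ∀ u : G, IsConj t u → ∀ o ∈ N, o * u = u * o → o = 1 := by
    intro u hu o ho hou
    obtain ⟨g, hg⟩ := isConj_iff.1 hu
    have hmem : g⁻¹ * o * g ∈ N := by simpa using hN.conj_mem o ho g⁻¹
    have h := hfix _ hmem (by
      have h := conj_commute hou g⁻¹
      rwa [inv_inv, show g⁻¹ * u * g = t by rw [← hg]; simp [mul_assoc]] at h)
    have h' : MulAut.conj g⁻¹ o = 1 := by rw [MulAut.conj_apply, inv_inv]; exact h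
    exact (MulAut.conj g⁻¹).injective (h'.trans (map_one _).symm)
  have h1 : IsConj t (M.el 1) := (hp.first 1).2 (by decide +kernel)
  have h6 : IsConj t (M.el 6) := (hp.first 6).2 (by decide +kernel)
  refine eq_bot_of_four hN M.mul_self (M.sq_one_iff.2 (by decide +kernel) : M.el 1 * M.el 1 = 1)
    (M.commutes 1).symm hfix (hconj _ h1) fun o ho hc => ?_
  have e : t * M.el 1 = M.el 6 := by
    have h : fmul 7 1 = 6 := by decide +kernel
    have := M.map_mul 7 1
    rw [h, M.map_seven] at this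
    exact this.symm
  rw [e] at hc
  exact hconj _ h6 o ho hc

theorem isSimpleGroup_of_pattern (M : Model G t) (hp : Pattern M true) : IsSimpleGroup G := by
  haveI : Nontrivial G := ⟨⟨t, 1, M.ne_one⟩⟩
  refine ⟨fun N hN => ?_⟩
  rcases Nat.even_or_odd (Nat.card N) with hev | hodd
  · right
    haveI : Fact (Nat.Prime 2) := ⟨Nat.prime_two⟩
    obtain ⟨x, hx⟩ := exists_prime_orderOf_dvd_card' (G := N) 2 hev.two_dvd
    have hx' : orderOf (x : G) = 2 := by rw [Subgroup.orderOf_coe, hx]
    have ht : t ∈ N := by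
      rcases hp.cover x hx' with h | h
      · obtain ⟨g, hg⟩ := isConj_iff.1 h.symm
        rw [← hg]; exact hN.conj_mem _ x.2 g
      · obtain ⟨a, b, ha, hb, hab⟩ := two_C
        have hk : ∀ i : Fin 192, typ i.val = 4 → M.el i ∈ N := fun i hi => by
          have hi2 : IsConj (M.el 184) (M.el i) := (hp.second i).2 (by simp [k2, hi])
          obtain ⟨g, hg⟩ := isConj_iff.1 (h.symm.trans hi2)
          rw [← hg]; exact hN.conj_mem _ x.2 g
        have e : M.el a * M.el b = t := (M.map_mul a b).symm.trans ((congrArg M.el hab).trans M.map_seven)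
        exact e ▸ N.mul_mem (hk a ha) (hk b hb)
    have hL := mem_of_t M hp hN ht
    obtain ⟨P, hP⟩ := M.exists_sylow
    have hPN : (P : Subgroup G) ≤ N := by
      rw [hP]; rintro g ⟨i, -, rfl⟩; exact hL i
    have hF := Sylow.normalizer_sup_eq_top' (N := N) P hPN
    rw [eq_top_iff, ← hF, sup_le_iff]
    refine ⟨fun g hg => ?_, le_rfl⟩
    have htP : t ∈ (P : Subgroup G) := by rw [hP]; exact ⟨7, inS_facts.2.2.1, M.map_seven⟩
    have hgt : g * t * g⁻¹ ∈ (P : Subgroup G) := (Subgroup.mem_normalizer_iff.1 hg t).1 htP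
    rw [hP] at hgt
    obtain ⟨i, hiS, hi⟩ := hgt
    have hh := all192_spec centre_ok i.isLt
    simp only [Bool.or_eq_true, beq_iff_eq, List.any_eq_true, Bool.and_eq_true, List.mem_range] at hh
    rcases hh with (h0 | h7) | ⟨j, hj, hS, hc⟩
    · exfalso
      have h1 : M.el i = 1 := M.eq_one_iff.2 (Fin.ext h0)
      rw [hi] at h1
      exact M.ne_one (conj_eq_one_iff.1 h1)
    · have h1 : M.el i = t := (M.el_eq_iff.2 h7).trans M.map_seven
      rw [hi, mul_inv_eq_iff_eq_mul] at h1
      obtain ⟨k, rfl⟩ := (M.mem_iff g).1 h1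
      exact hL k
    · exfalso
      have hy : g⁻¹ * M.el ⟨j, hj⟩ * g ∈ (P : Subgroup G) := by
        refine (Subgroup.mem_normalizer_iff.1 hg _).2 ?_
        have : M.el ⟨j, hj⟩ ∈ (P : Subgroup G) := by rw [hP]; exact ⟨⟨j, hj⟩, hS, rfl⟩
        simpa [mul_assoc] using this
      rw [hP] at hy
      have h := conj_commute (M.sub_le _ hy).symm g
      rw [show g * (g⁻¹ * M.el ⟨j, hj⟩ * g) * g⁻¹ = M.el ⟨j, hj⟩ by simp [mul_assoc], ← hi,
        M.commute_iff] at h
      simp [h] at hc
  · exact Or.inl (odd_normal_trivial M hp hN hodd)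

/-- the branch of `S3344` with the centraliser of `M₁₂` -/
theorem typeP_main {G : Type*} [Group G] [Finite G] {t : G} (M : MTwelveCent.Model G t)
    (h : ∃ (i : Fin 192) (g : G), (MTwelveCent.typ i = 2 ∨ MTwelveCent.typ i = 4) ∧
      g * t * g⁻¹ = M.el i) :
    (∃ (N : Subgroup G) (hN : N.Normal), IsMulCommutative N ∧ (∀ n ∈ N, n ^ 2 = 1) ∧ Nat.card N = 8 ∧
        Nonempty (G ⧸ N ≃* Matrix.ProjectiveSpecialLinearGroup (Fin 3) (ZMod 2))) ∨
      Cfsg.Spor.IsoM12 G := by
  obtain ⟨i, g, hi, hg⟩ := h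
  have hc : IsConj t (M.el i) := isConj_iff.2 ⟨g, hg⟩
  have h2 : typ i.val = 2 := hi.resolve_right fun h4 => M.not_conj_C h4 hc
  have hA : IsConj t (M.el 1) := hc.trans (M.isConj_same (Or.inl h2) (h2.trans reps.1.symm))
  obtain ⟨b, hp⟩ := M.exists_pattern_of hA (M.conj_B_of hA fun N hN hi2 => mem_of_index_two M hA N hN hi2)
  rcases hp.card_cases with ⟨rfl, hG⟩ | ⟨rfl, hG⟩
  · obtain ⟨E, hE, hmem⟩ := hp.inE_normal hG
    have hcard : Nat.card E = 8 := by
      rw [Nat.card_congr (Equiv.subtypeEquivRight hmem), M.card_subset, inE_facts.1]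
    have hpair : ∀ a b : Fin 192, inE a.val = true → inE b.val = true →
        M.el a * M.el b = M.el b * M.el a := fun a b ha hb => by
      have h := all192_two (P := fun i j => !inE i || !inE j || (inE (mulN i j) && comN i j))
        inE_closed a.isLt b.isLt
      simp only [ha, hb, Bool.not_true, Bool.false_or, Bool.and_eq_true] at h
      exact M.commute_iff.2 h.2
    have hsq : ∀ x ∈ E, x * x = 1 := by
      intro x hx
      obtain ⟨a, ha, rfl⟩ := (hmem x).1 hx
      refine M.sq_one_iff.2 ?_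
      simp only [inE, decide_eq_true_eq] at ha
      omega
    refine Or.inl ⟨E, hE, ⟨⟨fun x y => Subtype.ext ?_⟩⟩, fun n hn => by rw [pow_two, hsq n hn], hcard,
      quotient_linear E hsq hcard hG fun x hx => ?_⟩
    · obtain ⟨a, ha, hae⟩ := (hmem x.1).1 x.2
      obtain ⟨c, hc, hce⟩ := (hmem y.1).1 y.2
      show (x : G) * y = y * x
      rw [← hae, ← hce]
      exact hpair a c ha hc
    · obtain ⟨k, rfl⟩ := (M.mem_iff x).1
        (hx t ((hmem t).2 ⟨7, by decide +kernel, M.map_seven⟩))
      refine (hmem _).2 ⟨k, ?_, rfl⟩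
      have h := all192_spec inE_selfcent k.isLt
      simp only [Bool.or_eq_true, List.any_eq_true, List.mem_range, Bool.and_eq_true,
        Bool.not_eq_true'] at h
      refine h.resolve_right ?_
      rintro ⟨e, he, heE, hne⟩
      have := M.commute_iff.1 (hx _ ((hmem _).2 ⟨⟨e, he⟩, heE, rfl⟩))
      simp [this] at hne
  · right
    haveI := isSimpleGroup_of_pattern M hp
    exact CfsgLib.MathieuTwelve.nonempty_equiv_sporM12 hG

end CfsgLib.ExtraSpS3
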