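import Cfsg.Agent.Lib.MTwelveCent.Order

/-!
Finite facts about the table on `192` symbols used in the branch of `S3344` leading to the Mathieu
group of degree twelve.
-/
set_option autoImplicit false
set_option maxRecDepth 100000

namespace CfsgLib.ExtraSpS3

open CfsgLib.MTwelveCent

/-- the symbols which are squares -/
def sqList : List ℕ := ((List.range 192).map fun a => mulN a a).eraseDups

/-- a product of two squares -/
def isTwoSq (i : ℕ) : Bool := sqList.any fun a => sqList.any fun b => mulN a b == i

theorem sqList_spec {a : ℕ} (h : a ∈ sqList) : ∃ c, c < 192 ∧ mulN c c = a := by
  rw [sqList, List.mem_eraseDups, List.mem_map] at h
  obtain ⟨c, hc, rfl⟩ := h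
  exact ⟨c, List.mem_range.1 hc, rfl⟩

theorem twoSq_ok : (all192 fun i => (!inQ i || isTwoSq i) &&
    (inQ i || mulN (mulN i i) (mulN i i) != 0 || isTwoSq (mulN i 9))) = true := by
  decide +kernel

theorem comm_Q : (all192 fun a => all192 fun b => !inQ a || !inQ b ||
    mulN a b == mulN b a || mulN a b == mulN (mulN b a) 7) = true := by
  decide +kernel

theorem pair_facts : inQ 2 = true ∧ inQ 184 = true ∧ comN 2 1 = true ∧ comN 184 1 = true ∧
    comN 2 184 = false ∧ mulN 2 184 = mulN (mulN 184 2) 7 := by
  decide +kernel

/-- packed triples of symbols of the first class with a given product -/
def threeLit : ℕ := 935696429529613886976933538241944254243051779858051754509983810063140887720173118546857272158306270308330924430268133342240500905361898172238032198412885110675949916817987669090213431424460494611194508708202980274917483296143103744719530078316822468640121296115509925081472452375115448345716563451808957087093431794374759478585983522258225393134141865861163922702508632181145749957804605566687669298588679099894900771515998881577708691845640128274754468987239004864867076990261091761676068503865965724479298667971311594606856276265021558286770863743302870655968718854739751930434825775942308633276929424106870358120658282392580324644944749235463372463518869646324624649759283184013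5651823020216704752763918547727580214790787301702924888253901560013873835709220332499795886690766646468775642033553120017150126341143687334118171099437364774531162488042295567497954454697571596389121466592944421313464173342702646740045158884237353633873363404422046038194202887108832094223584213822998989587611938319897223096800439279528668325155061907646976529525707404312174301146115055811894752784129949912333656238549180259144621540295428463998417876294208298225646271067100878016833485401248252575801143858423943721535203000123173183513108991276477941560874461661457822355940411637037709540296474599720569599152714138372145370018618578860732111417847979868929494753412733897822999659536157140951695873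

/-- a triple of symbols of the first class with a given product is recorded -/
def threeK1 (i : ℕ) : Bool :=
  let a := (threeLit >>> (24 * i)) % 256
  let b := (threeLit >>> (24 * i + 8)) % 256
  let c := (threeLit >>> (24 * i + 16)) % 256
  decide (a < 192 ∧ b < 192 ∧ c < 192) && k1 true a && k1 true b && k1 true c &&
    mulN (mulN a b) c == i

theorem threeK1_ok : (all192 threeK1) = true := by decide +kernel

theorem two_C : ∃ a b : Fin 192, typ a.val = 4 ∧ typ b.val = 4 ∧ fmul a b = 7 := by decide +kernel

theorem comm_invol : (all192 fun i => i == 0 || i == 7 || (List.range 192).any fun j =>
    let w := mulN (mulN (mulN i j) (finv (Fin.ofNat 192 i)).val) (finv (Fin.ofNat 192 j)).val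
    w != 0 && mulN (mulN w w) (mulN w w) == 0) = true := by
  decide +kernel

theorem inE_selfcent : (all192 fun i => inE i ||
    (List.range 192).any fun e => inE e && !comN i e) = true := by
  decide +kernel

end CfsgLib.ExtraSpS3
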