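import Cfsg.Agent.Lib.ExtraSpS3.STables
import Mathlib.GroupTheory.SpecificGroups.Dihedral

/-!
The centraliser in `C(s)` of the symbol `10`: tables.
-/
set_option autoImplicit false
set_option maxRecDepth 10000

namespace CfsgLib.ExtraSpS3

/-- the symbols commuting with `10`, as a mask -/
def maskT : ℕ := 320261175658994660616782436702266330895

/-- the symbols of a subgroup of order sixteen inside, as a mask -/
def maskEa : ℕ := 64799926592481409930243917156172434435

/-- the four symbols `0, 10, 99, 105` -/
def inK (m : ℕ) : Bool := m == 0 || m == 10 || m == 99 || m == 105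

/-- packed map onto the dihedral group of order eight -/
def dLit : ℕ := 7224344697489272873534226308112552019833125096876295638540634767757813237745769244408390407654045912005238258142480

/-- the map onto the dihedral group of order eight -/
def dCode (m : ℕ) : DihedralGroup 4 :=
  bif decide ((dLit >>> (3 * m)) % 8 < 4) then DihedralGroup.r ((dLit >>> (3 * m)) % 8 : ℕ)
    else DihedralGroup.sr ((dLit >>> (3 * m)) % 8 : ℕ)

theorem maskT_iff {m : ℕ} (h : m < 192) : maskT.testBit m = comS m 10 := by
  have hd : allB 192 (fun m => maskT.testBit m == comS m 10) = true := by decide +kernel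
  exact eq_of_beq (allB_spec hd h)

theorem dCode_spec {m : ℕ} (hm : m < 192) (hc : comS m 10 = true) :
    (dCode m = 1 ↔ inK m = true) ∧
      ∀ n < 192, comS n 10 = true → dCode (mulS false m n) = dCode m * dCode n := by
  have hd : allB 192 (fun m => !comS m 10 || (decide (dCode m = 1) == inK m && allB 192 fun n =>
      !comS n 10 || decide (dCode (mulS false m n) = dCode m * dCode n))) = true := by decide +kernel
  have h := allB_spec hd hm
  rw [hc, Bool.not_true, Bool.false_or, Bool.and_eq_true, beq_iff_eq] at h
  refine ⟨by rw [← h.1, decide_eq_true_eq], fun n hn hn' => ?_⟩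
  have h' := allB_spec h.2 hn
  rwa [hn', Bool.not_true, Bool.false_or, decide_eq_true_eq] at h'

theorem dCode_surj : ∀ d : DihedralGroup 4, ∃ m < 192, comS m 10 = true ∧ dCode m = d := by
  have hd : ∀ d : DihedralGroup 4, anyB 192 (fun m => comS m 10 && decide (dCode m = d)) = true := by
    decide +kernel
  intro d
  obtain ⟨m, hm, h⟩ := anyB_spec (hd d)
  rw [Bool.and_eq_true, decide_eq_true_eq] at h
  exact ⟨m, hm, h.1, h.2⟩

/-- the mask of `0, 10, 99, 105` -/
def maskK : ℕ := 41198644507417455548642854175745

theorem maskK_iff {m : ℕ} (h : m < 192) : maskK.testBit m = inK m := by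
  have hd : allB 192 (fun m => maskK.testBit m == inK m) = true := by decide +kernel
  exact eq_of_beq (allB_spec hd h)

/-- a symbol of a conjugate of `s` -/
def sT (m : ℕ) : Bool := kind m == 1 || kind m == 2 || kind m == 3 || kind m == 5

theorem coset_tables : ∀ j ∈ [1, 2, 3], ∀ k ∈ [0, 10, 99, 105],
    let m := mulS false j k
    kind m < 7 ∧ kind (mulS false m 10) < 7 ∧
      (sT m = sT j → sT (mulS false m 10) = sT (mulS false j 10) →
        m = j ∨ j ≠ 1 ∧ m = mulS false j 10) := by
  have hd : ([1, 2, 3].all fun j => [0, 10, 99, 105].all fun k =>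
      let m := mulS false j k
      decide (kind m < 7) && decide (kind (mulS false m 10) < 7) &&
        (!(sT m == sT j) || !(sT (mulS false m 10) == sT (mulS false j 10)) ||
          m == j || (j != 1 && m == mulS false j 10))) = true := by decide +kernel
  intro j hj k hk
  have h := List.all_eq_true.1 (List.all_eq_true.1 hd j hj) k hk
  simp only [Bool.and_eq_true, Bool.or_eq_true, decide_eq_true_eq, beq_iff_eq, Bool.not_eq_true',
    beq_eq_false_iff_ne, bne_iff_ne] at h
  refine ⟨h.1.1, h.1.2, fun a b => ?_⟩
  rcases h.2 with ((h | h) | h) | h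
  · exact absurd a h
  · exact absurd b h
  · exact Or.inl h
  · exact Or.inr h

end CfsgLib.ExtraSpS3
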