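import Cfsg.Agent.Lib.ExtraSpS3.Eight
import Cfsg.Agent.Lib.ExtraSpS3.UTables
import Cfsg.Agent.Lib.ExtraSpS3.Local
import Cfsg.Agent.Lib.ExtraSpS3.Small
import Cfsg.Agent.S0215
import Cfsg.Agent.S3035

/-!
The centraliser `U` of an involution of the second class: modulo a normal four group it has an
involution centraliser dihedral of order eight.
-/
set_option autoImplicit false
set_option maxRecDepth 10000

namespace CfsgLib.ExtraSpS3

/-- a lift of odd order -/
theorem odd_lift {X Y : Type*} [Group X] [Group Y] [Finite X] (f : X →* Y) (hf : Function.Surjective f)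
    {o : Y} (ho : Odd (orderOf o)) : ∃ p : X, Odd (orderOf p) ∧ f p = o := by
  obtain ⟨p, hp⟩ := hf o
  obtain ⟨k, m, hm, hkm⟩ := Nat.exists_eq_two_pow_mul_odd (orderOf_pos p).ne'
  obtain ⟨j, hj⟩ : ∃ j, 2 ^ k * j % orderOf o = 1 % orderOf o := by
    have h1 : Nat.Coprime (2 ^ k) (orderOf o) := (Nat.coprime_two_left.2 ho).pow_left k
    obtain ⟨b, hb⟩ : ∃ b : ZMod (orderOf o), ((2 ^ k : ℕ) : ZMod (orderOf o)) * b = 1 :=
      (ZMod.unitOfCoprime _ h1).isUnit.exists_right_inv
    haveI : NeZero (orderOf o) := ⟨ho.pos.ne'⟩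
    exact ⟨b.val, (ZMod.natCast_eq_natCast_iff' _ 1 _).1 (by simpa using hb)⟩
  refine ⟨p ^ (2 ^ k * j), ?_, ?_⟩
  · refine hm.of_dvd_nat (orderOf_dvd_of_pow_eq_one ?_)
    rw [← pow_mul, show 2 ^ k * j * m = orderOf p * j by rw [hkm]; ring, pow_mul, pow_orderOf_eq_one, one_pow]
  · rw [map_pow, hp, ← pow_mod_orderOf, hj, pow_mod_orderOf, pow_one]

namespace Two

variable {G : Type*} [Group G] [Finite G] {s : G} (D : Two G s)

/-- the involution of the second class -/
def u : G := D.F.el 10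

/-- its centraliser -/
def U : Subgroup G := Subgroup.centralizer ({D.u} : Set G)

theorem mem_U {g : G} : g ∈ D.U ↔ g * D.u = D.u * g := Subgroup.mem_centralizer_singleton_iff

theorem el_mem_U {m : ℕ} (hm : m < 192) (h : comS m 10 = true) : D.F.el m ∈ D.U :=
  D.mem_U.2 ((D.F.comS_iff hm (by omega)).2 h)

theorem u_sq : D.u * D.u = 1 := (D.F.el_sq_iff (by omega)).2 (by decide +kernel)
theorem u_ne_one : D.u ≠ 1 := D.F.el_ne_one (by omega) (by omega)

theorem conj_u {g : G} (hg : g ∈ D.U) : g * D.u * g⁻¹ = D.u := by rw [D.mem_U.1 hg]; group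

theorem kinds_u {m : ℕ} (hm : m < 192) (h : kind m = 4 ∨ kind m = 6) : IsConj D.u (D.F.el m) := by
  have k10 : kind 10 = 4 := by decide +kernel
  have k97 : kind 97 = 6 := by decide +kernel
  rcases h with e | e
  · exact (D.F.isConj_kind hm (by omega) (e.trans k10.symm) (by omega)).symm
  · exact (D.hD.isConj D.F).symm.trans (D.F.isConj_kind hm (by omega) (e.trans k97.symm) (by omega)).symm

/-- a conjugate of `s` is not a conjugate of `u` -/
theorem not_both {v : G} (h1 : IsConj s v) (h2 : IsConj D.u v) : False := D.hB (h1.trans h2.symm)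

/-- the conjugates in `U` of an element all of whose translates by `u` have known kind -/
theorem symbol_conj {g v : G} (hg : g ∈ D.U) (hvs : v * s = s * v) (hv : v = g * D.F.el 99 * g⁻¹) :
    ∃ m < 192, D.F.el m = v ∧ comS m 10 = true ∧
      (m = 99 ∨ m = 105 ∨ m = 20 ∨ m = 21 ∨ m = 30 ∨ m = 31) := by
  have hv2 : v * v = 1 := hv ▸ conj_sq ((D.F.el_sq_iff (by omega)).2 (by decide +kernel)) g
  have hv1 : v ≠ 1 := hv ▸ conj_ne_one (D.F.el_ne_one (by omega) (by omega)) g
  obtain ⟨m, hm, hme, hk1, hk7⟩ := D.F.exists_kind hv2 hv1 hvs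
  have hu : D.F.el m * D.u = D.u * D.F.el m := by
    rw [hme, hv]
    have := comm_conj ((D.F.comS_iff (m := 99) (n := 10) (by omega) (by omega)).2 (by decide +kernel)) g
    rwa [show D.F.el 10 = D.u from rfl, D.conj_u hg] at this
  have hc : comS m 10 = true := (D.F.comS_iff hm (by omega)).1 hu
  have h99 : kind 99 = 6 := by decide +kernel
  have h105 : kind 105 = 6 := by decide +kernel
  have e1 : IsConj D.u (D.F.el m) :=
    (D.kinds_u (by omega) (Or.inr h99)).trans (isConj_iff.2 ⟨g, (hme.trans hv).symm⟩)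
  have e2 : IsConj D.u (D.F.el (mulS false m 10)) := by
    refine (D.kinds_u (by omega) (Or.inr h105)).trans (isConj_iff.2 ⟨g, ?_⟩)
    rw [D.F.el_mul hm (by omega), hme, hv, show (105 : ℕ) = mulS false 99 10 by decide +kernel,
      D.F.el_mul (by omega) (by omega), show D.F.el 10 = D.u from rfl]
    conv_rhs => rw [← D.conj_u hg]
    group
  refine ⟨m, hm, hme, hc, ?_⟩
  have hd : allB 192 (fun m => !comS m 10 || !(decide (kind m < 7)) || decide (kind m < 1) || kind m == 1 ||
      kind m == 2 || kind m == 3 || kind m == 5 || kind (mulS false m 10) == 1 || kind (mulS false m 10) == 2 ||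
      kind (mulS false m 10) == 3 || kind (mulS false m 10) == 5 || kind (mulS false m 10) == 0 ||
      m == 99 || m == 105 || m == 20 || m == 21 || m == 30 || m == 31) = true := by decide +kernel
  have h := allB_spec hd hm
  simp only [hc, Bool.not_true, Bool.false_or, Bool.or_eq_true, decide_eq_true_eq, beq_iff_eq,
    Bool.not_eq_true', decide_eq_false_iff_not] at h
  have hm10 := mulS_lt false (m := m) (n := 10)
  have hno : ∀ {k}, k < 192 → IsConj D.u (D.F.el k) → kind k < 7 →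
      kind k ≠ 1 ∧ kind k ≠ 2 ∧ kind k ≠ 3 ∧ kind k ≠ 5 := by
    intro k hk e h7
    refine ⟨?_, ?_, ?_, ?_⟩ <;> intro h' <;>
      exact D.not_both ((D.isConj_iff_kind hk h7).2 (by omega)) e
  have h7' : kind (mulS false m 10) < 7 := by
    refine (D.F.el_sq_iff hm10).1 ?_
    obtain ⟨c, hc'⟩ := isConj_iff.1 e2
    rw [← hc']
    exact conj_sq D.u_sq c
  have h0' : kind (mulS false m 10) ≠ 0 := fun e => by
    rw [(kind_spec hm10).2.1.1 e, D.F.el_zero] at e2
    exact D.u_ne_one (isConj_one_left.1 e2)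
  have := hno hm e1 hk7
  have := hno hm10 e2 h7'
  omega

theorem exists_sylow : ∃ P : Sylow 2 D.U, ∀ g : D.U, g ∈ (P : Subgroup D.U) ↔ (g : G) * s = s * g := by
  classical
  haveI : Fact (Nat.Prime 2) := ⟨Nat.prime_two⟩
  let T := (Subgroup.centralizer ({s} : Set G)).subgroupOf D.U
  have hT : ∀ g : D.U, g ∈ T ↔ (g : G) * s = s * g := fun g => by
    rw [Subgroup.mem_subgroupOf, Subgroup.mem_centralizer_singleton_iff]
  have hcard : Nat.card T = 32 := by
    let f : {m : Fin 192 // comS m 10 = true} → T := fun m =>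
      ⟨⟨D.F.el m.1, D.el_mem_U m.1.2 m.2⟩, (hT _).2 (D.F.el_comm_s m.1.2)⟩
    have hf : Function.Bijective f := by
      refine ⟨fun a b e => Subtype.ext (Fin.ext (D.F.el_inj a.1.2 b.1.2
        (congrArg (fun z : T => ((z : D.U) : G)) e))), ?_⟩
      rintro ⟨⟨g, hgU⟩, hg⟩
      obtain ⟨m, hm, rfl⟩ := D.F.surj g ((hT _).1 hg)
      exact ⟨⟨⟨m, hm⟩, (D.F.comS_iff hm (by omega)).1 (D.mem_U.1 hgU)⟩, rfl⟩
    rw [← Nat.card_eq_of_bijective f hf, Nat.card_eq_fintype_card, Fintype.card_subtype]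
    decide +kernel
  obtain ⟨P, hP⟩ := (IsPGroup.of_card (p := 2) (n := 5) (by rw [hcard]; norm_num) : IsPGroup 2 T).exists_le_sylow
  refine ⟨P, fun g => ?_⟩
  suffices h : (P : Subgroup D.U) = T by rw [h, hT]
  refine le_antisymm ?_ hP
  by_contra hne
  have hlt : T.subgroupOf (P : Subgroup D.U) < ⊤ :=
    lt_top_iff_ne_top.2 fun e => hne (Subgroup.subgroupOf_eq_top.1 e)
  haveI : Group.IsNilpotent (P : Subgroup D.U) := P.isPGroup'.isNilpotent
  obtain ⟨n, hnN, hnT⟩ := SetLike.exists_of_lt (Group.normalizerCondition_of_isNilpotent _ hlt)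
  refine hnT ((hT _).2 ?_)
  set c : G := ((n : D.U) : G) with hc
  have hnorm : ∀ m, m < 192 → comS m 10 = true → ∃ m' < 192, comS m' 10 = true ∧
      D.F.el m' = c * D.F.el m * c⁻¹ := by
    intro m hm hmc
    have hmT : (⟨D.F.el m, D.el_mem_U hm hmc⟩ : D.U) ∈ T := (hT _).2 (D.F.el_comm_s hm)
    have h := (Subgroup.mem_normalizer_iff.1 hnN ⟨_, hP hmT⟩).1 hmT
    obtain ⟨m', hm', he⟩ := D.F.surj _ ((hT _).1 h)
    exact ⟨m', hm', (D.F.comS_iff hm' (by omega)).1 (by rw [he]; exact D.mem_U.1 ((n : D.U) * ⟨_, D.el_mem_U hm hmc⟩ *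
      (n : D.U)⁻¹).2), he⟩
  obtain ⟨a, ha, hac, b, hb, hbc, hab⟩ : ∃ a < 192, comS a 10 = true ∧ ∃ b < 192, comS b 10 = true ∧
      mulS false (mulS false a b) (invS (mulS false b a)) = 1 := by
    have hd : anyB 192 (fun a => comS a 10 && anyB 192 fun b => comS b 10 &&
        mulS false (mulS false a b) (invS (mulS false b a)) == 1) = true := by decide +kernel
    obtain ⟨a, ha, h⟩ := anyB_spec hd
    rw [Bool.and_eq_true] at h
    obtain ⟨b, hb, h'⟩ := anyB_spec h.2
    rw [Bool.and_eq_true, beq_iff_eq] at h'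
    exact ⟨a, ha, h.1, b, hb, h'.1, h'.2⟩
  obtain ⟨a', ha', hac', hae⟩ := hnorm a ha hac
  obtain ⟨b', hb', hbc', hbe⟩ := hnorm b hb hbc
  have hcomm : ∀ {a b}, a < 192 → b < 192 →
      D.F.el (mulS false (mulS false a b) (invS (mulS false b a))) =
        D.F.el a * D.F.el b * (D.F.el b * D.F.el a)⁻¹ := fun {a b} ha hb => by
    rw [D.F.el_mul (mulS_lt false) (invS_spec (mulS_lt false)).1, D.F.el_mul ha hb,
      D.F.el_inv (mulS_lt false), D.F.el_mul hb ha]
  have key : D.F.el (mulS false (mulS false a' b') (invS (mulS false b' a'))) = c * s * c⁻¹ := by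
    have h1 := hcomm ha hb
    rw [hab, D.F.el_one] at h1
    have h3 : c * (D.F.el a * D.F.el b * (D.F.el b * D.F.el a)⁻¹) * c⁻¹ = c * s * c⁻¹ := by rw [← h1]
    rw [hcomm ha' hb', hae, hbe, ← h3]
    group
  have hd : allB 192 (fun a => !comS a 10 || allB 192 fun b => !comS b 10 ||
      let r := mulS false (mulS false a b) (invS (mulS false b a))
      r == 0 || r == 1 || r == 10 || r == 11) = true := by decide +kernel
  have h := allB_spec hd ha'
  rw [hac', Bool.not_true, Bool.false_or] at h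
  have h := allB_spec h hb'
  rw [hbc', Bool.not_true, Bool.false_or] at h
  simp only [Bool.or_eq_true, beq_iff_eq] at h
  have hk10 : kind 10 = 4 := by decide +kernel
  have hk11 : kind 11 = 4 := by decide +kernel
  rcases h with ((h | h) | h) | h <;> rw [h] at key
  · rw [D.F.el_zero] at key
    exact absurd key.symm (conj_ne_one D.F.s_ne _)
  · rw [D.F.el_one, eq_mul_inv_iff_mul_eq] at key
    exact key.symm
  · exact (D.not_both (isConj_iff.2 ⟨c, key.symm⟩) (D.kinds_u (by omega) (Or.inl hk10))).elim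
  · exact (D.not_both (isConj_iff.2 ⟨c, key.symm⟩) (D.kinds_u (by omega) (Or.inl hk11))).elim

theorem conj_el99_s {g : G} (hg : g ∈ D.U) (hgs : (g * D.F.el 99 * g⁻¹) * s = s * (g * D.F.el 99 * g⁻¹)) :
    g * D.F.el 99 * g⁻¹ = D.F.el 99 ∨ g * D.F.el 99 * g⁻¹ = D.F.el 99 * D.u := by
  classical
  haveI : Fact (Nat.Prime 2) := ⟨Nat.prime_two⟩
  obtain ⟨m, hm, hme, hmc, hcase⟩ := D.symbol_conj hg hgs rfl
  set Dd := D.F.el 99 with hDd
  have h105 : D.F.el 105 = Dd * D.u := by
    rw [show (105 : ℕ) = mulS false 99 10 by decide +kernel, D.F.el_mul (by omega) (by omega)]; rfl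
  by_cases hD : m = 99 ∨ m = 105
  · rcases hD with rfl | rfl
    · exact Or.inl hme.symm
    · exact Or.inr (hme.symm.trans h105)
  exfalso
  set y := D.F.el m with hy
  obtain ⟨P, hP⟩ := D.exists_sylow
  let H : Subgroup D.U :=
    { carrier := {w | (w : G) * Dd * (w : G)⁻¹ = Dd ∨ (w : G) * Dd * (w : G)⁻¹ = Dd * D.u}
      one_mem' := Or.inl (by simp)
      mul_mem' := fun {a b} ha hb => by
        have hau : (a : G) * D.u * (a : G)⁻¹ = D.u := D.conj_u a.2
        show ((a * b : D.U) : G) * Dd * ((a * b : D.U) : G)⁻¹ = Dd ∨ _ = Dd * D.u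
        rw [Subgroup.coe_mul, mul_inv_rev, show (a : G) * b * Dd * ((b : G)⁻¹ * (a : G)⁻¹) =
          (a : G) * ((b : G) * Dd * (b : G)⁻¹) * (a : G)⁻¹ by group]
        rcases hb with e | e <;> rw [e]
        · exact ha
        · rw [show (a : G) * (Dd * D.u) * (a : G)⁻¹ = (a : G) * Dd * (a : G)⁻¹ * ((a : G) * D.u * (a : G)⁻¹) by group,
            hau]
          rcases ha with e' | e' <;> rw [e']
          · exact Or.inr rfl
          · left; rw [mul_assoc, D.u_sq, mul_one]
      inv_mem' := fun {a} ha => by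
        have hau : (a : G)⁻¹ * D.u * a = D.u := by
          rw [mul_assoc, ← D.mem_U.1 a.2, inv_mul_cancel_left]
        show ((a⁻¹ : D.U) : G) * Dd * ((a⁻¹ : D.U) : G)⁻¹ = Dd ∨ _ = Dd * D.u
        rw [Subgroup.coe_inv, inv_inv]
        rcases ha with e | e
        · left
          calc (a : G)⁻¹ * Dd * a = (a : G)⁻¹ * ((a : G) * Dd * (a : G)⁻¹) * a := by rw [e]
            _ = Dd := by group
        · right
          calc (a : G)⁻¹ * Dd * a = (a : G)⁻¹ * ((a : G) * Dd * (a : G)⁻¹ * D.u) * a := by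
                rw [e, mul_assoc Dd, D.u_sq, mul_one]
            _ = Dd * ((a : G)⁻¹ * D.u * a) := by group
            _ = Dd * D.u := by rw [hau] }
  have hPH : (P : Subgroup D.U) ≤ H := by
    intro w hw
    obtain ⟨k, hk, hke⟩ := D.F.surj (w : G) ((hP w).1 hw)
    have hkc : comS k 10 = true := (D.F.comS_iff hk (by omega)).1 (by rw [hke]; exact D.mem_U.1 w.2)
    have hd : allB 192 (fun k => !comS k 10 || cjS k 99 == 99 || cjS k 99 == 105) = true := by decide +kernel
    have h := allB_spec hd hk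
    rw [hkc, Bool.not_true, Bool.false_or, Bool.or_eq_true, beq_iff_eq, beq_iff_eq] at h
    show (w : G) * Dd * (w : G)⁻¹ = Dd ∨ _ = Dd * D.u
    rw [← hke, hDd, D.F.el_conj hk (by omega)]
    rcases h with e | e <;> rw [e]
    · exact Or.inl rfl
    · exact Or.inr (h105.trans rfl)
  have hEsym : ∀ n, n < 192 → maskEa.testBit n = true → comS n 10 = true ∧
      (cjS n m = m ∨ cjS n m = mulS false m 10) := by
    intro n hn hb
    have hd : ([20, 21, 30, 31] : List ℕ).all (fun m => allB 192 fun n => !maskEa.testBit n ||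
        (comS n 10 && (cjS n m == m || cjS n m == mulS false m 10))) = true := by decide +kernel
    have hm4 : m ∈ ([20, 21, 30, 31] : List ℕ) := by simp; omega
    have h := allB_spec (List.all_eq_true.1 hd m hm4) hn
    simpa [hb] using h
  let E : Subgroup G := D.F.sub maskEa (by decide +kernel)
  have hEU : ∀ e ∈ E, e ∈ D.U := by
    rintro _ ⟨n, hn, hb, rfl⟩
    exact D.el_mem_U hn (hEsym n hn hb).1
  let E' : Subgroup D.U := (E.subgroupOf D.U).map (MulAut.conj (⟨g, hg⟩ : D.U)⁻¹).toMonoidHom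
  have hE'H : E' ≤ H := by
    rintro _ ⟨w, hw, rfl⟩
    obtain ⟨n, hn, hb, hne⟩ := (hw : (w : G) ∈ E)
    show (g⁻¹ * (w : G) * g⁻¹⁻¹) * Dd * (g⁻¹ * (w : G) * g⁻¹⁻¹)⁻¹ = Dd ∨
      (g⁻¹ * (w : G) * g⁻¹⁻¹) * Dd * (g⁻¹ * (w : G) * g⁻¹⁻¹)⁻¹ = Dd * D.u
    rw [show (g⁻¹ * (w : G) * g⁻¹⁻¹) * Dd * (g⁻¹ * (w : G) * g⁻¹⁻¹)⁻¹ =
      g⁻¹ * ((w : G) * (g * Dd * g⁻¹) * (w : G)⁻¹) * g by group, ← hme, ← (show D.F.el n = (w : G) from hne), D.F.el_conj hn hm]
    have hgu : g⁻¹ * D.u * g = D.u := by rw [mul_assoc, ← D.mem_U.1 hg, inv_mul_cancel_left]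
    rcases (hEsym n hn hb).2 with e | e <;> rw [e]
    · left; rw [show D.F.el m = g * Dd * g⁻¹ from hme]; group
    · right
      rw [D.F.el_mul hm (by omega), show D.F.el 10 = D.u from rfl, show D.F.el m = g * Dd * g⁻¹ from hme,
        show g⁻¹ * (g * Dd * g⁻¹ * D.u) * g = Dd * (g⁻¹ * D.u * g) by group, hgu]
  have hE2 : IsPGroup 2 E' := by
    refine IsPGroup.map ?_ _
    rintro ⟨w, hw⟩
    obtain ⟨n, hn, hb, hne⟩ := (hw : (w : G) ∈ E)
    refine ⟨2, Subtype.ext (Subtype.ext ?_)⟩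
    show (w : G) ^ 2 ^ 2 = 1
    have hd : allB 192 (fun n => !maskEa.testBit n || mulS false (mulS false n n) (mulS false n n) == 0) =
        true := by decide +kernel
    have h := allB_spec hd hn
    rw [hb, Bool.not_true, Bool.false_or, beq_iff_eq] at h
    rw [← (show D.F.el n = (w : G) from hne), show (2 : ℕ) ^ 2 = 2 + 2 from rfl, pow_add, pow_two, ← D.F.el_mul hn hn,
      ← D.F.el_mul (mulS_lt false) (mulS_lt false), h, D.F.el_zero]
  obtain ⟨R, hR⟩ := (hE2.comap_subtype (K := H)).exists_le_sylow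
  obtain ⟨c, hc⟩ := MulAction.exists_smul_eq H R (P.subtype hPH)
  have hinto : ∀ w ∈ E', ((c : D.U) : G) * (w : G) * ((c : D.U) : G)⁻¹ * s =
      s * (((c : D.U) : G) * (w : G) * ((c : D.U) : G)⁻¹) := by
    intro w hw
    have h1 : c * ⟨w, hE'H hw⟩ * c⁻¹ ∈ (P.subtype hPH : Subgroup H) := by
      rw [← hc, Sylow.coe_subgroup_smul]
      exact Subgroup.smul_mem_pointwise_smul _ (MulAut.conj c) _ (hR (show (⟨w, hE'H hw⟩ : H) ∈ E'.comap H.subtype from hw))
    exact (hP _).1 h1
  set h : G := ((c : D.U) : G) * g⁻¹ with hh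
  have hhU : h ∈ D.U := mul_mem (c : D.U).2 (inv_mem hg)
  have hhE : ∀ n, n < 192 → maskEa.testBit n = true → ∃ n' < 192, comS n' 10 = true ∧
      D.F.el n' = h * D.F.el n * h⁻¹ := by
    intro n hn hb
    have hw : (⟨D.F.el n, hEU _ ⟨n, hn, hb, rfl⟩⟩ : D.U) ∈ E.subgroupOf D.U := ⟨n, hn, hb, rfl⟩
    have := hinto _ (Subgroup.mem_map_of_mem _ hw)
    have he : h * D.F.el n * h⁻¹ * s = s * (h * D.F.el n * h⁻¹) := by
      have e : ((c : D.U) : G) * (g⁻¹ * D.F.el n * g⁻¹⁻¹) * ((c : D.U) : G)⁻¹ = h * D.F.el n * h⁻¹ := by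
        rw [hh]; group
      rw [← e]; exact this
    obtain ⟨n', hn', hne⟩ := D.F.surj _ he
    exact ⟨n', hn', (D.F.comS_iff hn' (by omega)).1 (by
      rw [hne]; exact D.mem_U.1 (mul_mem (mul_mem hhU (hEU _ ⟨n, hn, hb, rfl⟩)) (inv_mem hhU))), hne⟩
  have hhy : h * y * h⁻¹ = Dd ∨ h * y * h⁻¹ = Dd * D.u := by
    rw [show h * y * h⁻¹ = ((c : D.U) : G) * (g⁻¹ * y * g) * ((c : D.U) : G)⁻¹ by rw [hh]; group, hme,
      show g⁻¹ * (g * Dd * g⁻¹) * g = Dd by group]
    exact c.2
  -- the image of `s`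
  obtain ⟨k, hk, hkc, hke⟩ := hhE 1 (by omega) (by decide +kernel)
  rw [D.F.el_one] at hke
  have hk7 : kind k < 7 := (D.F.el_sq_iff hk).1 (hke ▸ conj_sq D.F.s_sq h)
  have hkK : kind k = 1 ∨ kind k = 2 ∨ kind k = 3 ∨ kind k = 5 :=
    (D.isConj_iff_kind hk hk7).1 (isConj_iff.2 ⟨h, hke.symm⟩)
  have hk10 : IsConj D.u (D.F.el (mulS false k 10)) := by
    refine (D.kinds_u (m := 11) (by omega) (Or.inl (by decide +kernel))).trans (isConj_iff.2 ⟨h, ?_⟩)
    rw [D.F.el_mul hk (by omega), hke, show (11 : ℕ) = mulS false 1 10 by decide +kernel,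
      D.F.el_mul (by omega) (by omega), D.F.el_one, show D.F.el 10 = D.u from rfl]
    conv_rhs => rw [← D.conj_u hhU]
    group
  have hk10' : kind (mulS false k 10) ≠ 1 ∧ kind (mulS false k 10) ≠ 2 ∧ kind (mulS false k 10) ≠ 3 ∧
      kind (mulS false k 10) ≠ 5 := by
    have h7' : kind (mulS false k 10) < 7 := by
      obtain ⟨c', hc'⟩ := isConj_iff.1 hk10
      exact (D.F.el_sq_iff (mulS_lt false)).1 (hc' ▸ conj_sq D.u_sq c')
    refine ⟨?_, ?_, ?_, ?_⟩ <;> intro h' <;>
      exact D.not_both ((D.isConj_iff_kind (mulS_lt false) h7').2 (by omega)) hk10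
  by_cases hk1 : k = 1
  · rw [hk1, D.F.el_one, eq_mul_inv_iff_mul_eq] at hke
    obtain ⟨n, hn, hne⟩ := D.F.surj h hke.symm
    have hnc : comS n 10 = true := (D.F.comS_iff hn (by omega)).1 (by rw [hne]; exact D.mem_U.1 hhU)
    rw [← hne, hy, D.F.el_conj hn hm] at hhy
    have hcases : cjS n m = 99 ∨ cjS n m = 105 := by
      rcases hhy with e | e
      · exact Or.inl (D.F.el_inj (Frame.cjS_lt _ _) (by omega) e)
      · exact Or.inr (D.F.el_inj (Frame.cjS_lt _ _) (by omega) (e.trans h105.symm))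
    have hd : ([20, 21, 30, 31] : List ℕ).all (fun m => allB 192 fun n => !comS n 10 ||
        (cjS n m != 99 && cjS n m != 105)) = true := by decide +kernel
    have hm4 : m ∈ ([20, 21, 30, 31] : List ℕ) := by simp; omega
    have h := allB_spec (List.all_eq_true.1 hd m hm4) hn
    simp only [hnc, Bool.not_true, Bool.false_or, Bool.and_eq_true, bne_iff_ne] at h
    omega
  -- the whole image
  let N := {n : Fin 192 // (comS n 10 && (mulS false n k == mulS false k n ||
    mulS false n k == mulS false (mulS false k n) 10)) = true}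
  let M := {n : Fin 192 // maskEa.testBit n = true}
  have hNmem : ∀ n : M, ∃ n' : N, D.F.el n'.1 = h * D.F.el n.1 * h⁻¹ := by
    rintro ⟨⟨n, hn⟩, hb⟩
    obtain ⟨n', hn', hc', he⟩ := hhE n hn hb
    refine ⟨⟨⟨n', hn'⟩, ?_⟩, he⟩
    have hd : allB 192 (fun n => !maskEa.testBit n || mulS false n 1 == mulS false 1 n) = true := by
      decide +kernel
    rw [Bool.and_eq_true, Bool.or_eq_true, beq_iff_eq, beq_iff_eq]
    refine ⟨hc', Or.inl (D.F.el_inj (mulS_lt false) (mulS_lt false) ?_)⟩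
    rw [D.F.el_mul hn' hk, D.F.el_mul hk hn', he, hke]
    exact comm_conj (D.F.el_comm_s hn) h
  choose φ hφ using hNmem
  have hφi : Function.Injective φ := fun a b e => Subtype.ext (Fin.ext (D.F.el_inj a.1.2 b.1.2 (by
    have ha := hφ a
    rw [e, hφ b] at ha
    simpa using ha.symm)))
  have hd : allB 192 (fun k => !comS k 10 || decide (kind k == 7) || k == 1 ||
      kind k == 4 || kind k == 6 || kind k == 0 ||
      kind (mulS false k 10) == 1 || kind (mulS false k 10) == 2 || kind (mulS false k 10) == 3 ||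
      kind (mulS false k 10) == 5 ||
      (decide (((List.range 192).filter fun n => comS n 10 && (mulS false n k == mulS false k n ||
        mulS false n k == mulS false (mulS false k n) 10)).length ≤ 16) &&
        (comS 2 10 && (mulS false 2 k == mulS false k 2 || mulS false 2 k == mulS false (mulS false k 2) 10)) &&
        (comS 3 10 && (mulS false 3 k == mulS false k 3 || mulS false 3 k == mulS false (mulS false k 3) 10)))) =
      true := by decide +kernel
  have hk' := allB_spec hd hk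
  simp only [hkc, Bool.not_true, Bool.false_or, Bool.or_eq_true, decide_eq_true_eq, beq_iff_eq] at hk'
  have hrest : (((List.range 192).filter fun n => comS n 10 && (mulS false n k == mulS false k n ||
        mulS false n k == mulS false (mulS false k n) 10)).length ≤ 16) ∧
      (comS 2 10 && (mulS false 2 k == mulS false k 2 || mulS false 2 k == mulS false (mulS false k 2) 10)) = true ∧
      (comS 3 10 && (mulS false 3 k == mulS false k 3 || mulS false 3 k == mulS false (mulS false k 3) 10)) = true := by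
    simp only [Bool.and_eq_true, Bool.or_eq_true, decide_eq_true_eq, beq_iff_eq] at hk' ⊢
    rcases hk' with (((((((((h | h) | h) | h) | h) | h) | h) | h) | h) | h)
    all_goals first | omega | exact ⟨h.1.1, h.1.2, h.2⟩
  have hNle : Nat.card N ≤ Nat.card M := by
    have hM : Nat.card M = 16 := by
      rw [Nat.card_eq_fintype_card, Fintype.card_subtype]; decide +kernel
    rw [hM]
    refine le_trans (le_of_eq ?_) hrest.1
    rw [Nat.card_eq_fintype_card, Fintype.card_subtype, ← Finset.card_map Fin.valEmbedding,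
      ← List.toFinset_card_of_nodup (List.nodup_range.filter _)]
    congr 1
    ext i
    simp only [Finset.mem_map, Finset.mem_filter, Finset.mem_univ, true_and, List.mem_toFinset, List.mem_filter,
      List.mem_range, Fin.valEmbedding_apply]
    exact ⟨fun ⟨a, ha, e⟩ => e ▸ ⟨a.2, ha⟩, fun hi => ⟨⟨i, hi.1⟩, hi.2, rfl⟩⟩
  have hsurj := (hφi.bijective_of_nat_card_le hNle).2
  have h98 : ∀ j, j = 2 ∨ j = 3 → ∀ hj : j < 192, ∃ n : M, (n.1 : ℕ) ∈ ([98, 104] : List ℕ) ∧
      D.F.el j = h * D.F.el n.1 * h⁻¹ := by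
    intro j hj2 hj
    obtain ⟨n, hn⟩ := hsurj ⟨⟨j, hj⟩, by rcases hj2 with rfl | rfl; exacts [hrest.2.1, hrest.2.2]⟩
    have he := hφ n
    rw [hn] at he
    refine ⟨n, ?_, he⟩
    have hj1 : IsConj s (D.F.el j) := D.F.isConj_lineE D.hA (D.F.lineE_mem (by omega)) (D.F.el_ne_one hj (by omega))
    have hj2' : IsConj s (D.F.el (mulS false j 10)) := by
      have h7 : kind (mulS false j 10) < 7 := by rcases hj2 with rfl | rfl <;> decide +kernel
      refine (D.isConj_iff_kind (mulS_lt false) h7).2 ?_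
      rcases hj2 with rfl | rfl <;> decide +kernel
    have hn7 : kind n.1 < 7 := (D.F.el_sq_iff n.1.2).1 (by
      have : D.F.el j * D.F.el j = 1 := D.F.lineE_sq (D.F.lineE_mem (by omega))
      rw [he] at this
      have := congrArg (fun z => h⁻¹ * z * h) this
      simpa [mul_assoc] using this)
    have hn1 : IsConj s (D.F.el n.1) := hj1.trans (isConj_iff.2 ⟨h⁻¹, by rw [he]; group⟩)
    have hn2 : IsConj s (D.F.el (mulS false n.1 10)) := by
      refine hj2'.trans (isConj_iff.2 ⟨h⁻¹, ?_⟩)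
      rw [D.F.el_mul hj (by omega), D.F.el_mul n.1.2 (by omega), he, show D.F.el 10 = D.u from rfl]
      conv_rhs => rw [← D.conj_u (inv_mem hhU)]
      group
    have hn27 : kind (mulS false n.1 10) < 7 := by
      obtain ⟨a, ha⟩ := isConj_iff.1 hn2
      exact (D.F.el_sq_iff (mulS_lt false)).1 (ha ▸ conj_sq D.F.s_sq a)
    have k1 := (D.isConj_iff_kind n.1.2 hn7).1 hn1
    have k2 := (D.isConj_iff_kind (mulS_lt false) hn27).1 hn2
    have hdE : allB 192 (fun n => !maskEa.testBit n || decide (kind n = 0 ∨ kind n = 4 ∨ kind n = 6 ∨ kind n = 7) ||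
        decide (kind (mulS false n 10) = 0 ∨ kind (mulS false n 10) = 4 ∨ kind (mulS false n 10) = 6 ∨
          kind (mulS false n 10) = 7) || n == 98 || n == 104) = true := by decide +kernel
    have h := allB_spec hdE n.1.2
    simp only [n.2, Bool.not_true, Bool.false_or, Bool.or_eq_true, decide_eq_true_eq, beq_iff_eq] at h
    simp only [List.mem_cons, List.not_mem_nil, or_false]
    omega
  obtain ⟨n2, hn2, he2⟩ := h98 2 (Or.inl rfl) (by omega)
  obtain ⟨n3, hn3, he3⟩ := h98 3 (Or.inr rfl) (by omega)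
  simp only [List.mem_cons, List.not_mem_nil, or_false] at hn2 hn3
  have hu' : h * D.F.el 10 * h⁻¹ = D.F.el 10 := D.conj_u hhU
  have hrel : D.F.el (n3.1 : ℕ) = D.F.el n2.1 ∨ D.F.el (n3.1 : ℕ) = D.F.el n2.1 * D.F.el 10 := by
    rw [← D.F.el_mul n2.1.2 (by omega)]
    rcases hn2 with a | a <;> rcases hn3 with b | b <;> rw [a, b]
    · exact Or.inl rfl
    · exact Or.inr (congrArg D.F.el (by decide +kernel))
    · exact Or.inr (congrArg D.F.el (by decide +kernel))
    · exact Or.inl rfl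
  rcases hrel with e | e
  · rw [e, ← he2] at he3
    have := D.F.el_inj (by omega) (by omega) he3
    omega
  · rw [e, show h * (D.F.el n2.1 * D.F.el 10) * h⁻¹ = h * D.F.el n2.1 * h⁻¹ * (h * D.F.el 10 * h⁻¹) by group, hu',
      ← he2, ← D.F.el_mul (by omega) (by omega)] at he3
    have := D.F.el_inj (by omega) (mulS_lt false) he3
    exact absurd this (by decide +kernel)

end Two

end CfsgLib.ExtraSpS3
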